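import Cfsg.Agent.Lib.ThDce.CSch.Data

/-! The equations hold. -/

set_option autoImplicit false
set_option maxRecDepth 20000
set_option Elab.async false

namespace Cfsg.Agent.Lib.ThDce.CSch

open Cfsg.Agent.Lib.CosetEnum

theorem facts0 : allFrom 0 256 (cCheck facts) = true := by decide +kernel

theorem facts1 : allFrom 256 256 (cCheck facts) = true := by decide +kernel

theorem facts2 : allFrom 512 256 (cCheck facts) = true := by decide +kernel

theorem facts3 : allFrom 768 256 (cCheck facts) = true := by decide +kernel

theorem facts4 : allFrom 1024 256 (cCheck facts) = true := by decide +kernel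

theorem facts5 : allFrom 1280 256 (cCheck facts) = true := by decide +kernel

theorem facts6 : allFrom 1536 256 (cCheck facts) = true := by decide +kernel

theorem facts7 : allFrom 1792 256 (cCheck facts) = true := by decide +kernel

theorem facts8 : allFrom 2048 256 (cCheck facts) = true := by decide +kernel

theorem facts9 : allFrom 2304 256 (cCheck facts) = true := by decide +kernel

theorem facts10 : allFrom 2560 256 (cCheck facts) = true := by decide +kernel

theorem facts11 : allFrom 2816 233 (cCheck facts) = true := by decide +kernel

theorem facts_ok : ∀ i < 3049, cCheck facts i = true := by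
  intro i hi
  by_cases h0 : i < 256
  · exact allFrom_iff.1 facts0 i (by omega) (by omega)
  by_cases h1 : i < 512
  · exact allFrom_iff.1 facts1 i (by omega) (by omega)
  by_cases h2 : i < 768
  · exact allFrom_iff.1 facts2 i (by omega) (by omega)
  by_cases h3 : i < 1024
  · exact allFrom_iff.1 facts3 i (by omega) (by omega)
  by_cases h4 : i < 1280
  · exact allFrom_iff.1 facts4 i (by omega) (by omega)
  by_cases h5 : i < 1536
  · exact allFrom_iff.1 facts5 i (by omega) (by omega)
  by_cases h6 : i < 1792
  · exact allFrom_iff.1 facts6 i (by omega) (by omega)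
  by_cases h7 : i < 2048
  · exact allFrom_iff.1 facts7 i (by omega) (by omega)
  by_cases h8 : i < 2304
  · exact allFrom_iff.1 facts8 i (by omega) (by omega)
  by_cases h9 : i < 2560
  · exact allFrom_iff.1 facts9 i (by omega) (by omega)
  by_cases h10 : i < 2816
  · exact allFrom_iff.1 facts10 i (by omega) (by omega)
  by_cases h11 : i < 3049
  · exact allFrom_iff.1 facts11 i (by omega) (by omega)
  omega

theorem tab0 : allFrom 0 30 (tab.checkAt facts 3049) = true := by decide +kernel

theorem tab1 : allFrom 30 30 (tab.checkAt facts 3049) = true := by decide +kernel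

theorem tab2 : allFrom 60 30 (tab.checkAt facts 3049) = true := by decide +kernel

theorem tab3 : allFrom 90 30 (tab.checkAt facts 3049) = true := by decide +kernel

theorem tab_ok : tab.OK := by
  refine CTab.ok_of_checks tab (by decide +kernel) (by decide +kernel) facts_ok fun j hj => ?_
  by_cases h0 : j < 30
  · exact allFrom_iff.1 tab0 j (by omega) (by omega)
  by_cases h1 : j < 60
  · exact allFrom_iff.1 tab1 j (by omega) (by omega)
  by_cases h2 : j < 90
  · exact allFrom_iff.1 tab2 j (by omega) (by omega)
  exact allFrom_iff.1 tab3 j (by omega) (by omega)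

end Cfsg.Agent.Lib.ThDce.CSch
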