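import Cfsg.Agent.Lib.ThDce.CSch.Defs

/-! Generated equations of the coset table of the centraliser. -/

set_option autoImplicit false
set_option maxRecDepth 20000
set_option Elab.async false

namespace Cfsg.Agent.Lib.ThDce.CSch

/-- Equations. -/
def part0 : List CFact := [
  ⟨[14], [], [14], []⟩,
  ⟨[14, 6], [], [14, 6], []⟩,
  ⟨[14, 10], [], [14, 10], []⟩,
  ⟨[14, 11], [], [14, 11], []⟩,
  ⟨[14, 6, 8], [], [14, 6, 8], []⟩,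
  ⟨[14, 6, 10], [], [14, 6, 10], []⟩,
  ⟨[14, 6, 11], [], [14, 6, 11], []⟩,
  ⟨[14, 6, 14], [], [14, 6, 14], []⟩,
  ⟨[14, 10, 10], [], [14, 10, 10], []⟩,
  ⟨[14, 10, 13], [], [14, 10, 13], []⟩,
  ⟨[14, 11, 11], [], [14, 11, 11], []⟩,
  ⟨[14, 11, 13], [], [14, 11, 13], []⟩,
  ⟨[14, 6, 8, 10], [], [14, 6, 8, 10], []⟩,
  ⟨[14, 6, 8, 11], [], [14, 6, 8, 11], []⟩,
  ⟨[14, 6, 8, 14], [], [14, 6, 8, 14], []⟩,
  ⟨[14, 6, 10, 8], [], [14, 6, 10, 8], []⟩,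
  ⟨[14, 6, 10, 10], [], [14, 6, 10, 10], []⟩,
  ⟨[14, 6, 10, 13], [], [14, 6, 10, 13], []⟩,
  ⟨[14, 6, 10, 14], [], [14, 6, 10, 14], []⟩,
  ⟨[14, 6, 11, 8], [], [14, 6, 11, 8], []⟩,
  ⟨[14, 6, 11, 11], [], [14, 6, 11, 11], []⟩,
  ⟨[14, 6, 11, 13], [], [14, 6, 11, 13], []⟩,
  ⟨[14, 6, 11, 14], [], [14, 6, 11, 14], []⟩,
  ⟨[14, 6, 14, 10], [], [14, 6, 14, 10], []⟩,
  ⟨[14, 6, 14, 11], [], [14, 6, 14, 11], []⟩,
  ⟨[14, 6, 8, 10, 8], [], [14, 6, 8, 10, 8], []⟩,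
  ⟨[14, 6, 8, 10, 10], [], [14, 6, 8, 10, 10], []⟩,
  ⟨[14, 6, 8, 10, 13], [], [14, 6, 8, 10, 13], []⟩,
  ⟨[14, 6, 8, 10, 14], [], [14, 6, 8, 10, 14], []⟩,
  ⟨[14, 6, 8, 11, 8], [], [14, 6, 8, 11, 8], []⟩,
  ⟨[14, 6, 8, 11, 11], [], [14, 6, 8, 11, 11], []⟩,
  ⟨[14, 6, 8, 11, 13], [], [14, 6, 8, 11, 13], []⟩,
  ⟨[14, 6, 8, 11, 14], [], [14, 6, 8, 11, 14], []⟩,
  ⟨[14, 6, 8, 14, 10], [], [14, 6, 8, 14, 10], []⟩,
  ⟨[14, 6, 8, 14, 11], [], [14, 6, 8, 14, 11], []⟩,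
  ⟨[14, 6, 10, 8, 10], [], [14, 6, 10, 8, 10], []⟩,
  ⟨[14, 6, 10, 8, 11], [], [14, 6, 10, 8, 11], []⟩,
  ⟨[14, 6, 10, 8, 12], [], [14, 6, 10, 8, 12], []⟩,
  ⟨[14, 6, 10, 8, 13], [], [14, 6, 10, 8, 13], []⟩,
  ⟨[14, 6, 10, 8, 14], [], [14, 6, 10, 8, 14], []⟩,
  ⟨[14, 6, 10, 10, 14], [], [14, 6, 10, 10, 14], []⟩,
  ⟨[14, 6, 10, 13, 14], [], [14, 6, 10, 13, 14], []⟩,
  ⟨[14, 6, 10, 14, 6], [], [14, 6, 10, 14, 6], []⟩,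
  ⟨[14, 6, 10, 14, 10], [], [14, 6, 10, 14, 10], []⟩,
  ⟨[14, 6, 10, 14, 11], [], [14, 6, 10, 14, 11], []⟩,
  ⟨[14, 6, 11, 8, 10], [], [14, 6, 11, 8, 10], []⟩,
  ⟨[14, 6, 11, 8, 12], [], [14, 6, 11, 8, 12], []⟩,
  ⟨[14, 6, 11, 8, 13], [], [14, 6, 11, 8, 13], []⟩,
  ⟨[14, 6, 11, 8, 14], [], [14, 6, 11, 8, 14], []⟩,
  ⟨[14, 6, 11, 11, 14], [], [14, 6, 11, 11, 14], []⟩,
  ⟨[14, 6, 11, 13, 14], [], [14, 6, 11, 13, 14], []⟩,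
  ⟨[14, 6, 11, 14, 11], [], [14, 6, 11, 14, 11], []⟩,
  ⟨[14, 6, 14, 10, 8], [], [14, 6, 14, 10, 8], []⟩,
  ⟨[14, 6, 14, 10, 10], [], [14, 6, 14, 10, 10], []⟩,
  ⟨[14, 6, 14, 10, 13], [], [14, 6, 14, 10, 13], []⟩,
  ⟨[14, 6, 14, 11, 8], [], [14, 6, 14, 11, 8], []⟩,
  ⟨[14, 6, 14, 11, 11], [], [14, 6, 14, 11, 11], []⟩,
  ⟨[14, 6, 14, 11, 13], [], [14, 6, 14, 11, 13], []⟩,
  ⟨[14, 6, 8, 10, 8, 6], [], [14, 6, 8, 10, 8, 6], []⟩,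
  ⟨[14, 6, 8, 10, 8, 11], [], [14, 6, 8, 10, 8, 11], []⟩,
  ⟨[14, 6, 8, 10, 8, 12], [], [14, 6, 8, 10, 8, 12], []⟩,
  ⟨[14, 6, 8, 10, 10, 14], [], [14, 6, 8, 10, 10, 14], []⟩,
  ⟨[14, 6, 8, 10, 14, 6], [], [14, 6, 8, 10, 14, 6], []⟩,
  ⟨[14, 6, 8, 10, 14, 10], [], [14, 6, 8, 10, 14, 10], []⟩]

/-- Equations. -/
def part1 : List CFact := [
  ⟨[14, 6, 8, 10, 14, 11], [], [14, 6, 8, 10, 14, 11], []⟩,
  ⟨[14, 6, 8, 11, 8, 6], [], [14, 6, 8, 11, 8, 6], []⟩,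
  ⟨[14, 6, 8, 11, 8, 10], [], [14, 6, 8, 11, 8, 10], []⟩,
  ⟨[14, 6, 8, 11, 8, 11], [], [14, 6, 8, 11, 8, 11], []⟩,
  ⟨[14, 6, 8, 11, 8, 13], [], [14, 6, 8, 11, 8, 13], []⟩,
  ⟨[14, 6, 8, 11, 14, 6], [], [14, 6, 8, 11, 14, 6], []⟩,
  ⟨[14, 6, 8, 11, 14, 10], [], [14, 6, 8, 11, 14, 10], []⟩,
  ⟨[14, 6, 8, 14, 10, 8], [], [14, 6, 8, 14, 10, 8], []⟩,
  ⟨[14, 6, 8, 14, 10, 10], [], [14, 6, 8, 14, 10, 10], []⟩,
  ⟨[14, 6, 8, 14, 10, 13], [], [14, 6, 8, 14, 10, 13], []⟩,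
  ⟨[14, 6, 8, 14, 11, 8], [], [14, 6, 8, 14, 11, 8], []⟩,
  ⟨[14, 6, 8, 14, 11, 11], [], [14, 6, 8, 14, 11, 11], []⟩,
  ⟨[14, 6, 8, 14, 11, 13], [], [14, 6, 8, 14, 11, 13], []⟩,
  ⟨[14, 6, 10, 8, 10, 8], [], [14, 6, 10, 8, 10, 8], []⟩,
  ⟨[14, 6, 10, 8, 10, 10], [], [14, 6, 10, 8, 10, 10], []⟩,
  ⟨[14, 6, 10, 8, 10, 12], [], [14, 6, 10, 8, 10, 12], []⟩,
  ⟨[14, 6, 10, 8, 10, 13], [], [14, 6, 10, 8, 10, 13], []⟩,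
  ⟨[14, 6, 10, 8, 10, 14], [], [14, 6, 10, 8, 10, 14], []⟩,
  ⟨[14, 6, 10, 8, 11, 12], [], [14, 6, 10, 8, 11, 12], []⟩,
  ⟨[14, 6, 10, 8, 11, 14], [], [14, 6, 10, 8, 11, 14], []⟩,
  ⟨[14, 6, 10, 8, 12, 11], [], [14, 6, 10, 8, 12, 11], []⟩,
  ⟨[14, 6, 10, 8, 12, 14], [], [14, 6, 10, 8, 12, 14], []⟩,
  ⟨[14, 6, 10, 8, 13, 11], [], [14, 6, 10, 8, 13, 11], []⟩,
  ⟨[14, 6, 10, 8, 13, 14], [], [14, 6, 10, 8, 13, 14], []⟩,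
  ⟨[14, 6, 10, 8, 14, 6], [], [14, 6, 10, 8, 14, 6], []⟩,
  ⟨[14, 6, 10, 8, 14, 10], [], [14, 6, 10, 8, 14, 10], []⟩,
  ⟨[14, 6, 10, 8, 14, 11], [], [14, 6, 10, 8, 14, 11], []⟩,
  ⟨[14, 6, 10, 10, 14, 10], [], [14, 6, 10, 10, 14, 10], []⟩,
  ⟨[14, 6, 10, 10, 14, 11], [], [14, 6, 10, 10, 14, 11], []⟩,
  ⟨[14, 6, 10, 13, 14, 6], [], [14, 6, 10, 13, 14, 6], []⟩,
  ⟨[14, 6, 10, 13, 14, 10], [], [14, 6, 10, 13, 14, 10], []⟩,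
  ⟨[14, 6, 10, 13, 14, 11], [], [14, 6, 10, 13, 14, 11], []⟩,
  ⟨[14, 6, 10, 14, 6, 8], [], [14, 6, 10, 14, 6, 8], []⟩,
  ⟨[14, 6, 10, 14, 6, 11], [], [14, 6, 10, 14, 6, 11], []⟩,
  ⟨[14, 6, 10, 14, 10, 10], [], [14, 6, 10, 14, 10, 10], []⟩,
  ⟨[14, 6, 10, 14, 10, 12], [], [14, 6, 10, 14, 10, 12], []⟩,
  ⟨[14, 6, 10, 14, 11, 11], [], [14, 6, 10, 14, 11, 11], []⟩,
  ⟨[14, 6, 10, 14, 11, 12], [], [14, 6, 10, 14, 11, 12], []⟩,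
  ⟨[14, 6, 11, 8, 10, 10], [], [14, 6, 11, 8, 10, 10], []⟩,
  ⟨[14, 6, 11, 8, 10, 13], [], [14, 6, 11, 8, 10, 13], []⟩,
  ⟨[14, 6, 11, 8, 12, 10], [], [14, 6, 11, 8, 12, 10], []⟩,
  ⟨[14, 6, 11, 8, 12, 11], [], [14, 6, 11, 8, 12, 11], []⟩,
  ⟨[14, 6, 11, 8, 13, 10], [], [14, 6, 11, 8, 13, 10], []⟩,
  ⟨[14, 6, 11, 8, 13, 14], [], [14, 6, 11, 8, 13, 14], []⟩,
  ⟨[14, 6, 11, 8, 14, 6], [], [14, 6, 11, 8, 14, 6], []⟩,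
  ⟨[14, 6, 14, 11, 8, 10], [], [14, 6, 14, 11, 8, 10], []⟩,
  ⟨[14, 6, 8, 10, 10, 14, 11], [], [14, 6, 8, 10, 10, 14, 11], []⟩,
  ⟨[14, 6, 8, 10, 14, 6, 8], [], [14, 6, 8, 10, 14, 6, 8], []⟩,
  ⟨[14, 6, 8, 10, 14, 6, 11], [], [14, 6, 8, 10, 14, 6, 11], []⟩,
  ⟨[14, 6, 8, 10, 14, 10, 12], [], [14, 6, 8, 10, 14, 10, 12], []⟩,
  ⟨[14, 6, 8, 10, 14, 10, 13], [], [14, 6, 8, 10, 14, 10, 13], []⟩,
  ⟨[14, 6, 8, 11, 8, 11, 8], [], [14, 6, 8, 11, 8, 11, 8], []⟩,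
  ⟨[14, 6, 8, 11, 8, 11, 13], [], [14, 6, 8, 11, 8, 11, 13], []⟩,
  ⟨[14, 6, 8, 14, 11, 8, 12], [], [14, 6, 8, 14, 11, 8, 12], []⟩,
  ⟨[14, 6, 10, 8, 10, 13, 14], [], [14, 6, 10, 8, 10, 13, 14], []⟩,
  ⟨[0], [0], [], []⟩,
  ⟨[4], [4], [], []⟩,
  ⟨[6], [6], [], []⟩,
  ⟨[8], [8], [], []⟩,
  ⟨[10], [10], [], []⟩,
  ⟨[12], [12], [], []⟩,
  ⟨[14, 14], [0, 4], [], [.use 0 true, .rel 0 2 (21, false, 0), .use 119 false, .use 120 false]⟩,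
  ⟨[14, 1], [0], [14], [.ins 1 14, .use 125 false, .rel 0 2 (22, false, 0), .use 119 true, .cancel 0, .use 125 true, .cancel 1]⟩,
  ⟨[14, 5], [4], [14], [.ins 1 14, .use 125 false, .rel 0 2 (23, false, 0), .use 120 true, .cancel 0, .use 125 true, .cancel 1]⟩]

/-- Equations. -/
def part2 : List CFact := [
  ⟨[14, 9], [8], [14], [.ins 1 14, .use 125 false, .rel 0 2 (24, false, 0), .use 122 true, .cancel 0, .use 125 true, .cancel 1]⟩,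
  ⟨[14, 12], [13], [14], [.ins 1 14, .use 125 false, .rel 0 2 (26, false, 0), .use 124 true, .cancel 0, .use 125 true, .cancel 1]⟩,
  ⟨[14, 10, 10, 8], [10, 10, 8, 11, 11], [14, 10, 10], [.use 8 true, .use 2 true, .ins 1 14, .use 125 false, .ins 0 10, .use 123 false, .ins 0 10, .use 123 false, .ins 0 8, .use 122 false, .rel 0 7 (27, false, 0), .use 123 true, .cancel 0, .use 123 true, .cancel 0, .use 125 true, .cancel 1, .use 2 false, .use 8 false]⟩,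
  ⟨[14, 11, 15], [10], [14, 10], [.use 3 true, .ins 1 14, .use 125 false, .ins 0 10, .use 123 false, .use 120 true, .use 119 true, .rel 0 6 (28, false, 0), .use 0 false, .use 2 false]⟩,
  ⟨[14, 6, 6], [], [14], [.use 1 true, .rel 1 2 (4, false, 0)]⟩,
  ⟨[14, 11, 1], [0], [14, 11], [.use 3 true, .rel 1 2 (11, false, 0), .use 126 false, .use 3 false]⟩,
  ⟨[14, 10, 0], [0], [14, 10], [.use 2 true, .use 126 true, .rel 1 3 (11, false, 1), .use 2 false]⟩,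
  ⟨[14, 11, 5], [4], [14, 11], [.use 3 true, .rel 1 2 (12, false, 0), .use 127 false, .use 3 false]⟩,
  ⟨[14, 10, 4], [4], [14, 10], [.use 2 true, .use 127 true, .rel 1 3 (12, false, 1), .use 2 false]⟩,
  ⟨[14, 10, 6], [], [14, 6, 11], [.use 2 true, .rel 1 2 (13, false, 0), .use 132 true, .cancel 2, .use 6 false]⟩,
  ⟨[14, 6, 10, 6], [], [14, 11], [.use 5 true, .use 1 true, .rel 1 3 (13, false, 1), .use 3 false]⟩,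
  ⟨[14, 6, 12], [13], [14, 6], [.ins 2 6, .use 132 false, .ins 1 12, .use 129 false, .rel 1 3 (18, false, 0), .use 132 true, .cancel 2]⟩,
  ⟨[14, 10, 12], [13], [14, 10, 10], [.use 2 true, .ins 1 12, .use 129 false, .rel 1 3 (20, false, 0), .use 2 false, .use 8 false]⟩,
  ⟨[14, 11, 11, 13], [12], [14, 11], [.use 10 true, .use 3 true, .use 129 true, .rel 1 4 (20, false, 2), .use 3 false]⟩,
  ⟨[14, 11, 13, 10], [], [14, 10, 13], [.use 11 true, .use 3 true, .rel 1 3 (20, false, 4), .use 2 false, .use 9 false]⟩,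
  ⟨[14, 6, 8, 8], [], [14, 6], [.use 4 true, .rel 2 2 (5, false, 0)]⟩,
  ⟨[14, 6, 8, 6], [8], [14, 6, 8], [.use 4 true, .use 1 true, .ins 1 9, .use 128 false, .use 132 true, .rel 2 5 (9, false, 0), .use 143 true, .cancel 3]⟩,
  ⟨[14, 6, 8, 12], [13], [14, 6, 8], [.ins 3 8, .use 143 false, .ins 2 12, .use 139 false, .rel 2 3 (19, false, 0), .use 143 true, .cancel 3]⟩,
  ⟨[14, 6, 10, 12], [13], [14, 6, 10, 10], [.use 5 true, .ins 2 12, .use 139 false, .rel 2 3 (20, false, 0), .use 5 false, .use 16 false]⟩,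
  ⟨[14, 6, 11, 11, 13], [12], [14, 6, 11], [.use 20 true, .use 6 true, .use 139 true, .rel 2 4 (20, false, 2), .use 6 false]⟩,
  ⟨[14, 6, 11, 13, 10], [], [14, 6, 10, 13], [.use 21 true, .use 6 true, .rel 2 3 (20, false, 4), .use 5 false, .use 17 false]⟩,
  ⟨[14, 6, 8, 14, 8], [], [14, 6, 14], [.use 14 true, .ins 3 8, .use 143 false, .rel 2 3 (24, false, 1), .use 7 false]⟩,
  ⟨[14, 6, 14, 8], [], [14, 6, 8, 14], [.use 7 true, .rel 2 2 (24, false, 2), .use 4 false, .use 14 false]⟩,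
  ⟨[14, 6, 14, 6], [4, 8, 6, 4], [14, 6, 8, 14], [.use 7 true, .use 1 true, .ins 1 14, .use 125 false, .use 122 true, .use 121 true, .use 125 true, .use 132 true, .rel 2 8 (25, false, 3), .use 7 false, .use 149 true, .cancel 4]⟩,
  ⟨[14, 6, 14, 12], [12], [14, 6, 14], [.use 7 true, .use 139 true, .rel 2 3 (26, false, 1), .use 7 false]⟩,
  ⟨[14, 6, 11, 6], [], [14, 10], [.use 137 true, .rel 2 2 (4, false, 0)]⟩,
  ⟨[14, 10, 10, 0], [0], [14, 10, 10], [.use 8 true, .ins 2 0, .use 134 false, .rel 2 3 (11, false, 1), .use 8 false]⟩,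
  ⟨[14, 10, 10, 4], [4], [14, 10, 10], [.use 8 true, .ins 2 4, .use 136 false, .rel 2 3 (12, false, 1), .use 8 false]⟩,
  ⟨[14, 10, 10, 6], [], [14, 6, 11, 11], [.use 8 true, .rel 2 2 (13, false, 0), .use 153 true, .cancel 3, .use 20 false]⟩,
  ⟨[14, 10, 10, 12], [12], [14, 10, 13], [.use 140 true, .rel 2 2 (15, false, 0), .use 9 false]⟩,
  ⟨[14, 10, 13, 1], [0], [14, 10, 13], [.use 9 true, .rel 2 2 (16, false, 0), .use 134 true, .cancel 2, .use 9 false]⟩,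
  ⟨[14, 10, 13, 5], [4], [14, 10, 13], [.use 9 true, .rel 2 2 (17, false, 0), .use 136 true, .cancel 2, .use 9 false]⟩,
  ⟨[14, 10, 13, 7], [], [14, 6, 11, 13], [.use 9 true, .rel 2 2 (18, false, 0), .use 153 true, .cancel 3, .use 21 false]⟩,
  ⟨[14, 6, 11, 11, 6], [], [14, 10, 10], [.ins 4 13, .use 147 false, .ins 3 6, .use 153 false, .rel 2 3 (18, false, 1), .use 140 false]⟩,
  ⟨[14, 6, 11, 13, 7], [], [14, 10, 13], [.use 21 true, .use 137 true, .rel 2 3 (18, false, 3), .use 9 false]⟩,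
  ⟨[14, 10, 9], [8, 11, 8, 10], [14, 10], [.rel 2 1 (19, false, 1), .use 140 false, .use 130 true, .cancel 3, .use 140 true, .cancel 2]⟩,
  ⟨[14, 10, 13, 9], [8, 11, 8, 10], [14, 10, 13], [.use 9 true, .ins 2 9, .use 163 false, .rel 2 3 (19, false, 3), .use 9 false]⟩,
  ⟨[14, 11, 13, 11], [12], [14, 10, 10], [.ins 3 10, .use 142 false, .use 157 true, .use 8 true, .rel 2 4 (20, false, 1), .use 140 false]⟩,
  ⟨[14, 11, 14], [0, 4, 10], [14, 10], [.ins 2 15, .use 131 false, .rel 2 2 (21, false, 0), .use 134 false, .use 136 false]⟩,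
  ⟨[14, 11, 9], [8, 10, 8, 11], [14, 11], [.ins 2 14, .use 166 false, .rel 2 2 (24, false, 0), .use 163 false, .use 166 true, .cancel 2]⟩,
  ⟨[14, 11, 11, 14], [0, 4, 12, 10], [14, 10, 13], [.ins 3 13, .use 141 false, .ins 2 14, .use 166 false, .rel 2 3 (26, false, 0), .use 9 false]⟩,
  ⟨[14, 10, 10, 14], [12, 11], [14, 11, 13], [.use 140 true, .rel 2 2 (26, false, 1), .use 131 true, .cancel 2, .use 11 false]⟩,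
  ⟨[14, 11, 11, 15], [12, 10], [14, 10, 13], [.ins 3 13, .use 141 false, .ins 2 15, .use 131 false, .rel 2 3 (26, false, 2), .use 9 false]⟩,
  ⟨[14, 10, 10, 15], [0, 4, 12, 11], [14, 11, 13], [.use 140 true, .rel 2 2 (26, false, 3), .use 166 true, .cancel 2, .use 11 false]⟩,
  ⟨[14, 11, 13, 8], [8, 10, 8, 11], [14, 11, 13], [.ins 3 11, .use 165 false, .use 8 true, .use 131 true, .use 3 true, .ins 1 10, .use 2 false, .use 163 true, .rel 2 7 (27, false, 0), .use 2 true, .cancel 1, .use 3 false, .use 131 false, .use 8 false, .use 165 true, .cancel 3]⟩,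
  ⟨[14, 11, 11, 11], [13], [14, 10, 13], [.ins 3 15, .use 170 false, .use 142 true, .use 171 true, .use 165 true, .use 169 true, .use 8 true, .use 131 true, .use 3 true, .use 0 true, .use 123 true, .ins 0 14, .use 0 false, .ins 1 10, .use 2 false, .use 136 true, .use 134 true, .rel 2 15 (29, false, 0), .use 166 true, .cancel 2, .use 10 false, .use 168 false]⟩,
  ⟨[14, 11, 6], [], [14, 6, 10], [.rel 2 1 (4, false, 0), .use 138 true, .cancel 3]⟩,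
  ⟨[14, 11, 11, 1], [0], [14, 11, 11], [.use 10 true, .rel 2 2 (11, false, 0), .use 133 false, .use 10 false]⟩,
  ⟨[14, 11, 11, 5], [4], [14, 11, 11], [.use 10 true, .rel 2 2 (12, false, 0), .use 135 false, .use 10 false]⟩,
  ⟨[14, 6, 10, 10, 6], [], [14, 11, 11], [.use 16 true, .use 174 true, .rel 2 3 (13, false, 1), .use 10 false]⟩,
  ⟨[14, 11, 11, 8], [11, 8, 10], [14, 11, 11], [.use 10 true, .use 167 true, .rel 2 3 (14, false, 0), .use 10 false, .use 173 false, .use 142 true, .cancel 3, .use 172 false, .use 142 false, .use 173 true, .cancel 3, .use 10 true, .cancel 2, .use 10 false]⟩,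
  ⟨[14, 11, 11, 12], [12], [14, 11, 13], [.ins 3 13, .use 141 false, .rel 2 2 (15, false, 0), .use 11 false]⟩,
  ⟨[14, 11, 13, 1], [0], [14, 11, 13], [.use 11 true, .rel 2 2 (16, false, 0), .use 133 false, .use 11 false]⟩,
  ⟨[14, 11, 13, 5], [4], [14, 11, 13], [.use 11 true, .rel 2 2 (17, false, 0), .use 135 false, .use 11 false]⟩,
  ⟨[14, 11, 13, 7], [], [14, 6, 10, 13], [.use 11 true, .rel 2 2 (18, false, 0), .use 138 true, .cancel 3, .use 17 false]⟩,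
  ⟨[14, 11, 11, 6], [], [14, 6, 10, 10], [.ins 3 13, .use 141 false, .rel 2 2 (18, false, 2), .use 174 false, .use 146 false]⟩,
  ⟨[14, 6, 10, 13, 7], [], [14, 11, 13], [.use 17 true, .use 174 true, .rel 2 3 (18, false, 3), .use 11 false]⟩,
  ⟨[14, 6, 8, 10, 6], [8], [14, 6, 8, 11], [.use 12 true, .rel 3 2 (13, false, 0), .use 144 true, .cancel 3, .use 13 false]⟩,
  ⟨[14, 6, 8, 10, 12], [13], [14, 6, 8, 10, 10], [.use 12 true, .ins 3 12, .use 145 false, .rel 3 3 (20, false, 0), .use 12 false, .use 26 false]⟩,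
  ⟨[14, 6, 8, 11, 11, 13], [12], [14, 6, 8, 11], [.use 30 true, .use 13 true, .use 145 true, .rel 3 4 (20, false, 2), .use 13 false]⟩,
  ⟨[14, 6, 8, 11, 13, 10], [], [14, 6, 8, 10, 13], [.use 31 true, .use 13 true, .rel 3 3 (20, false, 4), .use 12 false, .use 27 false]⟩,
  ⟨[14, 6, 8, 14, 12], [12], [14, 6, 8, 14], [.use 14 true, .use 145 true, .rel 3 3 (26, false, 1), .use 14 false]⟩,
  ⟨[14, 6, 10, 8, 8], [], [14, 6, 10], [.use 15 true, .rel 3 2 (5, false, 0)]⟩,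
  ⟨[14, 6, 10, 8, 6], [8, 10, 8, 11], [14, 6, 10, 8], [.use 15 true, .use 174 true, .ins 2 9, .use 167 false, .use 138 true, .rel 3 5 (9, false, 0), .use 190 true, .cancel 4]⟩]

/-- Equations. -/
def part3 : List CFact := [
  ⟨[14, 6, 10, 10, 12], [12], [14, 6, 10, 13], [.use 146 true, .rel 3 2 (15, false, 0), .use 17 false]⟩,
  ⟨[14, 6, 10, 13, 9], [], [14, 6, 10, 8, 13], [.use 17 true, .rel 3 2 (19, false, 0), .use 190 true, .cancel 4, .use 38 false]⟩,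
  ⟨[14, 6, 10, 8, 12, 8], [13], [14, 6, 10, 10], [.use 37 true, .ins 4 8, .use 190 false, .rel 3 3 (19, false, 1), .use 146 false]⟩,
  ⟨[14, 6, 10, 10, 8], [12], [14, 6, 10, 8, 12], [.use 146 true, .rel 3 2 (19, false, 2), .use 15 false, .use 37 false]⟩,
  ⟨[14, 6, 10, 8, 13, 9], [], [14, 6, 10, 13], [.use 38 true, .use 15 true, .rel 3 3 (19, false, 3), .use 17 false]⟩,
  ⟨[14, 6, 11, 13, 11], [12], [14, 6, 10, 10], [.ins 4 10, .use 148 false, .use 192 true, .use 16 true, .rel 3 4 (20, false, 1), .use 146 false]⟩,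
  ⟨[14, 6, 10, 8, 14, 8], [], [14, 6, 10, 14], [.use 39 true, .ins 4 8, .use 190 false, .rel 3 3 (24, false, 1), .use 18 false]⟩,
  ⟨[14, 6, 10, 14, 8], [], [14, 6, 10, 8, 14], [.use 18 true, .rel 3 2 (24, false, 2), .use 15 false, .use 39 false]⟩,
  ⟨[14, 6, 10, 10, 14, 12], [12], [14, 6, 10, 14], [.use 40 true, .use 146 true, .rel 3 3 (26, false, 1), .use 18 false]⟩,
  ⟨[14, 6, 10, 14, 12], [], [14, 6, 10, 13, 14], [.use 18 true, .rel 3 2 (26, false, 2), .use 17 false, .use 41 false]⟩,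
  ⟨[14, 6, 11, 8, 8], [], [14, 6, 11], [.use 19 true, .rel 3 2 (5, false, 0)]⟩,
  ⟨[14, 6, 11, 8, 6], [8, 11, 8, 10], [14, 6, 11, 8], [.use 19 true, .use 137 true, .ins 2 9, .use 163 false, .use 153 true, .rel 3 5 (9, false, 0), .use 202 true, .cancel 4]⟩,
  ⟨[14, 6, 10, 13, 10], [12], [14, 6, 11, 11], [.use 148 true, .ins 4 11, .use 197 false, .use 16 true, .use 5 true, .ins 2 11, .use 6 false, .rel 3 6 (10, false, 0), .use 20 false]⟩,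
  ⟨[14, 6, 11, 8, 10, 10, 10], [], [14, 6, 10, 8, 10, 8], [.use 102 true, .use 45 true, .ins 4 8, .use 202 false, .rel 3 4 (14, false, 7), .use 6 true, .cancel 2, .use 5 false, .use 16 false, .use 16 true, .cancel 3, .use 190 true, .cancel 4, .use 35 false, .use 77 false]⟩,
  ⟨[14, 6, 10, 8, 12, 11, 8], [13], [14, 6, 11, 8, 10, 10], [.use 84 true, .ins 5 8, .use 194 false, .use 16 true, .use 5 true, .ins 2 11, .use 6 false, .rel 3 6 (14, false, 8), .use 19 false, .use 45 false, .use 102 false, .use 205 false, .use 205 true, .cancel 6]⟩,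
  ⟨[14, 6, 8, 11, 8, 11, 11], [13], [14, 6, 10, 8, 13], [.use 67 true, .ins 5 10, .use 66 false, .use 66 true, .use 29 true, .use 13 true, .ins 3 8, .use 143 false, .ins 2 11, .use 6 false, .rel 3 8 (14, false, 10), .use 20 false, .use 204 true, .cancel 4, .use 196 true, .cancel 5]⟩,
  ⟨[14, 6, 11, 8, 10, 8], [], [14, 6, 8, 11, 8, 10], [.use 45 true, .ins 4 8, .use 202 false, .use 6 true, .ins 2 11, .use 6 false, .rel 3 5 (14, true, 6), .use 20 false, .use 204 true, .cancel 4, .use 193 false, .use 207 true, .cancel 6, .use 67 true, .cancel 5, .use 66 false]⟩,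
  ⟨[14, 6, 11, 11, 12], [12], [14, 6, 11, 13], [.ins 4 13, .use 147 false, .rel 3 2 (15, false, 0), .use 21 false]⟩,
  ⟨[14, 6, 11, 13, 9], [], [14, 6, 11, 8, 13], [.use 21 true, .rel 3 2 (19, false, 0), .use 202 true, .cancel 4, .use 47 false]⟩,
  ⟨[14, 6, 11, 8, 12, 8], [13], [14, 6, 11, 11], [.use 46 true, .ins 4 8, .use 202 false, .rel 3 3 (19, false, 1), .use 147 true, .cancel 4]⟩,
  ⟨[14, 6, 11, 11, 8], [12], [14, 6, 11, 8, 12], [.ins 4 13, .use 147 false, .rel 3 2 (19, false, 2), .use 19 false, .use 46 false]⟩,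
  ⟨[14, 6, 11, 8, 13, 9], [], [14, 6, 11, 13], [.use 47 true, .use 19 true, .rel 3 3 (19, false, 3), .use 21 false]⟩,
  ⟨[14, 6, 11, 8, 14, 8], [], [14, 6, 11, 14], [.use 48 true, .ins 4 8, .use 202 false, .rel 3 3 (24, false, 1), .use 22 false]⟩,
  ⟨[14, 6, 11, 14, 8], [], [14, 6, 11, 8, 14], [.use 22 true, .rel 3 2 (24, false, 2), .use 19 false, .use 48 false]⟩,
  ⟨[14, 6, 11, 11, 14, 12], [12], [14, 6, 11, 14], [.use 49 true, .ins 4 13, .use 147 false, .rel 3 3 (26, false, 1), .use 22 false]⟩,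
  ⟨[14, 6, 11, 14, 12], [], [14, 6, 11, 13, 14], [.use 22 true, .rel 3 2 (26, false, 2), .use 21 false, .use 50 false]⟩,
  ⟨[14, 6, 8, 14, 6], [4, 6, 4, 8], [14, 6, 14], [.use 151 true, .rel 3 2 (4, false, 0)]⟩,
  ⟨[14, 6, 14, 10, 6], [4, 8, 6, 4], [14, 6, 8, 14, 11], [.use 23 true, .rel 3 2 (13, false, 0), .use 218 true, .cancel 4, .use 34 false]⟩,
  ⟨[14, 6, 8, 14, 10, 6], [4, 6, 4, 8], [14, 6, 14, 11], [.use 33 true, .use 151 true, .rel 3 3 (13, false, 1), .use 24 false]⟩,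
  ⟨[14, 6, 14, 10, 12], [12], [14, 6, 14, 10, 10], [.use 23 true, .ins 3 12, .use 152 false, .rel 3 3 (20, false, 0), .use 23 false, .use 53 false]⟩,
  ⟨[14, 6, 14, 11, 11, 13], [13], [14, 6, 14, 11], [.use 56 true, .use 24 true, .use 152 true, .rel 3 4 (20, false, 2), .use 24 false]⟩,
  ⟨[14, 6, 14, 11, 13, 10], [], [14, 6, 14, 10, 13], [.use 57 true, .use 24 true, .rel 3 3 (20, false, 4), .use 23 false, .use 54 false]⟩,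
  ⟨[14, 6, 11, 8, 12, 6], [8, 11, 8, 10], [14, 6, 11, 8, 12], [.use 212 true, .use 156 true, .rel 3 3 (9, false, 0), .use 130 true, .cancel 3, .use 161 true, .cancel 4, .use 211 true, .cancel 5]⟩,
  ⟨[14, 6, 11, 8, 13, 6], [8, 11, 8, 10], [14, 6, 11, 8, 13], [.ins 5 9, .use 213 false, .ins 4 7, .use 162 false, .rel 3 3 (9, false, 0), .use 164 false, .use 160 false, .use 210 false]⟩,
  ⟨[14, 6, 10, 8, 12, 6], [8, 10, 8, 11], [14, 6, 10, 8, 12], [.use 195 true, .use 183 true, .rel 3 3 (9, false, 0), .use 178 true, .cancel 3, .use 177 true, .cancel 4, .use 194 true, .cancel 5]⟩,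
  ⟨[14, 6, 10, 8, 13, 6], [8, 10, 8, 11], [14, 6, 10, 8, 13], [.ins 5 9, .use 196 false, .ins 4 7, .use 184 false, .rel 3 3 (9, false, 0), .use 172 true, .cancel 3, .use 182 false, .use 193 false]⟩,
  ⟨[14, 6, 8, 11, 6], [8], [14, 6, 8, 10], [.use 185 true, .rel 4 2 (4, false, 0)]⟩,
  ⟨[14, 6, 8, 10, 8, 8], [], [14, 6, 8, 10], [.use 25 true, .rel 4 2 (5, false, 0)]⟩,
  ⟨[14, 6, 8, 10, 10, 6], [8], [14, 6, 8, 11, 11], [.use 26 true, .rel 4 2 (13, false, 0), .use 228 true, .cancel 4, .use 30 false]⟩,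
  ⟨[14, 6, 11, 8, 12, 10, 10], [13], [14, 6, 8, 10, 8, 11], [.use 104 true, .ins 5 8, .use 211 false, .use 20 true, .use 6 true, .ins 2 10, .use 5 false, .use 5 true, .use 143 true, .ins 3 10, .use 12 false, .rel 4 9 (14, false, 1), .use 25 false, .use 59 false]⟩,
  ⟨[14, 6, 8, 10, 10, 12], [12], [14, 6, 8, 10, 13], [.use 186 true, .rel 4 2 (15, false, 0), .use 27 false]⟩,
  ⟨[14, 6, 8, 10, 13, 7], [8], [14, 6, 8, 11, 13], [.use 27 true, .rel 4 2 (18, false, 0), .use 228 true, .cancel 4, .use 31 false]⟩,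
  ⟨[14, 6, 8, 11, 11, 6], [8], [14, 6, 8, 10, 10], [.ins 5 13, .use 187 false, .ins 4 6, .use 228 false, .rel 4 3 (18, false, 1), .use 186 false]⟩,
  ⟨[14, 6, 8, 11, 13, 7], [8], [14, 6, 8, 10, 13], [.use 31 true, .use 185 true, .rel 4 3 (18, false, 3), .use 27 false]⟩,
  ⟨[14, 6, 8, 10, 8, 12, 8], [13], [14, 6, 8, 10, 10], [.use 60 true, .ins 5 8, .use 229 false, .rel 4 3 (19, false, 1), .use 186 false]⟩,
  ⟨[14, 6, 8, 10, 10, 8], [12], [14, 6, 8, 10, 8, 12], [.use 186 true, .rel 4 2 (19, false, 2), .use 25 false, .use 60 false]⟩,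
  ⟨[14, 6, 8, 11, 13, 11], [12], [14, 6, 8, 10, 10], [.ins 5 10, .use 188 false, .use 232 true, .use 26 true, .rel 4 4 (20, false, 1), .use 186 false]⟩,
  ⟨[14, 6, 8, 10, 10, 14, 12], [12], [14, 6, 8, 10, 14], [.use 61 true, .use 186 true, .rel 4 3 (26, false, 1), .use 28 false]⟩,
  ⟨[14, 6, 8, 11, 8, 8], [], [14, 6, 8, 11], [.use 29 true, .rel 4 2 (5, false, 0)]⟩,
  ⟨[14, 6, 8, 10, 13, 10], [12], [14, 6, 8, 11, 11], [.use 188 true, .ins 5 11, .use 238 false, .use 26 true, .use 12 true, .ins 3 11, .use 13 false, .rel 4 6 (10, false, 0), .use 30 false]⟩,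
  ⟨[14, 6, 8, 11, 11, 12], [12], [14, 6, 8, 11, 13], [.ins 5 13, .use 187 false, .rel 4 2 (15, false, 0), .use 31 false]⟩,
  ⟨[14, 6, 8, 11, 13, 9], [], [14, 6, 8, 11, 8, 13], [.use 31 true, .rel 4 2 (19, false, 0), .use 240 true, .cancel 5, .use 68 false]⟩,
  ⟨[14, 6, 8, 11, 8, 13, 9], [], [14, 6, 8, 11, 13], [.use 68 true, .use 29 true, .rel 4 3 (19, false, 3), .use 31 false]⟩,
  ⟨[14, 6, 8, 14, 10, 12], [12], [14, 6, 8, 14, 10, 10], [.use 33 true, .ins 4 12, .use 189 false, .rel 4 3 (20, false, 0), .use 33 false, .use 72 false]⟩,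
  ⟨[14, 6, 8, 14, 11, 11, 13], [13], [14, 6, 8, 14, 11], [.use 75 true, .use 34 true, .use 189 true, .rel 4 4 (20, false, 2), .use 34 false]⟩,
  ⟨[14, 6, 8, 14, 11, 13, 10], [], [14, 6, 8, 14, 10, 13], [.use 76 true, .use 34 true, .rel 4 3 (20, false, 4), .use 33 false, .use 73 false]⟩,
  ⟨[14, 6, 10, 8, 10, 6], [8, 10, 8, 11], [14, 6, 10, 8, 11], [.use 35 true, .rel 4 2 (13, false, 0), .use 191 true, .cancel 4, .use 36 false]⟩,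
  ⟨[14, 6, 10, 8, 11, 8], [], [14, 6, 8, 10, 8, 11], [.use 36 true, .rel 4 2 (14, false, 1), .use 190 false, .use 5 true, .cancel 2, .use 6 false, .use 20 false, .use 212 false, .use 104 false, .use 231 false, .use 59 true, .cancel 5, .use 59 false]⟩,
  ⟨[14, 6, 10, 8, 12, 12], [], [14, 6, 10, 8, 13], [.use 37 true, .rel 4 2 (15, false, 0), .use 38 false]⟩,
  ⟨[14, 6, 8, 11, 8, 11, 12], [13], [14, 6, 10, 8, 10, 10], [.ins 6 11, .use 207 false, .use 38 true, .rel 4 3 (20, false, 0), .use 35 false, .use 78 false]⟩,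
  ⟨[14, 6, 10, 8, 12, 11, 11], [], [14, 6, 10, 8, 11, 12], [.use 84 true, .use 37 true, .rel 4 3 (20, false, 2), .use 36 false, .use 82 false]⟩,
  ⟨[14, 6, 10, 8, 12, 14, 12], [], [14, 6, 10, 8, 14], [.use 85 true, .use 37 true, .rel 4 3 (26, false, 1), .use 39 false]⟩,
  ⟨[14, 6, 10, 8, 14, 12], [], [14, 6, 10, 8, 13, 14], [.use 39 true, .rel 4 2 (26, false, 2), .use 38 false, .use 87 false]⟩,
  ⟨[14, 6, 8, 11, 8, 13, 11], [13], [14, 6, 10, 8, 12], [.use 243 true, .ins 5 11, .use 238 false, .use 26 true, .use 12 true, .ins 3 8, .use 143 false, .ins 2 10, .use 5 false, .ins 3 10, .use 16 false, .use 197 true, .ins 4 11, .use 197 false, .rel 4 10 (14, false, 3), .use 194 true, .cancel 5]⟩]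

/-- Equations. -/
def part4 : List CFact := [
  ⟨[14, 6, 11, 8, 13, 11], [13], [14, 6, 8, 10, 8, 12], [.use 210 true, .ins 4 11, .use 197 false, .rel 4 3 (14, false, 10), .use 16 true, .cancel 3, .use 5 true, .cancel 2, .use 4 false, .use 12 false, .use 26 false, .use 238 true, .cancel 5, .use 238 false, .use 236 true, .cancel 6]⟩,
  ⟨[14, 6, 10, 8, 12, 14, 8], [13], [14, 6, 10, 10, 14], [.use 85 true, .ins 5 8, .use 194 false, .rel 4 3 (24, false, 1), .use 40 false]⟩,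
  ⟨[14, 6, 10, 10, 14, 8], [12], [14, 6, 10, 8, 12, 14], [.use 40 true, .rel 4 2 (24, false, 2), .use 195 false, .use 85 false]⟩,
  ⟨[14, 6, 10, 13, 14, 12], [13], [14, 6, 10, 10, 14], [.use 41 true, .use 192 true, .rel 4 3 (26, false, 1), .use 40 false]⟩,
  ⟨[14, 6, 10, 8, 13, 14, 8], [], [14, 6, 10, 13, 14], [.use 87 true, .use 193 true, .rel 4 3 (24, false, 1), .use 41 false]⟩,
  ⟨[14, 6, 10, 13, 14, 8], [], [14, 6, 10, 8, 13, 14], [.use 41 true, .rel 4 2 (24, false, 2), .use 196 true, .cancel 5, .use 87 false]⟩,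
  ⟨[14, 6, 10, 14, 6, 6], [], [14, 6, 10, 14], [.use 42 true, .rel 4 2 (4, false, 0)]⟩,
  ⟨[14, 6, 10, 14, 10, 6], [], [14, 6, 10, 14, 6, 11], [.use 43 true, .rel 4 2 (13, false, 0), .use 262 true, .cancel 5, .use 97 false]⟩,
  ⟨[14, 6, 10, 13, 14, 6, 13], [], [14, 6, 10, 14, 6], [.use 93 true, .use 201 true, .rel 4 3 (18, false, 2), .use 42 false]⟩,
  ⟨[14, 6, 10, 13, 14, 7], [], [14, 6, 10, 13, 14, 6], [.use 201 true, .rel 4 2 (18, true, 3), .use 262 true, .cancel 5, .use 264 true, .cancel 6]⟩,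
  ⟨[14, 6, 10, 10, 14, 10, 12], [12], [14, 6, 10, 14, 10, 10], [.use 91 true, .ins 5 12, .use 200 false, .rel 4 3 (20, false, 0), .use 43 false, .use 98 false]⟩,
  ⟨[14, 6, 10, 14, 10, 12, 11], [], [14, 6, 10, 13, 14, 10], [.use 99 true, .use 43 true, .rel 4 3 (20, false, 1), .use 201 false, .use 94 false]⟩,
  ⟨[14, 6, 10, 13, 14, 11, 11], [], [14, 6, 10, 14, 11, 12], [.use 95 true, .use 201 true, .rel 4 3 (20, false, 2), .use 44 false, .use 101 false]⟩,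
  ⟨[14, 6, 10, 14, 11, 11, 13], [13], [14, 6, 10, 10, 14, 11], [.use 100 true, .use 44 true, .rel 4 3 (20, false, 3), .use 200 true, .cancel 5, .use 92 false]⟩,
  ⟨[14, 6, 11, 8, 12, 12], [], [14, 6, 11, 8, 13], [.use 46 true, .rel 4 2 (15, false, 0), .use 47 false]⟩,
  ⟨[14, 6, 11, 8, 13, 10, 12], [], [14, 6, 11, 8, 10, 10], [.use 106 true, .use 47 true, .rel 4 3 (20, false, 0), .use 45 false, .use 102 false]⟩,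
  ⟨[14, 6, 11, 8, 10, 12], [13], [14, 6, 8, 10, 8, 11], [.use 45 true, .rel 4 2 (20, false, 1), .use 46 false, .use 104 false, .use 231 false]⟩,
  ⟨[14, 6, 11, 8, 14, 12], [], [14, 6, 11, 8, 13, 14], [.use 48 true, .rel 4 2 (26, false, 2), .use 47 false, .use 107 false]⟩,
  ⟨[14, 6, 11, 13, 14, 12], [13], [14, 6, 11, 11, 14], [.use 50 true, .use 209 true, .rel 4 3 (26, false, 1), .use 49 false]⟩,
  ⟨[14, 6, 11, 8, 13, 14, 8], [], [14, 6, 11, 13, 14], [.use 107 true, .use 210 true, .rel 4 3 (24, false, 1), .use 50 false]⟩,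
  ⟨[14, 6, 11, 13, 14, 8], [], [14, 6, 11, 8, 13, 14], [.use 50 true, .rel 4 2 (24, false, 2), .use 213 true, .cancel 5, .use 107 false]⟩,
  ⟨[14, 6, 8, 14, 11, 6], [4, 6, 4, 8], [14, 6, 14, 10], [.use 219 true, .rel 4 2 (4, false, 0)]⟩,
  ⟨[14, 6, 14, 10, 8, 8], [], [14, 6, 14, 10], [.use 52 true, .rel 4 2 (5, false, 0)]⟩,
  ⟨[14, 6, 14, 10, 10, 6], [4, 8, 6, 4], [14, 6, 8, 14, 11, 11], [.use 53 true, .rel 4 2 (13, false, 0), .use 277 true, .cancel 5, .use 75 false]⟩,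
  ⟨[14, 6, 14, 10, 10, 12], [13], [14, 6, 14, 10, 13], [.use 221 true, .rel 4 2 (15, false, 0), .use 54 false]⟩,
  ⟨[14, 6, 14, 10, 13, 7], [4, 8, 6, 4], [14, 6, 8, 14, 11, 13], [.use 54 true, .rel 4 2 (18, false, 0), .use 277 true, .cancel 5, .use 76 false]⟩,
  ⟨[14, 6, 8, 14, 11, 11, 6], [4, 6, 4, 8], [14, 6, 14, 10, 10], [.ins 6 13, .use 246 false, .ins 5 6, .use 277 false, .rel 4 3 (18, false, 1), .use 221 false]⟩,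
  ⟨[14, 6, 8, 14, 11, 13, 7], [4, 6, 4, 8], [14, 6, 14, 10, 13], [.use 76 true, .use 219 true, .rel 4 3 (18, false, 3), .use 54 false]⟩,
  ⟨[14, 6, 14, 11, 13, 11], [13], [14, 6, 14, 10, 10], [.ins 5 10, .use 223 false, .use 280 true, .use 53 true, .rel 4 4 (20, false, 1), .use 221 false]⟩,
  ⟨[14, 6, 14, 11, 6], [4, 8, 6, 4], [14, 6, 8, 14, 10], [.rel 4 1 (4, false, 0), .use 220 true, .cancel 5]⟩,
  ⟨[14, 6, 14, 11, 8, 8], [], [14, 6, 14, 11], [.use 55 true, .rel 4 2 (5, false, 0)]⟩,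
  ⟨[14, 6, 14, 10, 13, 10], [13], [14, 6, 14, 11, 11], [.use 223 true, .ins 5 11, .use 284 false, .use 53 true, .use 23 true, .ins 3 11, .use 24 false, .rel 4 6 (10, false, 0), .use 56 false]⟩,
  ⟨[14, 6, 8, 14, 10, 10, 6], [4, 6, 4, 8], [14, 6, 14, 11, 11], [.use 72 true, .use 285 true, .rel 4 3 (13, false, 1), .use 56 false]⟩,
  ⟨[14, 6, 14, 11, 11, 12], [13], [14, 6, 14, 11, 13], [.ins 5 13, .use 222 false, .rel 4 2 (15, false, 0), .use 57 false]⟩,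
  ⟨[14, 6, 14, 11, 13, 7], [4, 8, 6, 4], [14, 6, 8, 14, 10, 13], [.use 57 true, .rel 4 2 (18, false, 0), .use 220 true, .cancel 5, .use 73 false]⟩,
  ⟨[14, 6, 14, 11, 11, 6], [4, 8, 6, 4], [14, 6, 8, 14, 10, 10], [.ins 5 13, .use 222 false, .rel 4 2 (18, false, 2), .use 285 false, .use 245 false]⟩,
  ⟨[14, 6, 8, 14, 10, 13, 7], [4, 6, 4, 8], [14, 6, 14, 11, 13], [.use 73 true, .use 285 true, .rel 4 3 (18, false, 3), .use 57 false]⟩,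
  ⟨[14, 6, 8, 10, 8, 6, 6], [], [14, 6, 8, 10, 8], [.use 58 true, .rel 5 2 (4, false, 0)]⟩,
  ⟨[14, 6, 8, 11, 8, 6, 8], [8], [14, 6, 8, 10, 8, 6], [.use 65 true, .use 29 true, .use 185 true, .use 229 true, .rel 5 5 (9, false, 1), .use 293 true, .cancel 6]⟩,
  ⟨[14, 6, 8, 10, 14, 6, 6], [], [14, 6, 8, 10, 14], [.use 62 true, .rel 5 2 (4, false, 0)]⟩,
  ⟨[14, 6, 8, 10, 14, 10, 6], [], [14, 6, 8, 10, 14, 6, 11], [.use 63 true, .rel 5 2 (13, false, 0), .use 295 true, .cancel 6, .use 112 false]⟩,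
  ⟨[14, 6, 8, 11, 8, 6, 6], [], [14, 6, 8, 11, 8], [.use 65 true, .rel 5 2 (4, false, 0)]⟩,
  ⟨[14, 6, 8, 10, 8, 6, 8], [8], [14, 6, 8, 11, 8, 6], [.use 58 true, .use 25 true, .use 228 true, .use 240 true, .rel 5 5 (9, false, 1), .use 297 true, .cancel 6]⟩,
  ⟨[14, 6, 8, 11, 14, 6, 6], [], [14, 6, 8, 11, 14], [.use 69 true, .rel 5 2 (4, false, 0)]⟩,
  ⟨[14, 6, 8, 14, 10, 8, 8], [], [14, 6, 8, 14, 10], [.use 71 true, .rel 5 2 (5, false, 0)]⟩,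
  ⟨[14, 6, 8, 14, 10, 10, 12], [13], [14, 6, 8, 14, 10, 13], [.use 245 true, .rel 5 2 (15, false, 0), .use 73 false]⟩,
  ⟨[14, 6, 8, 14, 11, 13, 11], [13], [14, 6, 8, 14, 10, 10], [.ins 6 10, .use 247 false, .use 301 true, .use 72 true, .rel 5 4 (20, false, 1), .use 245 false]⟩,
  ⟨[14, 6, 8, 14, 11, 8, 8], [], [14, 6, 8, 14, 11], [.use 74 true, .rel 5 2 (5, false, 0)]⟩,
  ⟨[14, 6, 8, 14, 10, 13, 10], [13], [14, 6, 8, 14, 11, 11], [.use 247 true, .ins 6 11, .use 302 false, .use 72 true, .use 33 true, .ins 4 11, .use 34 false, .rel 5 6 (10, false, 0), .use 75 false]⟩,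
  ⟨[14, 6, 8, 14, 11, 11, 12], [13], [14, 6, 8, 14, 11, 13], [.ins 6 13, .use 246 false, .rel 5 2 (15, false, 0), .use 76 false]⟩,
  ⟨[14, 6, 8, 14, 11, 8, 12, 8], [12], [14, 6, 8, 14, 11, 11], [.use 117 true, .ins 6 8, .use 303 false, .rel 5 3 (19, false, 1), .use 246 true, .cancel 6]⟩,
  ⟨[14, 6, 8, 14, 11, 11, 8], [13], [14, 6, 8, 14, 11, 8, 12], [.ins 6 13, .use 246 false, .rel 5 2 (19, false, 2), .use 74 false, .use 117 false]⟩,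
  ⟨[14, 6, 10, 8, 11, 6], [8, 10, 8, 11], [14, 6, 10, 8, 10], [.use 248 true, .rel 5 2 (4, false, 0)]⟩,
  ⟨[14, 6, 10, 8, 10, 8, 8], [], [14, 6, 10, 8, 10], [.use 77 true, .rel 5 2 (5, false, 0)]⟩,
  ⟨[14, 6, 10, 8, 10, 12, 12], [], [14, 6, 10, 8, 10, 13], [.use 79 true, .rel 5 2 (15, false, 0), .use 80 false]⟩,
  ⟨[14, 6, 10, 8, 11, 12, 6], [8, 10, 8, 11], [14, 6, 10, 8, 10, 12], [.use 82 true, .ins 5 6, .use 308 false, .rel 5 3 (18, false, 1), .use 79 false]⟩,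
  ⟨[14, 6, 10, 8, 10, 12, 6], [8, 10, 8, 11], [14, 6, 10, 8, 11, 12], [.use 79 true, .rel 5 2 (18, false, 2), .use 248 false, .use 82 false]⟩,
  ⟨[14, 6, 10, 8, 10, 12, 11], [12], [14, 6, 8, 11, 8, 13], [.use 79 true, .rel 5 2 (20, false, 2), .use 35 true, .cancel 4, .use 37 false, .use 255 true, .cancel 6]⟩,
  ⟨[14, 6, 10, 8, 10, 14, 12], [], [14, 6, 10, 8, 10, 13, 14], [.use 81 true, .rel 5 2 (26, false, 2), .use 80 false, .use 118 false]⟩,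
  ⟨[14, 6, 8, 10, 8, 11, 8], [], [14, 6, 10, 8, 11], [.use 249 true, .rel 5 2 (5, false, 0)]⟩,
  ⟨[14, 6, 10, 8, 11, 13], [12], [14, 6, 8, 11, 8, 10], [.rel 5 1 (19, false, 0), .use 315 true, .cancel 6, .use 272 true, .cancel 5, .use 208 false]⟩,
  ⟨[14, 6, 11, 8, 10, 9], [], [14, 6, 8, 11, 8, 10], [.ins 5 12, .use 272 false, .use 249 true, .rel 5 3 (19, false, 3), .use 316 false]⟩,
  ⟨[14, 6, 8, 11, 8, 10, 10], [13], [14, 6, 10, 8, 10, 13], [.use 316 true, .rel 5 2 (20, false, 0), .use 36 true, .cancel 4, .use 35 false, .use 80 false]⟩,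
  ⟨[14, 6, 8, 11, 8, 13, 6], [8, 13, 10, 8, 11], [14, 6, 10, 8, 12, 11], [.ins 6 11, .use 255 false, .rel 5 2 (13, false, 0), .use 226 true, .cancel 5, .use 84 false]⟩]

/-- Equations. -/
def part5 : List CFact := [
  ⟨[14, 6, 10, 8, 10, 12, 10], [13], [14, 6, 8, 11, 8, 11, 8], [.ins 6 11, .use 313 false, .ins 6 11, .use 255 false, .rel 5 3 (14, false, 8), .use 194 false, .use 197 true, .cancel 4, .use 148 false, .use 204 false, .use 204 true, .cancel 4, .use 193 false, .use 207 true, .cancel 6, .use 115 false]⟩,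
  ⟨[14, 6, 10, 8, 10, 12, 9], [], [14, 6, 11, 8, 12, 11], [.ins 6 10, .use 320 false, .use 320 true, .ins 6 11, .use 313 false, .ins 6 11, .use 255 false, .rel 5 5 (14, true, 4), .use 195 true, .cancel 4, .use 197 true, .cancel 4, .use 148 false, .use 204 false, .use 211 true, .cancel 5, .use 105 false]⟩,
  ⟨[14, 6, 10, 8, 13, 14, 12], [], [14, 6, 10, 8, 12, 14], [.use 87 true, .use 250 true, .rel 5 3 (26, false, 1), .use 85 false]⟩,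
  ⟨[14, 6, 8, 11, 8, 11, 6], [8, 13, 10, 8, 11], [14, 6, 10, 8, 13, 11], [.ins 6 11, .use 207 false, .rel 5 2 (13, false, 0), .use 227 true, .cancel 5, .use 86 false]⟩,
  ⟨[14, 6, 10, 8, 14, 6, 6], [], [14, 6, 10, 8, 14], [.use 88 true, .rel 5 2 (4, false, 0)]⟩,
  ⟨[14, 6, 10, 14, 6, 8, 8], [], [14, 6, 10, 14, 6], [.use 96 true, .rel 5 2 (5, false, 0)]⟩,
  ⟨[14, 6, 10, 14, 6, 11, 6], [], [14, 6, 10, 14, 10], [.use 263 true, .rel 5 2 (4, false, 0)]⟩,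
  ⟨[14, 6, 8, 10, 8, 11, 12], [12], [14, 6, 11, 8, 10, 13], [.use 272 true, .rel 5 2 (15, false, 0), .use 103 false]⟩,
  ⟨[14, 6, 11, 8, 12, 10, 6], [8, 11, 8, 10], [14, 6, 11, 8, 12, 11], [.use 104 true, .rel 5 2 (13, false, 0), .use 224 true, .cancel 5, .use 105 false]⟩,
  ⟨[14, 6, 11, 8, 13, 10, 6], [8, 11, 8, 10, 13], [14, 6, 8, 10, 8, 12], [.use 106 true, .rel 5 2 (13, false, 0), .use 225 true, .cancel 5, .use 256 false]⟩,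
  ⟨[14, 6, 11, 8, 14, 6, 6], [], [14, 6, 11, 8, 14], [.use 108 true, .rel 5 2 (4, false, 0)]⟩,
  ⟨[14, 6, 8, 10, 8, 6, 12], [8, 12, 11, 8, 10], [14, 6, 11, 8, 13, 10], [.rel 6 1 (18, false, 2), .use 293 false, .use 60 false, .use 329 true, .cancel 6]⟩,
  ⟨[14, 6, 11, 8, 13, 10, 7], [8, 11, 8, 10, 13], [14, 6, 8, 10, 8, 12], [.use 331 true, .rel 6 2 (18, true, 3), .use 58 true, .cancel 5, .use 60 false]⟩,
  ⟨[14, 6, 8, 10, 8, 10], [10, 10, 8, 11, 11], [14, 6, 8, 10, 8, 6], [.ins 5 12, .use 60 false, .use 256 true, .ins 5 10, .use 106 false, .use 331 true, .rel 6 5 (20, false, 2)]⟩,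
  ⟨[14, 6, 11, 8, 10, 10, 12], [8, 11, 8, 10, 13], [14, 6, 8, 10, 8, 6], [.use 102 true, .ins 5 12, .use 272 false, .use 59 true, .ins 5 10, .use 333 false, .rel 6 5 (20, false, 3)]⟩,
  ⟨[14, 6, 10, 8, 11, 12, 8], [12], [14, 6, 11, 8, 10, 13], [.use 82 true, .ins 5 8, .use 249 false, .rel 6 3 (19, false, 1), .use 327 false]⟩,
  ⟨[14, 6, 11, 8, 10, 13, 8], [13], [14, 6, 10, 8, 11, 12], [.use 327 true, .rel 6 2 (19, false, 2), .use 315 false, .use 82 false]⟩,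
  ⟨[14, 6, 8, 10, 14, 6, 8, 8], [], [14, 6, 8, 10, 14, 6], [.use 111 true, .rel 6 2 (5, false, 0)]⟩,
  ⟨[14, 6, 8, 10, 14, 6, 11, 6], [], [14, 6, 8, 10, 14, 10], [.use 296 true, .rel 6 2 (4, false, 0)]⟩,
  ⟨[14, 6, 8, 10, 14, 10, 12, 12], [], [14, 6, 8, 10, 14, 10, 13], [.use 113 true, .rel 6 2 (15, false, 0), .use 114 false]⟩,
  ⟨[14, 6, 10, 8, 10, 13, 10], [8, 10, 8, 11, 12], [14, 6, 8, 11, 8, 6], [.use 318 true, .use 66 true, .ins 5 8, .use 240 false, .use 13 true, .ins 3 10, .use 12 false, .ins 4 10, .use 26 false, .use 26 true, .use 229 true, .ins 5 10, .use 333 false, .ins 6 8, .use 298 false, .rel 6 11 (14, false, 0)]⟩,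
  ⟨[14, 6, 8, 11, 8, 6, 13], [8, 13, 10, 8, 11], [14, 6, 10, 8, 12, 11], [.rel 6 1 (18, false, 0), .use 65 true, .cancel 5, .use 68 false, .use 319 false]⟩,
  ⟨[14, 6, 8, 11, 8, 13, 7], [8, 13, 10, 8, 11], [14, 6, 10, 8, 12, 11], [.use 68 true, .use 297 true, .rel 6 3 (18, false, 3), .use 341 false]⟩,
  ⟨[14, 6, 10, 8, 12, 11, 9], [13], [14, 6, 11, 8, 10, 10], [.use 341 true, .rel 6 2 (19, false, 0), .use 298 true, .cancel 6, .use 334 true, .cancel 6]⟩,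
  ⟨[14, 6, 10, 8, 13, 11, 11], [8, 10, 8, 11, 12], [14, 6, 8, 11, 8, 6], [.use 86 true, .use 250 true, .ins 5 11, .use 84 false, .use 341 true, .rel 6 5 (20, false, 0)]⟩,
  ⟨[14, 6, 8, 11, 8, 10, 13], [13], [14, 6, 10, 8, 11, 12], [.ins 6 10, .use 318 false, .ins 6 10, .use 340 false, .rel 6 3 (20, false, 3), .use 341 false, .use 252 false]⟩,
  ⟨[14, 6, 8, 11, 8, 11, 8, 12], [12], [14, 6, 10, 8, 13, 11], [.use 320 true, .ins 6 12, .use 310 false, .ins 6 10, .use 340 false, .rel 6 4 (20, false, 4), .use 344 true, .cancel 6]⟩,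
  ⟨[14, 6, 8, 11, 8, 10, 6], [8, 13, 10, 8, 11], [14, 6, 10, 8, 10, 13], [.rel 6 1 (13, false, 1), .use 66 true, .cancel 5, .use 297 true, .cancel 6, .use 340 true, .cancel 6]⟩,
  ⟨[14, 6, 10, 8, 10, 13, 6], [8, 10, 8, 11, 12], [14, 6, 8, 11, 8, 10], [.use 310 true, .ins 6 6, .use 312 false, .use 345 true, .rel 6 4 (18, false, 0)]⟩,
  ⟨[14, 6, 8, 11, 8, 11, 13, 10], [13], [14, 6, 10, 8, 11, 12], [.use 116 true, .use 67 true, .ins 5 10, .use 66 false, .rel 6 4 (20, false, 3), .use 345 false]⟩,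
  ⟨[14, 6, 10, 8, 13, 11, 6], [8, 10, 8, 11, 12], [14, 6, 8, 11, 8, 11], [.use 323 true, .rel 6 2 (4, false, 0)]⟩,
  ⟨[14, 6, 8, 11, 8, 11, 8, 8], [], [14, 6, 8, 11, 8, 11], [.use 115 true, .rel 6 2 (5, false, 0)]⟩,
  ⟨[14, 6, 8, 11, 8, 11, 8, 10], [13], [14, 6, 8, 11, 8, 11, 13], [.ins 7 8, .use 351 false, .rel 6 2 (14, false, 7), .use 67 true, .cancel 5, .use 66 false, .use 318 false, .use 318 true, .cancel 6, .use 208 true, .cancel 5, .use 102 false, .use 343 true, .cancel 6, .use 252 false, .use 349 true, .cancel 7]⟩,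
  ⟨[14, 6, 10, 8, 10, 10, 12], [12], [14, 6, 8, 11, 8, 11, 13], [.use 251 true, .rel 6 2 (15, false, 0), .use 116 false]⟩,
  ⟨[14, 6, 8, 11, 8, 11, 13, 7], [12, 11, 8, 10], [14, 6, 8, 11, 8, 11, 8], [.use 116 true, .rel 6 2 (18, false, 0), .use 350 true, .cancel 6, .use 346 true, .cancel 7]⟩,
  ⟨[14, 6, 8, 11, 8, 11, 8, 7], [11, 8, 10, 13], [14, 6, 8, 11, 8, 11, 13], [.ins 7 12, .use 346 false, .use 323 true, .rel 6 3 (18, false, 3), .use 116 false]⟩,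
  ⟨[14, 6, 10, 8, 13, 11, 8], [12], [14, 6, 10, 8, 10, 10], [.use 346 true, .ins 7 8, .use 351 false, .rel 6 3 (19, false, 1), .use 251 false]⟩,
  ⟨[14, 6, 10, 8, 10, 10, 8], [13], [14, 6, 10, 8, 13, 11], [.use 251 true, .rel 6 2 (19, false, 2), .use 115 false, .use 346 false]⟩,
  ⟨[14, 6, 10, 8, 10, 8, 12], [], [14, 6, 11, 8, 12, 11], [.rel 6 1 (19, false, 2), .use 309 false, .use 79 false, .use 321 false]⟩,
  ⟨[14, 6, 11, 8, 12, 11, 9], [], [14, 6, 10, 8, 10, 12], [.use 358 true, .rel 6 2 (19, true, 3), .use 77 true, .cancel 5, .use 79 false]⟩,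
  ⟨[14, 6, 11, 8, 12, 11, 6], [8, 11, 8, 10], [14, 6, 11, 8, 12, 10], [.use 328 true, .rel 6 2 (4, false, 0)]⟩,
  ⟨[14, 6, 11, 13, 14, 10], [], [14, 6, 11, 13, 14, 10], []⟩,
  ⟨[14, 6, 11, 13, 14, 10, 10], [], [14, 6, 11, 13, 14, 10, 10], []⟩,
  ⟨[14, 6, 11, 13, 14, 10, 10, 6], [], [14, 6, 11, 13, 14, 10, 10, 6], []⟩,
  ⟨[14, 6, 11, 13, 14, 10, 10, 6, 11], [], [14, 6, 11, 13, 14, 10, 10, 6, 11], []⟩,
  ⟨[14, 6, 11, 13, 15], [], [14, 6, 11, 13, 15], []⟩,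
  ⟨[14, 6, 11, 13, 15, 10], [8, 6, 11, 8, 6, 4, 6, 4, 8, 6, 11, 8, 6, 4, 11, 11], [14, 6, 11, 13, 14, 10, 10, 6, 11], [.use 365 true, .ins 4 10, .use 148 false, .ins 4 10, .use 204 false, .ins 4 6, .use 161 false, .use 8 true, .use 2 true, .ins 1 14, .use 125 false, .ins 0 10, .use 123 false, .ins 0 10, .use 123 false, .use 123 true, .use 123 true, .use 122 true, .use 121 true, .use 120 true, .ins 0 6, .use 121 false, .ins 0 8, .use 122 false, .ins 0 10, .use 123 false, .ins 0 10, .use 123 false, .ins 0 10, .use 123 false, .use 122 true, .use 121 true, .use 120 true, .ins 0 6, .use 121 false, .ins 0 8, .use 122 false, .use 123 true, .use 121 true, .use 120 true, .ins 0 6, .use 121 false, .use 120 true, .use 119 true, .rel 0 31 (30, true, 0), .use 121 false, .use 123 true, .cancel 0, .use 123 true, .cancel 0, .use 0 false,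 .use 2 false, .use 8 false, .use 156 false, .use 204 true, .cancel 4, .use 148 true, .cancel 4, .use 50 false, .use 361 false, .use 362 false, .use 363 false, .use 364 false]⟩,
  ⟨[14, 6, 5], [], [14, 6, 5], []⟩,
  ⟨[14, 6, 5, 7], [], [14, 6, 5, 7], []⟩,
  ⟨[14, 6, 5, 7, 5], [], [14, 6, 5, 7, 5], []⟩,
  ⟨[14, 6, 5, 7, 5, 7], [], [14, 6, 5, 7, 5, 7], []⟩,
  ⟨[14, 6, 4], [0, 4], [14, 6, 5, 7, 5, 7], [.use 1 true, .ins 1 5, .use 127 false, .rel 1 3 (7, true, 0), .use 126 true, .cancel 1, .use 132 true, .cancel 2, .use 367 false, .use 368 false, .use 369 false, .use 370 false]⟩,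
  ⟨[14, 6, 8, 15], [], [14, 6, 8, 15], []⟩,
  ⟨[14, 6, 8, 15, 6], [], [14, 6, 8, 15, 6], []⟩,
  ⟨[14, 6, 8, 15, 6, 14], [6, 8], [14, 6], [.use 373 true, .use 372 true, .use 4 true, .use 1 true, .rel 1 5 (25, false, 0), .use 0 true, .cancel 0, .use 121 true, .cancel 0, .use 0 false, .use 128 false, .use 132 true, .cancel 2]⟩,
  ⟨[14, 6, 11, 11, 14, 10], [], [14, 6, 11, 11, 14, 10], []⟩,
  ⟨[14, 6, 11, 11, 14, 10, 10], [], [14, 6, 11, 11, 14, 10, 10], []⟩,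
  ⟨[14, 6, 11, 11, 14, 10, 10, 6], [], [14, 6, 11, 11, 14, 10, 10, 6], []⟩,
  ⟨[14, 6, 11, 11, 14, 10, 10, 6, 11], [], [14, 6, 11, 11, 14, 10, 10, 6, 11], []⟩,
  ⟨[14, 6, 0], [], [14, 6, 0], []⟩,
  ⟨[14, 6, 0, 0], [], [14, 6], [.use 379 true, .rel 2 2 (2, false, 0)]⟩,
  ⟨[14, 6, 5, 7, 5, 7, 4], [0, 4], [14, 6], [.use 371 true, .rel 2 2 (3, false, 0)]⟩,
  ⟨[14, 6, 5, 7, 5, 7], [0, 4], [14, 6, 5], [.ins 6 4, .use 381 false, .use 367 false]⟩,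
  ⟨[14, 6, 5, 6], [0, 4], [14, 6, 5, 7, 5], [.use 382 true, .use 370 true, .cancel 5]⟩]

/-- Equations. -/
def part6 : List CFact := [
  ⟨[14, 6, 0, 8], [], [14, 6, 0, 8], []⟩,
  ⟨[14, 6, 0, 8, 0], [], [14, 6, 8], [.use 384 true, .use 379 true, .rel 2 3 (6, false, 0), .use 143 true, .cancel 3]⟩,
  ⟨[14, 6, 0, 7], [0], [14], [.use 379 true, .rel 2 2 (7, false, 0), .use 371 false, .use 382 false, .use 383 false, .use 369 true, .cancel 4, .use 368 true, .cancel 3, .use 367 true, .cancel 2, .use 132 false, .use 127 true, .cancel 1]⟩,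
  ⟨[14, 6, 0], [0], [14, 6], [.ins 3 7, .use 386 false, .use 1 false]⟩,
  ⟨[14, 6, 8], [0], [14, 6, 0, 8], [.use 387 true, .use 384 false]⟩,
  ⟨[14, 6, 0, 8], [0], [14, 6, 8], [.use 388 true, .use 4 false]⟩,
  ⟨[14, 6, 8, 0], [0], [14, 6, 8], [.use 389 true, .use 385 false]⟩,
  ⟨[14, 6, 5, 8], [], [14, 6, 5, 8], []⟩,
  ⟨[14, 6, 5, 8, 4], [], [14, 6, 8], [.use 391 true, .use 382 true, .use 371 true, .rel 2 3 (8, false, 0), .use 143 true, .cancel 3]⟩,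
  ⟨[14, 6, 11, 1], [0], [14, 6, 11], [.use 6 true, .rel 2 2 (11, false, 0), .use 380 true, .cancel 3, .use 387 false, .use 6 false]⟩,
  ⟨[14, 6, 11, 5], [], [14, 6, 11, 5], []⟩,
  ⟨[14, 6, 11, 5, 10], [], [14, 6, 5], [.use 394 true, .use 6 true, .rel 2 3 (12, false, 0), .use 367 false]⟩,
  ⟨[14, 6, 14, 14], [0], [14, 6, 5], [.use 7 true, .rel 2 2 (21, false, 0), .use 379 false, .use 387 false, .use 371 false, .use 382 false]⟩,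
  ⟨[14, 6, 8, 15, 6, 5], [0, 6, 8], [14, 6, 14], [.ins 5 14, .use 374 false, .rel 2 2 (23, false, 0), .use 367 false, .use 396 true, .cancel 3]⟩,
  ⟨[14, 6, 8, 11, 11, 15], [], [14, 6, 8, 11, 11, 15], []⟩,
  ⟨[14, 6, 8, 11, 11, 15, 10], [], [14, 6, 8, 11, 11, 15, 10], []⟩,
  ⟨[14, 6, 8, 11, 11, 15, 10, 10], [], [14, 6, 8, 11, 11, 15, 10, 10], []⟩,
  ⟨[14, 6, 8, 11, 11, 15, 10, 10, 8], [], [14, 6, 8, 11, 11, 15, 10, 10, 8], []⟩,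
  ⟨[14, 6, 11, 11, 15], [], [14, 6, 11, 11, 15], []⟩,
  ⟨[14, 6, 11, 11, 15, 10], [], [14, 6, 11, 11, 15, 10], []⟩,
  ⟨[14, 6, 11, 11, 15, 10, 10], [], [14, 6, 8, 11, 11, 15, 10, 10, 8], [.use 403 true, .use 402 true, .use 20 true, .use 6 true, .rel 2 5 (27, true, 0), .use 143 true, .cancel 3, .use 13 false, .use 30 false, .use 398 false, .use 399 false, .use 400 false, .use 401 false]⟩,
  ⟨[14, 6, 11, 5, 15], [], [14, 6, 11, 5, 15], []⟩,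
  ⟨[14, 6, 11, 5, 15, 11], [], [14, 6, 11, 5, 15, 11], []⟩,
  ⟨[14, 6, 11, 5, 15, 11, 15], [0], [14, 6, 14, 10], [.use 406 true, .use 405 true, .ins 4 10, .use 395 false, .use 382 true, .use 371 true, .use 387 true, .use 379 true, .rel 2 6 (28, false, 0), .use 7 false, .use 23 false]⟩,
  ⟨[14, 6, 11, 5, 15, 10], [], [14, 6, 11, 5, 15, 10], []⟩,
  ⟨[14, 6, 11, 5, 15, 10, 14], [], [14, 6, 11, 5, 15, 10, 14], []⟩,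
  ⟨[14, 6, 11, 5, 15, 10, 14, 11], [], [14, 6, 11, 5, 15, 10, 14, 11], []⟩,
  ⟨[14, 6, 11, 5, 15, 10, 14, 11, 15], [], [14, 6, 11, 5, 15, 10, 14, 11, 15], []⟩,
  ⟨[14, 6, 8, 15, 6, 11], [], [14, 6, 8, 15, 6, 11], []⟩,
  ⟨[14, 6, 8, 15, 6, 11, 14], [], [14, 6, 8, 15, 6, 11, 14], []⟩,
  ⟨[14, 6, 8, 15, 6, 11, 14, 10], [], [14, 6, 8, 15, 6, 11, 14, 10], []⟩,
  ⟨[14, 6, 8, 15, 6, 11, 14, 10, 15], [], [14, 6, 8, 15, 6, 11, 14, 10, 15], []⟩,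
  ⟨[14, 6, 11, 14, 10], [], [14, 6, 11, 14, 10], []⟩,
  ⟨[14, 6, 11, 14, 10, 10], [], [14, 6, 11, 14, 10, 10], []⟩,
  ⟨[14, 6, 11, 14, 10, 10, 6], [], [14, 6, 11, 14, 10, 10, 6], []⟩,
  ⟨[14, 6, 11, 14, 10, 10, 6, 11], [], [14, 6, 11, 14, 10, 10, 6, 11], []⟩,
  ⟨[14, 6, 5, 7, 4], [], [14, 6, 5, 7, 4], []⟩,
  ⟨[14, 6, 5, 7, 4, 6], [], [14, 6, 5, 7, 4, 6], []⟩,
  ⟨[14, 6, 5, 7, 4, 6, 10], [], [14, 6, 5, 7, 4, 6, 10], []⟩,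
  ⟨[14, 6, 5, 7, 4, 6, 10, 9], [], [14, 6, 5, 7, 4, 6, 10, 9], []⟩,
  ⟨[14, 6, 11, 5, 7], [], [14, 6, 11, 5, 7], []⟩,
  ⟨[14, 6, 11, 5, 7, 5], [], [14, 6, 11, 5, 7, 5], []⟩,
  ⟨[14, 6, 11, 5, 7, 5, 7], [], [14, 6, 11, 5, 7, 5, 7], []⟩,
  ⟨[14, 6, 11, 5, 7, 5, 7, 5], [0, 4], [14, 6, 11], [.use 426 true, .use 425 true, .use 424 true, .use 394 true, .ins 3 6, .use 153 false, .use 134 true, .rel 2 7 (7, false, 0), .use 136 false, .use 137 false]⟩,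
  ⟨[14, 6, 11, 8, 15], [], [14, 6, 11, 8, 15], []⟩,
  ⟨[14, 6, 11, 8, 15, 6], [], [14, 6, 11, 8, 15, 6], []⟩,
  ⟨[14, 6, 11, 8, 15, 6, 14], [0, 4, 11], [14, 6, 10, 8, 14, 6], [.use 429 true, .use 428 true, .use 19 true, .use 137 true, .rel 2 5 (25, false, 0), .use 166 true, .cancel 2, .use 138 true, .cancel 3, .use 18 false, .use 198 true, .cancel 5, .use 324 true, .cancel 6]⟩,
  ⟨[14, 6, 10, 14, 10, 12, 6], [], [14, 6, 10, 14, 10, 12, 6], []⟩,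
  ⟨[14, 6, 10, 14, 10, 12, 6, 11], [], [14, 6, 10, 14, 10, 12, 6, 11], []⟩,
  ⟨[14, 6, 10, 14, 10, 12, 6, 11, 11], [], [14, 6, 10, 14, 10, 12, 6, 11, 11], []⟩,
  ⟨[14, 6, 10, 14, 10, 12, 6, 11, 11, 14], [], [14, 6, 10, 14, 10, 12, 6, 11, 11, 14], []⟩,
  ⟨[14, 6, 10, 5], [], [14, 6, 10, 5], []⟩,
  ⟨[14, 6, 10, 5, 7], [], [14, 6, 10, 5, 7], []⟩,
  ⟨[14, 6, 10, 5, 7, 5], [], [14, 6, 10, 5, 7, 5], []⟩,
  ⟨[14, 6, 10, 5, 7, 5, 7], [], [14, 6, 10, 5, 7, 5, 7], []⟩,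
  ⟨[14, 6, 10, 4], [0, 4], [14, 6, 10, 5, 7, 5, 7], [.use 174 true, .ins 2 5, .use 135 false, .rel 2 3 (7, true, 0), .use 133 true, .cancel 2, .use 138 true, .cancel 3, .use 435 false, .use 436 false, .use 437 false, .use 438 false]⟩,
  ⟨[14, 6, 10, 8, 15], [], [14, 6, 10, 8, 15], []⟩,
  ⟨[14, 6, 10, 8, 15, 6], [], [14, 6, 10, 8, 15, 6], []⟩,
  ⟨[14, 6, 10, 8, 15, 6, 14], [10], [14, 6, 11, 8, 14, 6], [.use 441 true, .use 440 true, .use 15 true, .use 174 true, .rel 2 5 (25, false, 0), .use 131 false, .use 153 true, .cancel 3, .use 22 false, .use 214 true, .cancel 5, .use 330 true, .cancel 6]⟩,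
  ⟨[14, 6, 11, 14, 10, 10, 6, 11, 11], [], [14, 6, 11, 14, 10, 10, 6, 11, 11], []⟩,
  ⟨[14, 6, 11, 14, 10, 10, 6, 11, 11, 14], [], [14, 6, 11, 14, 10, 10, 6, 11, 11, 14], []⟩,
  ⟨[14, 6, 11, 14, 10, 10, 6, 11, 11, 14, 10], [], [14, 6, 11, 14, 10, 10, 6, 11, 11, 14, 10], []⟩,
  ⟨[14, 6, 10, 5, 7, 5, 10], [], [14, 6, 10, 5, 7, 5, 10], []⟩,
  ⟨[14, 6, 8, 4], [], [14, 6, 5, 8], [.rel 3 1 (3, false, 0), .use 392 true, .cancel 4]⟩]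

/-- Equations. -/
def part7 : List CFact := [
  ⟨[14, 6, 8, 11, 1], [0], [14, 6, 8, 11], [.use 13 true, .rel 3 2 (11, false, 0), .use 385 true, .cancel 4, .use 389 false, .use 13 false]⟩,
  ⟨[14, 6, 8, 11, 5], [], [14, 6, 8, 11, 5], []⟩,
  ⟨[14, 6, 8, 11, 5, 10], [], [14, 6, 5, 8], [.use 449 true, .use 13 true, .rel 3 3 (12, false, 0), .use 392 true, .cancel 4]⟩,
  ⟨[14, 6, 11, 8, 11], [], [14, 6, 11, 8, 11], []⟩,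
  ⟨[14, 6, 11, 8, 11, 11], [], [14, 6, 11, 8, 11, 11], []⟩,
  ⟨[14, 6, 11, 8, 11, 11, 9], [13], [14, 6, 8, 10, 13], [.use 452 true, .use 451 true, .ins 4 10, .use 45 false, .use 45 true, .use 19 true, .use 6 true, .ins 2 8, .use 4 false, .rel 3 8 (14, false, 0), .use 13 false, .use 30 false, .use 241 true, .cancel 5]⟩,
  ⟨[14, 6, 8, 14, 14], [0], [14, 6, 5, 8], [.use 14 true, .rel 3 2 (21, false, 0), .use 390 false, .use 447 false]⟩,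
  ⟨[14, 6, 8, 15, 5], [0], [14, 6, 8, 14], [.use 372 true, .rel 3 2 (23, false, 0), .use 392 true, .cancel 4, .use 454 true, .cancel 4]⟩,
  ⟨[14, 6, 8, 15, 9], [8, 6], [14, 6, 8, 15, 6], [.use 372 true, .rel 3 2 (24, false, 0), .use 4 true, .cancel 2, .use 374 true, .cancel 5]⟩,
  ⟨[14, 6, 8, 11, 11, 15, 10, 10, 8, 8], [], [14, 6, 8, 11, 11, 15, 10, 10], [.use 404 true, .use 403 true, .use 402 true, .use 20 true, .use 6 true, .ins 2 8, .use 4 false, .rel 3 7 (27, false, 0), .use 13 false, .use 30 false, .use 398 false, .use 399 false, .use 400 false]⟩,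
  ⟨[14, 6, 8, 11, 5, 15], [], [14, 6, 8, 11, 5, 15], []⟩,
  ⟨[14, 6, 8, 11, 5, 15, 11], [], [14, 6, 8, 11, 5, 15, 11], []⟩,
  ⟨[14, 6, 8, 11, 5, 15, 11, 15], [0], [14, 6, 8, 14, 10], [.use 459 true, .use 458 true, .ins 5 10, .use 450 false, .use 447 true, .use 390 true, .rel 3 6 (28, false, 0), .use 14 false, .use 33 false]⟩,
  ⟨[14, 6, 8, 11, 5, 15, 10], [], [14, 6, 8, 11, 5, 15, 10], []⟩,
  ⟨[14, 6, 8, 11, 5, 15, 10, 14], [], [14, 6, 8, 11, 5, 15, 10, 14], []⟩,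
  ⟨[14, 6, 8, 11, 5, 15, 10, 14, 11], [], [14, 6, 8, 11, 5, 15, 10, 14, 11], []⟩,
  ⟨[14, 6, 8, 11, 5, 15, 10, 14, 11, 15], [], [14, 6, 8, 11, 5, 15, 10, 14, 11, 15], []⟩,
  ⟨[14, 6, 8, 15, 11], [], [14, 6, 8, 15, 11], []⟩,
  ⟨[14, 6, 8, 15, 11, 14], [], [14, 6, 8, 15, 11, 14], []⟩,
  ⟨[14, 6, 8, 15, 11, 14, 10], [], [14, 6, 8, 15, 11, 14, 10], []⟩,
  ⟨[14, 6, 8, 15, 11, 14, 10, 15], [], [14, 6, 8, 15, 11, 14, 10, 15], []⟩,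
  ⟨[14, 6, 8, 11, 11, 14], [], [14, 6, 8, 11, 11, 14], []⟩,
  ⟨[14, 6, 8, 11, 11, 14, 10], [], [14, 6, 8, 11, 11, 14, 10], []⟩,
  ⟨[14, 6, 8, 11, 11, 14, 10, 10], [], [14, 6, 8, 11, 11, 14, 10, 10], []⟩,
  ⟨[14, 6, 10, 0], [], [14, 6, 10, 0], []⟩,
  ⟨[14, 6, 10, 0, 0], [], [14, 6, 10], [.use 472 true, .rel 3 2 (2, false, 0)]⟩,
  ⟨[14, 6, 10, 5, 7, 5, 7, 4], [0, 4], [14, 6, 10], [.use 439 true, .rel 3 2 (3, false, 0)]⟩,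
  ⟨[14, 6, 10, 5, 7, 5, 7], [0, 4], [14, 6, 10, 5], [.ins 7 4, .use 474 false, .use 435 false]⟩,
  ⟨[14, 6, 10, 5, 6], [0, 4], [14, 6, 10, 5, 7, 5], [.use 475 true, .use 438 true, .cancel 6]⟩,
  ⟨[14, 6, 10, 0, 8], [], [14, 6, 10, 0, 8], []⟩,
  ⟨[14, 6, 10, 0, 8, 0], [], [14, 6, 10, 8], [.use 477 true, .use 472 true, .rel 3 3 (6, false, 0), .use 190 true, .cancel 4]⟩,
  ⟨[14, 6, 10, 0, 7], [0], [14, 11], [.use 472 true, .rel 3 2 (7, false, 0), .use 439 false, .use 475 false, .use 476 false, .use 437 true, .cancel 5, .use 436 true, .cancel 4, .use 435 true, .cancel 3, .use 138 false, .use 135 true, .cancel 2]⟩,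
  ⟨[14, 6, 10, 0], [0], [14, 6, 10], [.ins 4 7, .use 479 false, .use 174 false]⟩,
  ⟨[14, 6, 10, 8], [0], [14, 6, 10, 0, 8], [.use 480 true, .use 477 false]⟩,
  ⟨[14, 6, 10, 0, 8], [0], [14, 6, 10, 8], [.use 481 true, .use 15 false]⟩,
  ⟨[14, 6, 10, 8, 0], [0], [14, 6, 10, 8], [.use 482 true, .use 478 false]⟩,
  ⟨[14, 6, 10, 5, 8], [], [14, 6, 10, 5, 8], []⟩,
  ⟨[14, 6, 10, 5, 8, 4], [], [14, 6, 10, 8], [.use 484 true, .use 475 true, .use 439 true, .rel 3 3 (8, false, 0), .use 190 true, .cancel 4]⟩,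
  ⟨[14, 6, 5, 10], [], [14, 6, 10, 5], [.use 367 true, .ins 2 10, .use 5 false, .rel 3 3 (12, false, 0), .use 435 false]⟩,
  ⟨[14, 6, 10, 13, 1], [0], [14, 6, 10, 13], [.use 17 true, .rel 3 2 (16, false, 0), .use 473 true, .cancel 4, .use 480 false, .use 17 false]⟩,
  ⟨[14, 6, 10, 13, 5], [], [14, 6, 10, 13, 5], []⟩,
  ⟨[14, 6, 10, 13, 5, 12], [], [14, 6, 10, 5], [.use 488 true, .use 17 true, .rel 3 3 (17, false, 0), .use 435 false]⟩,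
  ⟨[14, 6, 10, 14, 14], [0], [14, 6, 10, 5], [.use 18 true, .rel 3 2 (21, false, 0), .use 472 false, .use 480 false, .use 439 false, .use 475 false]⟩,
  ⟨[14, 6, 10, 15], [], [14, 6, 10, 15], []⟩,
  ⟨[14, 6, 10, 15, 1], [0], [14, 6, 10, 15], [.use 491 true, .rel 3 2 (22, false, 0), .use 473 true, .cancel 4, .use 480 false, .use 491 false]⟩,
  ⟨[14, 6, 10, 15, 5], [0], [14, 6, 10, 14], [.use 491 true, .rel 3 2 (23, false, 0), .use 435 false, .use 490 true, .cancel 4]⟩,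
  ⟨[14, 6, 10, 15, 9], [], [14, 6, 10, 8, 15], [.use 491 true, .rel 3 2 (24, false, 0), .use 190 true, .cancel 4, .use 440 false]⟩,
  ⟨[14, 6, 11, 14, 6], [], [14, 6, 11, 14, 6], []⟩,
  ⟨[14, 6, 11, 14, 6, 8], [], [14, 6, 11, 14, 6, 8], []⟩,
  ⟨[14, 6, 11, 14, 6, 8, 15], [], [14, 6, 11, 14, 6, 8, 15], []⟩,
  ⟨[14, 6, 11, 14, 6, 8, 15, 6], [8, 11, 8], [14, 6, 10, 15], [.use 497 true, .use 496 true, .use 495 true, .use 22 true, .use 137 true, .use 131 true, .ins 2 9, .use 167 false, .use 138 true, .rel 3 9 (25, false, 0), .use 491 false]⟩,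
  ⟨[14, 6, 10, 15, 12], [], [14, 6, 10, 15, 12], []⟩,
  ⟨[14, 6, 10, 15, 12, 14], [], [14, 6, 10, 13], [.use 499 true, .use 491 true, .rel 3 3 (26, false, 0), .use 17 false]⟩,
  ⟨[14, 6, 10, 8, 11, 11], [], [14, 6, 10, 8, 11, 11], []⟩,
  ⟨[14, 6, 10, 8, 11, 11, 15], [], [14, 6, 10, 8, 11, 11, 15], []⟩,
  ⟨[14, 6, 10, 8, 11, 11, 15, 10], [], [14, 6, 10, 8, 11, 11, 15, 10], []⟩,
  ⟨[14, 6, 10, 8, 11, 11, 15, 10, 10], [], [14, 6, 10, 8, 11, 11, 15, 10, 10], []⟩,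
  ⟨[14, 6, 11, 15], [], [14, 6, 11, 15], []⟩,
  ⟨[14, 6, 11, 15, 10], [], [14, 6, 11, 15, 10], []⟩,
  ⟨[14, 6, 11, 15, 10, 10], [], [14, 6, 11, 15, 10, 10], []⟩,
  ⟨[14, 6, 11, 15, 10, 10, 9], [], [14, 6, 10, 8, 11, 11, 15, 10, 10], [.use 507 true, .use 506 true, .use 505 true, .use 6 true, .ins 2 10, .use 5 false, .rel 3 6 (27, true, 0), .use 190 true, .cancel 4, .use 36 false, .use 501 false, .use 502 false, .use 503 false, .use 504 false]⟩,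
  ⟨[14, 6, 14, 11, 15], [], [14, 6, 10, 14, 10], [.use 24 true, .ins 3 14, .use 396 false, .ins 3 10, .use 486 false, .use 475 true, .use 439 true, .use 480 true, .use 472 true, .rel 3 6 (28, false, 0), .use 18 false, .use 43 false]⟩,
  ⟨[14, 6, 11, 5, 15, 11, 11], [], [14, 6, 11, 5, 15, 11, 11], []⟩,
  ⟨[14, 6, 11, 5, 15, 11, 11, 15], [], [14, 6, 11, 5, 15, 11, 11, 15], []⟩]

/-- Equations. -/
def part8 : List CFact := [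
  ⟨[14, 6, 11, 5, 15, 11, 11, 15, 10], [], [14, 6, 11, 5, 15, 11, 11, 15, 10], []⟩,
  ⟨[14, 6, 11, 5, 15, 11, 11, 15, 10, 14], [], [14, 6, 11, 5, 15, 11, 11, 15, 10, 14], []⟩,
  ⟨[14, 6, 10, 15, 11], [], [14, 6, 10, 15, 11], []⟩,
  ⟨[14, 6, 10, 15, 11, 14], [], [14, 6, 10, 15, 11, 14], []⟩,
  ⟨[14, 6, 10, 15, 11, 14, 10], [], [14, 6, 10, 15, 11, 14, 10], []⟩,
  ⟨[14, 6, 10, 15, 11, 14, 10, 15], [], [14, 6, 10, 15, 11, 14, 10, 15], []⟩,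
  ⟨[14, 6, 11, 11, 14, 10, 10, 6, 11, 11], [], [14, 6, 11, 11, 14, 10, 10, 6, 11, 11], []⟩,
  ⟨[14, 6, 11, 11, 14, 10, 10, 6, 11, 11, 14], [], [14, 6, 11, 11, 14, 10, 10, 6, 11, 11, 14], []⟩,
  ⟨[14, 6, 11, 11, 14, 10, 10, 6, 11, 11, 14, 10], [], [14, 6, 11, 11, 14, 10, 10, 6, 11, 11, 14, 10], []⟩,
  ⟨[14, 6, 11, 11, 14, 10, 10, 6, 11, 11, 14, 10, 10], [], [14, 6, 11, 11, 14, 10, 10, 6, 11, 11, 14, 10, 10], []⟩,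
  ⟨[14, 6, 10, 5, 7, 4], [], [14, 6, 10, 5, 7, 4], []⟩,
  ⟨[14, 6, 10, 5, 7, 4, 6], [], [14, 6, 10, 5, 7, 4, 6], []⟩,
  ⟨[14, 6, 10, 5, 7, 4, 6, 10], [], [14, 6, 10, 5, 7, 4, 6, 10], []⟩,
  ⟨[14, 6, 10, 5, 7, 4, 6, 10, 9], [], [14, 6, 10, 5, 7, 4, 6, 10, 9], []⟩,
  ⟨[14, 6, 11, 5, 7, 5, 7, 4], [0, 4], [14, 6, 11], [.ins 7 5, .use 427 false, .rel 3 2 (3, false, 0)]⟩,
  ⟨[14, 6, 11, 5, 7, 5, 7], [0, 4], [14, 6, 11, 5], [.ins 7 4, .use 526 false, .use 394 false]⟩,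
  ⟨[14, 6, 11, 8, 0], [0], [14, 6, 11, 8], [.use 19 true, .ins 3 1, .use 393 false, .rel 3 3 (6, false, 0), .use 202 true, .cancel 4]⟩,
  ⟨[14, 6, 11, 5, 8], [], [14, 6, 11, 5, 8], []⟩,
  ⟨[14, 6, 11, 5, 8, 4], [], [14, 6, 11, 8], [.use 529 true, .use 527 true, .ins 7 5, .use 427 false, .rel 3 3 (8, false, 0), .use 202 true, .cancel 4]⟩,
  ⟨[14, 6, 11, 11, 1], [0], [14, 6, 11, 11], [.use 20 true, .rel 3 2 (11, false, 0), .use 393 false, .use 20 false]⟩,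
  ⟨[14, 6, 11, 11, 5], [], [14, 6, 11, 11, 5], []⟩,
  ⟨[14, 6, 11, 11, 5, 10], [], [14, 6, 11, 5], [.use 532 true, .use 20 true, .rel 3 3 (12, false, 0), .use 394 false]⟩,
  ⟨[14, 6, 11, 8, 11, 8], [], [14, 6, 11, 8, 11, 8], []⟩,
  ⟨[14, 6, 11, 8, 11, 8, 10], [], [14, 6, 11, 8, 11, 8, 10], []⟩,
  ⟨[14, 6, 11, 8, 11, 8, 11], [13], [14, 6, 11, 8, 13, 10], [.ins 6 10, .use 535 false, .use 535 true, .use 534 true, .use 451 true, .ins 4 8, .use 202 false, .rel 3 6 (14, false, 0), .use 20 false, .use 204 true, .cancel 4, .use 148 true, .cancel 4, .use 213 true, .cancel 5, .use 106 false]⟩,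
  ⟨[14, 6, 11, 13, 1], [0], [14, 6, 11, 13], [.use 21 true, .rel 3 2 (16, false, 0), .use 393 false, .use 21 false]⟩,
  ⟨[14, 6, 11, 13, 5], [], [14, 6, 11, 13, 5], []⟩,
  ⟨[14, 6, 11, 13, 5, 12], [], [14, 6, 11, 5], [.use 538 true, .use 21 true, .rel 3 3 (17, false, 0), .use 394 false]⟩,
  ⟨[14, 6, 11, 14, 14], [0], [14, 6, 11, 5], [.use 22 true, .rel 3 2 (21, false, 0), .use 393 true, .cancel 3, .use 427 true, .cancel 7, .use 527 false]⟩,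
  ⟨[14, 6, 11, 5, 15], [0], [14, 6, 11, 14], [.use 405 true, .use 540 true, .cancel 4]⟩,
  ⟨[14, 6, 11, 14, 11], [0], [14, 6, 11, 5, 15, 11], [.use 541 true, .use 406 false]⟩,
  ⟨[14, 6, 11, 5, 15, 11], [0], [14, 6, 11, 14, 11], [.use 542 true, .use 51 false]⟩,
  ⟨[14, 6, 11, 14, 10], [0], [14, 6, 11, 5, 15, 10], [.use 541 true, .use 408 false]⟩,
  ⟨[14, 6, 11, 14, 10], [0], [14, 6, 11, 5, 15, 10], [.use 416 true, .use 544 false]⟩,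
  ⟨[14, 6, 11, 14, 11, 15], [], [14, 6, 14, 10], [.use 543 true, .use 407 false]⟩,
  ⟨[14, 6, 11, 14, 11, 11], [0], [14, 6, 11, 5, 15, 11, 11], [.use 543 true, .use 510 false]⟩,
  ⟨[14, 6, 11, 5, 15, 10, 10], [0], [14, 6, 11, 14, 10, 10], [.use 545 true, .use 417 false]⟩,
  ⟨[14, 6, 11, 15, 1], [0], [14, 6, 11, 15], [.use 505 true, .rel 3 2 (22, false, 0), .use 393 false, .use 505 false]⟩,
  ⟨[14, 6, 11, 15, 5], [0], [14, 6, 11, 14], [.use 505 true, .rel 3 2 (23, false, 0), .use 394 false, .use 405 false, .use 541 false]⟩,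
  ⟨[14, 6, 11, 15, 9], [], [14, 6, 11, 8, 15], [.use 505 true, .rel 3 2 (24, false, 0), .use 202 true, .cancel 4, .use 428 false]⟩,
  ⟨[14, 6, 10, 14, 6, 8, 15], [], [14, 6, 10, 14, 6, 8, 15], []⟩,
  ⟨[14, 6, 10, 14, 6, 8, 15, 6], [0, 4, 8, 10, 8], [14, 6, 11, 15], [.use 552 true, .use 96 true, .use 42 true, .use 18 true, .use 174 true, .ins 2 14, .use 166 false, .ins 2 9, .use 163 false, .use 153 true, .rel 3 9 (25, false, 0), .use 505 false]⟩,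
  ⟨[14, 6, 11, 8, 11, 11, 15], [], [14, 6, 11, 8, 11, 11, 15], []⟩,
  ⟨[14, 6, 11, 8, 11, 11, 15, 10], [], [14, 6, 11, 8, 11, 11, 15, 10], []⟩,
  ⟨[14, 6, 11, 8, 11, 11, 15, 10, 10], [], [14, 6, 11, 8, 11, 11, 15, 10, 10], []⟩,
  ⟨[14, 6, 11, 8, 11, 11, 15, 10, 10, 8], [], [14, 6, 11, 8, 11, 11, 15, 10, 10, 8], []⟩,
  ⟨[14, 6, 10, 15, 12, 10], [], [14, 6, 10, 15, 12, 10], []⟩,
  ⟨[14, 6, 10, 15, 12, 10, 10], [12], [14, 6, 11, 8, 11, 11, 15, 10, 10, 8], [.use 558 true, .ins 5 14, .use 500 false, .ins 4 10, .use 204 false, .use 20 true, .rel 3 5 (27, true, 0), .use 202 true, .cancel 4, .use 451 false, .use 452 false, .use 554 false, .use 555 false, .use 556 false, .use 557 false]⟩,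
  ⟨[14, 6, 11, 11, 5, 15], [], [14, 6, 11, 11, 5, 15], []⟩,
  ⟨[14, 6, 11, 11, 5, 15, 11], [], [14, 6, 11, 5, 15, 10, 14], [.use 560 true, .ins 5 10, .use 533 false, .use 527 true, .ins 7 5, .use 427 false, .ins 3 1, .use 393 false, .rel 3 5 (28, false, 0), .use 22 false, .use 416 false, .use 545 false, .use 409 false]⟩,
  ⟨[14, 6, 11, 11, 5, 15, 10], [], [14, 6, 11, 11, 5, 15, 10], []⟩,
  ⟨[14, 6, 11, 11, 5, 15, 10, 14], [], [14, 6, 11, 11, 5, 15, 10, 14], []⟩,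
  ⟨[14, 6, 11, 11, 5, 15, 10, 14, 11], [], [14, 6, 11, 11, 5, 15, 10, 14, 11], []⟩,
  ⟨[14, 6, 11, 11, 5, 15, 10, 14, 11, 15], [], [14, 6, 11, 11, 5, 15, 10, 14, 11, 15], []⟩,
  ⟨[14, 6, 11, 15, 11], [], [14, 6, 11, 15, 11], []⟩,
  ⟨[14, 6, 11, 15, 11, 14], [], [14, 6, 11, 15, 11, 14], []⟩,
  ⟨[14, 6, 11, 15, 11, 14, 10], [], [14, 6, 11, 15, 11, 14, 10], []⟩,
  ⟨[14, 6, 11, 15, 11, 14, 10, 15], [], [14, 6, 11, 15, 11, 14, 10, 15], []⟩,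
  ⟨[14, 6, 10, 10, 14, 10, 10], [], [14, 6, 10, 10, 14, 10, 10], []⟩,
  ⟨[14, 6, 10, 10, 14, 10, 10, 6], [], [14, 6, 10, 10, 14, 10, 10, 6], []⟩,
  ⟨[14, 6, 10, 10, 14, 10, 10, 6, 11], [], [14, 6, 10, 10, 14, 10, 10, 6, 11], []⟩,
  ⟨[14, 6, 10, 10, 14, 10, 10, 6, 11, 11], [], [14, 6, 10, 10, 14, 10, 10, 6, 11, 11], []⟩,
  ⟨[14, 6, 14, 0], [], [14, 6, 14, 0], []⟩,
  ⟨[14, 6, 14, 0, 0], [], [14, 6, 14], [.use 574 true, .rel 3 2 (2, false, 0)]⟩]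

/-- Equations. -/
def part9 : List CFact := [
  ⟨[14, 6, 8, 15, 6, 4], [0, 6, 8], [14, 6, 14], [.ins 5 5, .use 397 false, .rel 3 2 (3, false, 0)]⟩,
  ⟨[14, 6, 14, 0, 8], [], [14, 6, 14, 0, 8], []⟩,
  ⟨[14, 6, 14, 0, 8, 0], [], [14, 6, 8, 14], [.use 577 true, .use 574 true, .rel 3 3 (6, false, 0), .use 149 true, .cancel 4]⟩,
  ⟨[14, 6, 8, 15, 4], [0], [14, 6, 8, 14], [.ins 4 9, .use 456 false, .ins 5 5, .use 397 false, .rel 3 3 (8, false, 0), .use 149 true, .cancel 4]⟩,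
  ⟨[14, 6, 14, 11, 1], [], [14, 6, 14, 11, 1], []⟩,
  ⟨[14, 6, 14, 11, 1, 10], [], [14, 6, 14, 0], [.use 580 true, .use 24 true, .rel 3 3 (11, false, 0), .use 575 true, .cancel 4]⟩,
  ⟨[14, 6, 14, 11, 5], [0, 8, 6], [14, 6, 8, 15, 6, 11], [.use 24 true, .rel 3 2 (12, false, 0), .use 576 true, .cancel 5, .use 412 false]⟩,
  ⟨[14, 6, 8, 14, 11, 8, 10], [], [14, 6, 8, 14, 11, 8, 10], []⟩,
  ⟨[14, 6, 8, 14, 11, 8, 11], [], [14, 6, 8, 14, 11, 8, 11], []⟩,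
  ⟨[14, 6, 8, 14, 11, 8, 11, 11], [], [14, 6, 8, 14, 11, 8, 11, 11], []⟩,
  ⟨[14, 6, 8, 14, 11, 8, 11, 11, 9], [12], [14, 6, 14, 10, 13], [.use 585 true, .use 584 true, .ins 6 10, .use 583 false, .use 583 true, .use 74 true, .use 34 true, .ins 4 8, .use 149 false, .rel 3 8 (14, false, 0), .use 24 false, .use 56 false, .use 287 true, .cancel 5]⟩,
  ⟨[14, 6, 14, 0], [0], [14, 6, 14], [.use 574 true, .use 7 true, .use 387 true, .ins 3 0, .use 380 false, .ins 2 14, .use 7 false, .rel 3 4 (22, false, 0)]⟩,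
  ⟨[14, 6, 14, 8], [0], [14, 6, 14, 0, 8], [.use 587 true, .use 577 false]⟩,
  ⟨[14, 6, 14, 0, 8], [0], [14, 6, 8, 14], [.use 588 true, .use 150 false]⟩,
  ⟨[14, 6, 8, 14, 0], [0], [14, 6, 8, 14], [.use 589 true, .use 578 false]⟩,
  ⟨[14, 6, 14, 11], [0], [14, 6, 14, 11, 1], [.use 587 true, .use 581 true, .cancel 5]⟩,
  ⟨[14, 6, 14, 11, 1], [0], [14, 6, 14, 11], [.use 591 true, .use 24 false]⟩,
  ⟨[14, 6, 14, 11, 0], [0], [14, 6, 14, 11], [.use 592 true, .use 580 true, .cancel 4]⟩,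
  ⟨[14, 6, 8, 14, 11, 11, 15], [], [14, 6, 8, 14, 11, 11, 15], []⟩,
  ⟨[14, 6, 8, 14, 11, 11, 15, 10], [], [14, 6, 8, 14, 11, 11, 15, 10], []⟩,
  ⟨[14, 6, 8, 14, 11, 11, 15, 10, 10], [], [14, 6, 8, 14, 11, 11, 15, 10, 10], []⟩,
  ⟨[14, 6, 8, 14, 11, 11, 15, 10, 10, 8], [], [14, 6, 8, 14, 11, 11, 15, 10, 10, 8], []⟩,
  ⟨[14, 6, 14, 11, 11, 15], [], [14, 6, 14, 11, 11, 15], []⟩,
  ⟨[14, 6, 14, 11, 11, 15, 10], [], [14, 6, 14, 11, 11, 15, 10], []⟩,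
  ⟨[14, 6, 14, 11, 11, 15, 10, 10], [], [14, 6, 8, 14, 11, 11, 15, 10, 10, 8], [.use 599 true, .use 598 true, .use 56 true, .use 24 true, .rel 3 5 (27, true, 0), .use 149 true, .cancel 4, .use 34 false, .use 75 false, .use 594 false, .use 595 false, .use 596 false, .use 597 false]⟩,
  ⟨[14, 6, 8, 15, 6, 11, 15], [], [14, 6, 8, 15, 6, 11, 15], []⟩,
  ⟨[14, 6, 8, 15, 6, 11, 15, 11], [], [14, 6, 8, 15, 6, 11, 15, 11], []⟩,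
  ⟨[14, 6, 8, 15, 6, 11, 15, 11, 15], [0, 6, 8], [14, 6, 10, 5], [.use 602 true, .use 601 true, .use 412 true, .ins 5 5, .use 397 false, .use 587 true, .use 574 true, .rel 3 6 (28, false, 0), .use 396 false, .use 486 false]⟩,
  ⟨[14, 6, 8, 15, 6, 11, 15, 10], [], [14, 6, 8, 15, 6, 11, 15, 10], []⟩,
  ⟨[14, 6, 8, 15, 6, 11, 15, 10, 14], [], [14, 6, 8, 15, 6, 11, 15, 10, 14], []⟩,
  ⟨[14, 6, 8, 15, 6, 11, 15, 10, 14, 11], [], [14, 6, 8, 15, 6, 11, 15, 10, 14, 11], []⟩,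
  ⟨[14, 6, 11, 5, 15, 10, 15], [], [14, 6, 11, 5, 15, 10, 15], []⟩,
  ⟨[14, 6, 11, 5, 15, 10, 15, 11], [], [14, 6, 11, 5, 15, 10, 15, 11], []⟩,
  ⟨[14, 6, 11, 5, 15, 10, 15, 11, 14], [], [14, 6, 11, 5, 15, 10, 15, 11, 14], []⟩,
  ⟨[14, 6, 8, 14, 11, 11, 14], [], [14, 6, 8, 14, 11, 11, 14], []⟩,
  ⟨[14, 6, 8, 14, 11, 11, 14, 10], [], [14, 6, 8, 14, 11, 11, 14, 10], []⟩,
  ⟨[14, 6, 8, 14, 11, 11, 14, 10, 10], [], [14, 6, 8, 14, 11, 11, 14, 10, 10], []⟩,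
  ⟨[14, 6, 8, 14, 11, 11, 14, 10, 10, 6], [], [14, 6, 8, 14, 11, 11, 14, 10, 10, 6], []⟩,
  ⟨[14, 6, 14, 10, 8, 7], [], [14, 6, 14, 10, 8, 7], []⟩,
  ⟨[14, 6, 11, 11, 5, 7], [], [14, 6, 11, 11, 5, 7], []⟩,
  ⟨[14, 6, 11, 11, 5, 7, 5], [], [14, 6, 11, 11, 5, 7, 5], []⟩,
  ⟨[14, 6, 11, 11, 5, 7, 5, 7], [], [14, 6, 11, 11, 5, 7, 5, 7], []⟩,
  ⟨[14, 6, 11, 11, 5, 7, 5, 7, 5], [0, 4], [14, 6, 11, 11], [.use 617 true, .use 616 true, .use 615 true, .use 532 true, .ins 4 6, .use 161 false, .use 154 true, .rel 3 7 (7, false, 0), .use 155 false, .use 156 false]⟩,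
  ⟨[14, 6, 11, 8, 12, 15], [], [14, 6, 11, 8, 12, 15], []⟩,
  ⟨[14, 6, 11, 8, 12, 15, 6], [], [14, 6, 11, 8, 12, 15, 6], []⟩,
  ⟨[14, 6, 11, 8, 12, 15, 6, 14], [], [14, 6, 11, 8, 12, 15, 6, 14], []⟩,
  ⟨[14, 6, 11, 8, 12, 15, 6, 14, 6], [0, 4, 11], [14, 6, 10, 8, 13, 14], [.use 621 true, .use 620 true, .use 619 true, .use 212 true, .use 156 true, .rel 3 6 (25, false, 0), .use 171 false, .use 182 false, .use 41 false, .use 260 true, .cancel 6]⟩,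
  ⟨[14, 6, 11, 13, 5, 7], [], [14, 6, 11, 13, 5, 7], []⟩,
  ⟨[14, 6, 11, 13, 5, 7, 5], [], [14, 6, 11, 13, 5, 7, 5], []⟩,
  ⟨[14, 6, 11, 13, 5, 7, 5, 7], [], [14, 6, 11, 13, 5, 7, 5, 7], []⟩,
  ⟨[14, 6, 11, 13, 5, 7, 5, 7, 5], [0, 4], [14, 6, 11, 13], [.use 625 true, .use 624 true, .use 623 true, .use 538 true, .use 160 true, .ins 3 1, .use 158 false, .rel 3 7 (7, false, 0), .use 159 true, .cancel 3, .use 162 true, .cancel 4]⟩,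
  ⟨[14, 6, 11, 8, 13, 15], [], [14, 6, 11, 8, 13, 15], []⟩,
  ⟨[14, 6, 11, 8, 13, 15, 6], [], [14, 6, 11, 8, 13, 15, 6], []⟩,
  ⟨[14, 6, 11, 8, 13, 15, 6, 14], [], [14, 6, 11, 8, 13, 15, 6, 14], []⟩,
  ⟨[14, 6, 11, 8, 13, 15, 6, 14, 6], [0, 4, 11], [14, 6, 10, 8, 12, 14], [.use 629 true, .use 628 true, .use 627 true, .ins 5 9, .use 213 false, .ins 4 7, .use 162 false, .rel 3 6 (25, false, 0), .use 168 true, .cancel 3, .use 177 true, .cancel 4, .use 40 false, .use 257 true, .cancel 6]⟩,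
  ⟨[14, 6, 10, 14, 10, 10, 6], [], [14, 6, 10, 14, 10, 10, 6], []⟩,
  ⟨[14, 6, 10, 14, 10, 10, 6, 11], [], [14, 6, 10, 14, 10, 10, 6, 11], []⟩,
  ⟨[14, 6, 10, 14, 10, 10, 6, 11, 11], [], [14, 6, 10, 14, 10, 10, 6, 11, 11], []⟩,
  ⟨[14, 6, 10, 14, 10, 10, 6, 11, 11, 14], [], [14, 6, 10, 14, 10, 10, 6, 11, 11, 14], []⟩,
  ⟨[14, 6, 10, 10, 5], [], [14, 6, 10, 10, 5], []⟩,
  ⟨[14, 6, 10, 10, 5, 7], [], [14, 6, 10, 10, 5, 7], []⟩,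
  ⟨[14, 6, 10, 10, 5, 7, 5], [], [14, 6, 10, 10, 5, 7, 5], []⟩,
  ⟨[14, 6, 10, 10, 5, 7, 5, 7], [], [14, 6, 10, 10, 5, 7, 5, 7], []⟩,
  ⟨[14, 6, 10, 10, 4], [0, 4], [14, 6, 10, 10, 5, 7, 5, 7], [.use 183 true, .ins 3 5, .use 176 false, .rel 3 3 (7, true, 0), .use 175 true, .cancel 3, .use 177 true, .cancel 4, .use 635 false, .use 636 false, .use 637 false, .use 638 false]⟩]

/-- Equations. -/
def part10 : List CFact := [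
  ⟨[14, 6, 10, 8, 12, 15], [], [14, 6, 10, 8, 12, 15], []⟩,
  ⟨[14, 6, 10, 8, 12, 15, 6], [], [14, 6, 10, 8, 12, 15, 6], []⟩,
  ⟨[14, 6, 10, 8, 12, 15, 6, 14], [], [14, 6, 10, 8, 12, 15, 6, 14], []⟩,
  ⟨[14, 6, 10, 8, 12, 15, 6, 14, 6], [10], [14, 6, 11, 8, 13, 14], [.use 642 true, .use 641 true, .use 640 true, .use 195 true, .use 183 true, .rel 3 6 (25, false, 0), .use 170 false, .use 160 false, .use 50 false, .use 275 true, .cancel 6]⟩,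
  ⟨[14, 6, 8, 14, 11, 13, 14], [], [14, 6, 8, 14, 11, 13, 14], []⟩,
  ⟨[14, 6, 8, 14, 11, 13, 14, 10], [], [14, 6, 8, 14, 11, 13, 14, 10], []⟩,
  ⟨[14, 6, 10, 13, 5, 7], [], [14, 6, 10, 13, 5, 7], []⟩,
  ⟨[14, 6, 10, 13, 5, 7, 5], [], [14, 6, 10, 13, 5, 7, 5], []⟩,
  ⟨[14, 6, 10, 13, 5, 7, 5, 7], [], [14, 6, 10, 13, 5, 7, 5, 7], []⟩,
  ⟨[14, 6, 10, 13, 5, 7, 5, 7, 5], [0, 4], [14, 6, 10, 13], [.use 648 true, .use 647 true, .use 646 true, .use 488 true, .use 182 true, .ins 3 1, .use 180 false, .rel 3 7 (7, false, 0), .use 181 true, .cancel 3, .use 184 true, .cancel 4]⟩,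
  ⟨[14, 6, 10, 8, 13, 15], [], [14, 6, 10, 8, 13, 15], []⟩,
  ⟨[14, 6, 10, 8, 13, 15, 6], [], [14, 6, 10, 8, 13, 15, 6], []⟩,
  ⟨[14, 6, 10, 8, 13, 15, 6, 14], [], [14, 6, 10, 8, 13, 15, 6, 14], []⟩,
  ⟨[14, 6, 10, 8, 13, 15, 6, 14, 6], [], [14, 6, 10, 8, 13, 15, 6, 14, 6], []⟩,
  ⟨[14, 6, 11, 11, 14, 9], [12, 11], [14, 6, 10, 8, 13, 15, 6, 14, 6], [.use 49 true, .ins 4 6, .use 161 false, .ins 3 14, .use 169 false, .rel 3 4 (25, true, 0), .use 184 true, .cancel 4, .use 196 true, .cancel 5, .use 650 false, .use 651 false, .use 652 false, .use 653 false]⟩,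
  ⟨[14, 6, 10, 10, 14, 10, 10, 6, 11, 11, 14], [], [14, 6, 10, 10, 14, 10, 10, 6, 11, 11, 14], []⟩,
  ⟨[14, 6, 10, 10, 14, 10, 10, 6, 11, 11, 14, 10], [], [14, 6, 10, 10, 14, 10, 10, 6, 11, 11, 14, 10], []⟩,
  ⟨[14, 6, 10, 10, 14, 10, 10, 6, 11, 11, 14, 10, 10], [], [14, 6, 10, 10, 14, 10, 10, 6, 11, 11, 14, 10, 10], []⟩,
  ⟨[14, 6, 10, 10, 14, 10, 10, 6, 11, 11, 14, 10, 10, 6], [], [14, 6, 10, 10, 14, 10, 10, 6, 11, 11, 14, 10, 10, 6], []⟩,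
  ⟨[14, 6, 8, 10, 0], [], [14, 6, 8, 10, 0], []⟩,
  ⟨[14, 6, 8, 10, 0, 0], [], [14, 6, 8, 10], [.use 659 true, .rel 4 2 (2, false, 0)]⟩,
  ⟨[14, 6, 8, 10, 4], [], [14, 6, 8, 10, 4], []⟩,
  ⟨[14, 6, 8, 10, 4, 4], [], [14, 6, 8, 10], [.use 661 true, .rel 4 2 (3, false, 0)]⟩,
  ⟨[14, 6, 8, 10, 0, 8], [], [14, 6, 8, 10, 0, 8], []⟩,
  ⟨[14, 6, 8, 10, 0, 8, 0], [], [14, 6, 8, 10, 8], [.use 663 true, .use 659 true, .rel 4 3 (6, false, 0), .use 229 true, .cancel 5]⟩,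
  ⟨[14, 6, 8, 10, 0, 7], [], [14, 6, 8, 10, 0, 7], []⟩,
  ⟨[14, 6, 8, 10, 0, 7, 5], [], [14, 6, 8, 10, 0, 7, 5], []⟩,
  ⟨[14, 6, 8, 10, 0, 7, 5, 7], [], [14, 6, 8, 10, 0, 7, 5, 7], []⟩,
  ⟨[14, 6, 8, 10, 0, 7, 5, 7, 5], [], [14, 6, 8, 10, 0, 7, 5, 7, 5], []⟩,
  ⟨[14, 6, 8, 10, 4, 6], [], [14, 6, 8, 10, 4, 6], []⟩,
  ⟨[14, 6, 8, 10, 4, 6, 4], [], [14, 6, 8, 10, 4, 6, 4], []⟩,
  ⟨[14, 6, 8, 10, 4, 6, 4, 6], [], [14, 6, 8, 10, 0, 7, 5, 7, 5], [.use 670 true, .use 669 true, .use 661 true, .rel 4 4 (7, true, 0), .use 659 false, .use 665 false, .use 666 false, .use 667 false, .use 668 false]⟩,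
  ⟨[14, 6, 8, 10, 4, 8], [], [14, 6, 8, 10, 4, 8], []⟩,
  ⟨[14, 6, 8, 10, 4, 8, 4], [], [14, 6, 8, 10, 8], [.use 672 true, .use 661 true, .rel 4 3 (8, false, 0), .use 229 true, .cancel 5]⟩,
  ⟨[14, 6, 8, 10, 0], [0], [14, 6, 8, 10], [.use 659 true, .use 12 true, .use 389 true, .ins 4 0, .use 385 false, .ins 3 10, .use 12 false, .rel 4 4 (11, false, 0)]⟩,
  ⟨[14, 6, 8, 10, 8], [0], [14, 6, 8, 10, 0, 8], [.use 674 true, .use 663 false]⟩,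
  ⟨[14, 6, 8, 10, 0, 8], [0], [14, 6, 8, 10, 8], [.use 675 true, .use 25 false]⟩,
  ⟨[14, 6, 8, 10, 8, 0], [0], [14, 6, 8, 10, 8], [.use 676 true, .use 664 false]⟩,
  ⟨[14, 6, 8, 10, 7], [0], [14, 6, 8, 10, 0, 7], [.use 674 true, .use 665 false]⟩,
  ⟨[14, 6, 8, 10, 0, 7], [0, 8], [14, 6, 8, 11], [.use 678 true, .use 228 true, .cancel 4]⟩,
  ⟨[14, 6, 8, 11, 5], [0, 8], [14, 6, 8, 10, 0, 7, 5], [.use 679 true, .use 666 false]⟩,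
  ⟨[14, 6, 8, 10, 0, 7, 5], [0, 8], [14, 6, 8, 11, 5], [.use 680 true, .use 449 false]⟩,
  ⟨[14, 6, 5, 8, 10], [], [14, 6, 8, 10, 4], [.ins 4 4, .use 392 false, .ins 3 10, .use 12 false, .rel 4 3 (12, false, 0), .use 662 true, .cancel 5]⟩,
  ⟨[14, 6, 10, 8, 11, 11, 11], [], [14, 6, 10, 8, 11, 11, 11], []⟩,
  ⟨[14, 6, 10, 8, 11, 11, 11, 9], [], [14, 6, 8, 11, 11], [.use 683 true, .use 501 true, .use 36 true, .ins 4 11, .use 36 false, .use 315 true, .use 59 true, .ins 5 8, .use 229 false, .rel 4 8 (14, false, 0), .use 12 true, .cancel 3, .use 13 false, .use 30 false]⟩,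
  ⟨[14, 6, 8, 10, 13, 1], [0], [14, 6, 8, 10, 13], [.use 27 true, .rel 4 2 (16, false, 0), .use 660 true, .cancel 5, .use 674 false, .use 27 false]⟩,
  ⟨[14, 6, 8, 10, 13, 5], [], [14, 6, 8, 10, 13, 5], []⟩,
  ⟨[14, 6, 8, 10, 13, 5, 12], [], [14, 6, 8, 10, 4], [.use 686 true, .use 27 true, .rel 4 3 (17, false, 0), .use 662 true, .cancel 5]⟩,
  ⟨[14, 6, 8, 10, 13, 9], [], [14, 6, 8, 10, 13, 9], []⟩,
  ⟨[14, 6, 8, 10, 13, 9, 12], [], [14, 6, 8, 10, 8], [.use 688 true, .use 27 true, .rel 4 3 (19, false, 0), .use 229 true, .cancel 5]⟩,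
  ⟨[14, 6, 8, 10, 14, 14], [0], [14, 6, 8, 10, 4], [.use 28 true, .rel 4 2 (21, false, 0), .use 659 false, .use 674 false, .use 661 false]⟩,
  ⟨[14, 6, 8, 10, 15], [], [14, 6, 8, 10, 15], []⟩,
  ⟨[14, 6, 8, 10, 15, 1], [0], [14, 6, 8, 10, 15], [.use 691 true, .rel 4 2 (22, false, 0), .use 660 true, .cancel 5, .use 674 false, .use 691 false]⟩,
  ⟨[14, 6, 8, 10, 15, 5], [0], [14, 6, 8, 10, 14], [.use 691 true, .rel 4 2 (23, false, 0), .use 662 true, .cancel 5, .use 690 true, .cancel 5]⟩,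
  ⟨[14, 6, 8, 10, 15, 9], [], [14, 6, 8, 10, 15, 9], []⟩,
  ⟨[14, 6, 8, 10, 15, 9, 14], [], [14, 6, 8, 10, 8], [.use 694 true, .use 691 true, .rel 4 3 (24, false, 0), .use 229 true, .cancel 5]⟩,
  ⟨[14, 6, 8, 11, 8, 15], [], [14, 6, 8, 11, 8, 15], []⟩,
  ⟨[14, 6, 8, 11, 8, 15, 6], [], [14, 6, 8, 11, 8, 15, 6], []⟩,
  ⟨[14, 6, 8, 11, 8, 15, 6, 14], [], [14, 6, 8, 11, 8, 15, 6, 14], []⟩,
  ⟨[14, 6, 8, 11, 8, 15, 6, 14, 6], [], [14, 6, 8, 11, 8, 15, 6, 14, 6], []⟩,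
  ⟨[14, 6, 8, 10, 15, 7], [], [14, 6, 8, 10, 15, 7], []⟩,
  ⟨[14, 6, 8, 10, 15, 7, 14], [], [14, 6, 8, 10, 15, 7, 14], []⟩,
  ⟨[14, 6, 8, 10, 15, 7, 14, 9], [8], [14, 6, 8, 11, 8, 15, 6, 14, 6], [.use 701 true, .use 700 true, .use 691 true, .rel 4 4 (25, true, 0), .use 185 false, .use 29 false, .use 696 false, .use 697 false, .use 698 false, .use 699 false]⟩,
  ⟨[14, 6, 8, 10, 15, 12], [], [14, 6, 8, 10, 15, 12], []⟩]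

/-- Equations. -/
def part11 : List CFact := [
  ⟨[14, 6, 8, 10, 15, 12, 14], [], [14, 6, 8, 10, 13], [.use 703 true, .use 691 true, .rel 4 3 (26, false, 0), .use 27 false]⟩,
  ⟨[14, 6, 11, 8, 12, 10, 15], [], [14, 6, 11, 8, 12, 10, 15], []⟩,
  ⟨[14, 6, 11, 8, 12, 10, 15, 10], [], [14, 6, 11, 8, 12, 10, 15, 10], []⟩,
  ⟨[14, 6, 11, 8, 12, 10, 15, 10, 10], [], [14, 6, 11, 8, 12, 10, 15, 10, 10], []⟩,
  ⟨[14, 6, 11, 8, 12, 10, 15, 10, 10, 8], [], [14, 6, 11, 8, 12, 10, 15, 10, 10, 8], []⟩,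
  ⟨[14, 6, 8, 11, 15], [], [14, 6, 8, 11, 15], []⟩,
  ⟨[14, 6, 8, 11, 15, 10], [], [14, 6, 8, 11, 15, 10], []⟩,
  ⟨[14, 6, 8, 11, 15, 10, 10], [12], [14, 6, 11, 8, 12, 10, 15, 10, 10, 8], [.use 710 true, .use 709 true, .use 13 true, .ins 3 10, .use 12 false, .rel 4 5 (27, true, 0), .use 229 true, .cancel 5, .use 59 false, .use 231 true, .cancel 6, .use 705 false, .use 706 false, .use 707 false, .use 708 false]⟩,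
  ⟨[14, 6, 8, 14, 11, 15], [], [14, 6, 8, 10, 14, 10], [.use 34 true, .ins 4 14, .use 454 false, .ins 4 10, .use 682 false, .use 661 true, .use 674 true, .use 659 true, .rel 4 6 (28, false, 0), .use 28 false, .use 63 false]⟩,
  ⟨[14, 6, 8, 11, 5, 15, 11, 11], [], [14, 6, 8, 11, 5, 15, 11, 11], []⟩,
  ⟨[14, 6, 8, 11, 5, 15, 11, 11, 15], [], [14, 6, 8, 11, 5, 15, 11, 11, 15], []⟩,
  ⟨[14, 6, 8, 10, 15, 11], [], [14, 6, 8, 10, 15, 11], []⟩,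
  ⟨[14, 6, 8, 10, 15, 11, 14], [], [14, 6, 8, 10, 15, 11, 14], []⟩,
  ⟨[14, 6, 8, 10, 15, 11, 14, 10], [], [14, 6, 8, 10, 15, 11, 14, 10], []⟩,
  ⟨[14, 6, 8, 10, 15, 11, 14, 10, 15], [], [14, 6, 8, 10, 15, 11, 14, 10, 15], []⟩,
  ⟨[14, 6, 8, 10, 13, 14], [], [14, 6, 8, 10, 13, 14], []⟩,
  ⟨[14, 6, 8, 10, 13, 14, 10], [], [14, 6, 8, 10, 13, 14, 10], []⟩,
  ⟨[14, 6, 8, 10, 13, 14, 10, 10], [], [14, 6, 8, 10, 13, 14, 10, 10], []⟩,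
  ⟨[14, 6, 8, 10, 13, 14, 10, 10, 6], [], [14, 6, 8, 10, 13, 14, 10, 10, 6], []⟩,
  ⟨[14, 6, 8, 11, 4], [], [14, 6, 8, 11, 5], [.rel 4 1 (3, false, 0), .use 449 false]⟩,
  ⟨[14, 6, 8, 11, 8, 0], [0], [14, 6, 8, 11, 8], [.use 29 true, .ins 4 1, .use 448 false, .rel 4 3 (6, false, 0), .use 240 true, .cancel 5]⟩,
  ⟨[14, 6, 8, 11, 5, 8], [], [14, 6, 8, 11, 5, 8], []⟩,
  ⟨[14, 6, 8, 11, 5, 8, 4], [], [14, 6, 8, 11, 8], [.use 725 true, .use 723 true, .rel 4 3 (8, false, 0), .use 240 true, .cancel 5]⟩,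
  ⟨[14, 6, 8, 11, 11, 1], [0], [14, 6, 8, 11, 11], [.use 30 true, .rel 4 2 (11, false, 0), .use 448 false, .use 30 false]⟩,
  ⟨[14, 6, 8, 11, 11, 5], [], [14, 6, 8, 11, 11, 5], []⟩,
  ⟨[14, 6, 8, 11, 11, 5, 10], [], [14, 6, 8, 11, 5], [.use 728 true, .use 30 true, .rel 4 3 (12, false, 0), .use 449 false]⟩,
  ⟨[14, 6, 8, 11, 13, 1], [0], [14, 6, 8, 11, 13], [.use 31 true, .rel 4 2 (16, false, 0), .use 448 false, .use 31 false]⟩,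
  ⟨[14, 6, 8, 11, 13, 5], [], [14, 6, 8, 11, 13, 5], []⟩,
  ⟨[14, 6, 8, 11, 13, 5, 12], [], [14, 6, 8, 11, 5], [.use 731 true, .use 31 true, .rel 4 3 (17, false, 0), .use 449 false]⟩,
  ⟨[14, 6, 8, 11, 14, 14], [0], [14, 6, 8, 11, 5], [.use 32 true, .rel 4 2 (21, false, 0), .use 448 true, .cancel 4, .use 723 false]⟩,
  ⟨[14, 6, 8, 11, 5, 15], [0], [14, 6, 8, 11, 14], [.use 458 true, .use 733 true, .cancel 5]⟩,
  ⟨[14, 6, 8, 11, 14, 11], [0], [14, 6, 8, 11, 5, 15, 11], [.use 734 true, .use 459 false]⟩,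
  ⟨[14, 6, 8, 11, 14, 10], [0], [14, 6, 8, 11, 5, 15, 10], [.use 734 true, .use 461 false]⟩,
  ⟨[14, 6, 8, 11, 5, 15, 10], [0], [14, 6, 8, 11, 14, 10], [.use 736 true, .use 70 false]⟩,
  ⟨[14, 6, 8, 11, 14, 10, 14], [0], [14, 6, 8, 11, 5, 15, 10, 14], [.use 737 true, .use 462 false]⟩,
  ⟨[14, 6, 8, 11, 15, 1], [0], [14, 6, 8, 11, 15], [.use 709 true, .rel 4 2 (22, false, 0), .use 448 false, .use 709 false]⟩,
  ⟨[14, 6, 8, 11, 15, 5], [0], [14, 6, 8, 11, 14], [.use 709 true, .rel 4 2 (23, false, 0), .use 449 false, .use 458 false, .use 734 false]⟩,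
  ⟨[14, 6, 8, 11, 15, 9], [], [14, 6, 8, 11, 8, 15], [.use 709 true, .rel 4 2 (24, false, 0), .use 240 true, .cancel 5, .use 696 false]⟩,
  ⟨[14, 6, 8, 10, 15, 9, 6], [], [14, 6, 8, 10, 15, 9, 6], []⟩,
  ⟨[14, 6, 8, 10, 15, 9, 6, 14], [], [14, 6, 8, 10, 15, 9, 6, 14], []⟩,
  ⟨[14, 6, 8, 10, 15, 9, 6, 14, 6], [], [14, 6, 8, 10, 15, 9, 6, 14, 6], []⟩,
  ⟨[14, 6, 8, 10, 15, 9, 6, 14, 6, 8], [], [14, 6, 8, 10, 15, 9, 6, 14, 6, 8], []⟩,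
  ⟨[14, 6, 8, 11, 15, 7], [], [14, 6, 8, 11, 15, 7], []⟩,
  ⟨[14, 6, 8, 11, 15, 7, 14], [8], [14, 6, 8, 10, 15, 9, 6, 14, 6, 8], [.use 746 true, .use 709 true, .rel 4 3 (25, true, 0), .use 228 false, .use 25 false, .use 695 true, .cancel 6, .use 742 false, .use 743 false, .use 744 false, .use 745 false]⟩,
  ⟨[14, 6, 8, 11, 15, 12], [], [14, 6, 8, 11, 15, 12], []⟩,
  ⟨[14, 6, 8, 11, 15, 12, 14], [], [14, 6, 8, 11, 13], [.use 748 true, .use 709 true, .rel 4 3 (26, false, 0), .use 31 false]⟩,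
  ⟨[14, 6, 10, 8, 13, 15, 10], [], [14, 6, 10, 8, 13, 15, 10], []⟩,
  ⟨[14, 6, 10, 8, 13, 15, 10, 10], [], [14, 6, 10, 8, 13, 15, 10, 10], []⟩,
  ⟨[14, 6, 10, 8, 13, 15, 10, 10, 8], [], [14, 6, 10, 8, 13, 15, 10, 10, 8], []⟩,
  ⟨[14, 6, 10, 8, 13, 15, 10, 10, 8, 11], [], [14, 6, 10, 8, 13, 15, 10, 10, 8, 11], []⟩,
  ⟨[14, 6, 8, 10, 15, 12, 10], [], [14, 6, 10, 8, 13, 15, 10, 10, 8, 11], [.ins 6 14, .use 704 false, .ins 5 10, .use 241 false, .use 30 true, .rel 4 4 (27, true, 0), .use 240 true, .cancel 5, .use 67 false, .use 207 false, .use 650 false, .use 750 false, .use 751 false, .use 752 false, .use 753 false]⟩,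
  ⟨[14, 6, 8, 11, 11, 5, 15], [], [14, 6, 8, 11, 11, 5, 15], []⟩,
  ⟨[14, 6, 8, 11, 11, 5, 15, 11], [], [14, 6, 8, 11, 5, 15, 10, 14], [.use 755 true, .ins 6 10, .use 729 false, .use 723 true, .ins 4 1, .use 448 false, .rel 4 5 (28, false, 0), .use 32 false, .use 70 false, .use 738 false]⟩,
  ⟨[14, 6, 8, 11, 11, 5, 15, 10], [], [14, 6, 8, 11, 11, 5, 15, 10], []⟩,
  ⟨[14, 6, 8, 11, 11, 5, 15, 10, 14], [], [14, 6, 8, 11, 11, 5, 15, 10, 14], []⟩,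
  ⟨[14, 6, 8, 11, 11, 5, 15, 10, 14, 11], [], [14, 6, 8, 11, 11, 5, 15, 10, 14, 11], []⟩,
  ⟨[14, 6, 8, 11, 15, 11], [], [14, 6, 8, 11, 15, 11], []⟩,
  ⟨[14, 6, 8, 11, 15, 11, 14], [], [14, 6, 8, 11, 15, 11, 14], []⟩,
  ⟨[14, 6, 8, 11, 15, 11, 14, 10], [], [14, 6, 8, 11, 15, 11, 14, 10], []⟩,
  ⟨[14, 6, 8, 11, 15, 11, 14, 10, 15], [], [14, 6, 8, 11, 15, 11, 14, 10, 15], []⟩,
  ⟨[14, 6, 8, 11, 14, 10, 10], [], [14, 6, 8, 11, 14, 10, 10], []⟩,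
  ⟨[14, 6, 8, 14, 11, 1], [0], [14, 6, 8, 14, 11], [.use 34 true, .rel 4 2 (11, false, 0), .use 578 true, .cancel 5, .use 589 false, .use 34 false]⟩,
  ⟨[14, 6, 8, 14, 11, 5], [0], [14, 6, 8, 15, 11], [.use 34 true, .rel 4 2 (12, false, 0), .use 579 true, .cancel 4, .use 465 false]⟩,
  ⟨[14, 6, 14, 11, 8, 11], [], [14, 6, 14, 11, 8, 11], []⟩]

/-- Equations. -/
def part12 : List CFact := [
  ⟨[14, 6, 14, 11, 8, 11, 11], [], [14, 6, 14, 11, 8, 11, 11], []⟩,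
  ⟨[14, 6, 14, 11, 8, 11, 11, 9], [12], [14, 6, 8, 14, 10, 13], [.use 768 true, .use 767 true, .ins 5 10, .use 109 false, .use 109 true, .use 55 true, .use 24 true, .ins 3 8, .use 150 false, .rel 4 8 (14, false, 0), .use 34 false, .use 75 false, .use 304 true, .cancel 6]⟩,
  ⟨[14, 6, 8, 14, 11, 11, 15, 10, 10, 8, 8], [], [14, 6, 8, 14, 11, 11, 15, 10, 10], [.use 600 true, .use 599 true, .use 598 true, .use 56 true, .use 24 true, .ins 3 8, .use 150 false, .rel 4 7 (27, false, 0), .use 34 false, .use 75 false, .use 594 false, .use 595 false, .use 596 false]⟩,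
  ⟨[14, 6, 8, 15, 11, 15], [], [14, 6, 8, 15, 11, 15], []⟩,
  ⟨[14, 6, 8, 15, 11, 15, 11], [], [14, 6, 8, 15, 11, 15, 11], []⟩,
  ⟨[14, 6, 8, 15, 11, 15, 11, 15], [0], [14, 6, 8, 10, 4], [.use 772 true, .use 771 true, .use 465 true, .ins 4 5, .use 455 false, .use 590 true, .rel 4 6 (28, false, 0), .use 454 false, .use 682 false]⟩,
  ⟨[14, 6, 8, 15, 11, 15, 10], [], [14, 6, 8, 15, 11, 15, 10], []⟩,
  ⟨[14, 6, 8, 15, 11, 15, 10, 14], [], [14, 6, 8, 15, 11, 15, 10, 14], []⟩,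
  ⟨[14, 6, 8, 11, 14, 10, 15], [], [14, 6, 8, 11, 14, 10, 15], []⟩,
  ⟨[14, 6, 14, 11, 11, 14], [], [14, 6, 14, 11, 11, 14], []⟩,
  ⟨[14, 6, 14, 11, 11, 14, 10], [], [14, 6, 14, 11, 11, 14, 10], []⟩,
  ⟨[14, 6, 14, 11, 11, 14, 10, 10], [], [14, 6, 14, 11, 11, 14, 10, 10], []⟩,
  ⟨[14, 6, 14, 11, 11, 14, 10, 10, 6], [], [14, 6, 14, 11, 11, 14, 10, 10, 6], []⟩,
  ⟨[14, 6, 10, 8, 4], [], [14, 6, 10, 5, 8], [.rel 4 1 (3, false, 0), .use 485 true, .cancel 5]⟩,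
  ⟨[14, 6, 10, 5, 8, 8], [], [14, 6, 10, 5], [.use 781 true, .rel 4 2 (8, false, 0), .use 15 true, .cancel 3, .use 435 false]⟩,
  ⟨[14, 6, 10, 8, 10, 10, 10], [], [14, 6, 10, 8, 10, 10, 10], []⟩,
  ⟨[14, 6, 10, 8, 10, 10, 10, 10], [], [14, 6, 10, 8, 11, 11, 11], [.use 783 true, .use 78 true, .use 35 true, .rel 4 4 (10, false, 0), .use 36 false, .use 501 false, .use 683 false]⟩,
  ⟨[14, 6, 10, 8, 11, 1], [0], [14, 6, 10, 8, 11], [.use 36 true, .rel 4 2 (11, false, 0), .use 478 true, .cancel 5, .use 482 false, .use 36 false]⟩,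
  ⟨[14, 6, 10, 8, 11, 5], [], [14, 6, 10, 8, 11, 5], []⟩,
  ⟨[14, 6, 10, 8, 11, 5, 10], [], [14, 6, 10, 5, 8], [.use 786 true, .use 36 true, .rel 4 3 (12, false, 0), .use 485 true, .cancel 5]⟩,
  ⟨[14, 6, 8, 11, 11, 9], [], [14, 6, 10, 8, 11, 11, 11], [.use 30 true, .use 13 true, .ins 3 10, .use 12 false, .use 12 true, .use 4 true, .ins 2 10, .use 5 false, .ins 3 8, .use 15 false, .rel 4 8 (14, false, 0), .use 36 false, .use 501 false, .use 683 false]⟩,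
  ⟨[14, 6, 10, 8, 13, 1], [0], [14, 6, 10, 8, 13], [.use 38 true, .rel 4 2 (16, false, 0), .use 478 true, .cancel 5, .use 482 false, .use 38 false]⟩,
  ⟨[14, 6, 10, 8, 13, 5], [], [14, 6, 10, 8, 13, 5], []⟩,
  ⟨[14, 6, 10, 8, 13, 5, 12], [], [14, 6, 10, 5, 8], [.use 790 true, .use 38 true, .rel 4 3 (17, false, 0), .use 485 true, .cancel 5]⟩,
  ⟨[14, 6, 10, 8, 14, 14], [0], [14, 6, 10, 5, 8], [.use 39 true, .rel 4 2 (21, false, 0), .use 483 false, .use 781 false]⟩,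
  ⟨[14, 6, 10, 8, 15, 1], [0], [14, 6, 10, 8, 15], [.use 440 true, .rel 4 2 (22, false, 0), .use 478 true, .cancel 5, .use 482 false, .use 440 false]⟩,
  ⟨[14, 6, 10, 8, 15, 5], [0], [14, 6, 10, 8, 14], [.use 440 true, .rel 4 2 (23, false, 0), .use 485 true, .cancel 5, .use 792 true, .cancel 5]⟩,
  ⟨[14, 6, 10, 15, 6], [], [14, 6, 10, 15, 6], []⟩,
  ⟨[14, 6, 10, 15, 6, 14], [], [14, 6, 10, 15, 6, 14], []⟩,
  ⟨[14, 6, 10, 15, 6, 14, 6], [], [14, 6, 10, 15, 6, 14, 6], []⟩,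
  ⟨[14, 6, 10, 15, 6, 14, 6, 8], [], [14, 6, 10, 15, 6, 14, 6, 8], []⟩,
  ⟨[14, 6, 10, 8, 15, 7], [], [14, 6, 10, 8, 15, 7], []⟩,
  ⟨[14, 6, 10, 8, 15, 7, 14], [8, 10, 8, 11], [14, 6, 10, 15, 6, 14, 6, 8], [.use 799 true, .use 440 true, .rel 4 3 (25, true, 0), .use 191 false, .use 190 false, .use 491 false, .use 795 false, .use 796 false, .use 797 false, .use 798 false]⟩,
  ⟨[14, 6, 10, 8, 15, 12], [], [14, 6, 10, 8, 13, 15], [.use 440 true, .rel 4 2 (26, false, 0), .use 38 false, .use 650 false]⟩,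
  ⟨[14, 6, 11, 15, 10, 10, 8], [], [14, 6, 10, 8, 11, 11, 15, 10, 10], [.use 507 true, .use 506 true, .use 505 true, .use 6 true, .ins 2 10, .use 5 false, .ins 3 8, .use 15 false, .rel 4 7 (27, false, 0), .use 36 false, .use 501 false, .use 502 false, .use 503 false, .use 504 false]⟩,
  ⟨[14, 6, 10, 8, 11, 5, 15], [], [14, 6, 10, 8, 11, 5, 15], []⟩,
  ⟨[14, 6, 10, 8, 11, 5, 15, 11], [], [14, 6, 10, 8, 11, 5, 15, 11], []⟩,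
  ⟨[14, 6, 10, 8, 11, 5, 15, 11, 15], [0], [14, 6, 10, 8, 14, 10], [.use 804 true, .use 803 true, .ins 6 10, .use 787 false, .use 781 true, .use 483 true, .rel 4 6 (28, false, 0), .use 39 false, .use 89 false]⟩,
  ⟨[14, 6, 10, 8, 11, 5, 15, 10], [], [14, 6, 10, 8, 11, 5, 15, 10], []⟩,
  ⟨[14, 6, 10, 8, 11, 5, 15, 10, 14], [], [14, 6, 10, 8, 11, 5, 15, 10, 14], []⟩,
  ⟨[14, 6, 10, 8, 11, 5, 15, 10, 14, 11], [], [14, 6, 10, 8, 11, 5, 15, 10, 14, 11], []⟩,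
  ⟨[14, 6, 10, 8, 11, 5, 15, 10, 14, 11, 15], [], [14, 6, 10, 8, 11, 5, 15, 10, 14, 11, 15], []⟩,
  ⟨[14, 6, 10, 8, 15, 11], [], [14, 6, 10, 8, 15, 11], []⟩,
  ⟨[14, 6, 10, 8, 15, 11, 14], [], [14, 6, 10, 8, 15, 11, 14], []⟩,
  ⟨[14, 6, 10, 8, 11, 11, 14], [], [14, 6, 10, 8, 11, 11, 14], []⟩,
  ⟨[14, 6, 10, 8, 11, 11, 14, 10], [], [14, 6, 10, 8, 11, 11, 14, 10], []⟩,
  ⟨[14, 6, 10, 8, 11, 11, 14, 10, 10], [], [14, 6, 10, 8, 11, 11, 14, 10, 10], []⟩,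
  ⟨[14, 6, 10, 8, 11, 11, 14, 10, 10, 6], [], [14, 6, 10, 8, 11, 11, 14, 10, 10, 6], []⟩,
  ⟨[14, 6, 10, 8, 11, 11, 14, 10, 10, 9], [], [14, 6, 11, 14, 10, 10], [.use 814 true, .use 813 true, .use 812 true, .use 501 true, .use 36 true, .use 15 true, .use 5 true, .rel 2 8 (27, false, 5), .use 6 false, .use 22 false, .use 416 false, .use 545 false, .use 548 false]⟩,
  ⟨[14, 6, 11, 11, 14, 10, 10, 9], [], [14, 6, 8, 11, 11, 14, 10, 10], [.use 376 true, .use 375 true, .use 49 true, .use 20 true, .use 6 true, .rel 2 6 (27, false, 7), .use 143 true, .cancel 3, .use 13 false, .use 30 false, .use 469 false, .use 470 false, .use 471 false]⟩,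
  ⟨[14, 6, 11, 14, 10, 10, 9], [], [14, 6, 10, 8, 11, 11, 14, 10, 10], [.use 548 true, .use 545 true, .use 416 true, .use 22 true, .use 6 true, .rel 2 5 (27, false, 8), .use 5 false, .use 190 true, .cancel 4, .use 36 false, .use 501 false, .use 812 false, .use 813 false, .use 814 false]⟩,
  ⟨[14, 6, 10, 5, 0], [0], [14, 6, 10, 5], [.use 603 true, .use 602 true, .use 601 true, .use 412 true, .ins 5 14, .use 374 false, .rel 2 6 (28, false, 3), .use 5 false, .use 435 false]⟩,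
  ⟨[14, 6, 11, 15, 4], [0], [14, 6, 11, 14], [.ins 4 1, .use 549 false, .use 505 true, .use 6 true, .rel 2 4 (28, false, 6), .use 7 false, .use 23 false, .use 407 true, .cancel 6, .use 543 false, .use 51 true, .cancel 4]⟩,
  ⟨[14, 6, 8, 10, 13, 9, 10], [12], [14, 6, 11, 8, 11], [.use 688 true, .ins 5 10, .use 241 false, .use 30 true, .use 13 true, .rel 3 5 (14, false, 4), .use 13 false, .use 240 true, .cancel 5, .use 66 false, .use 317 true, .cancel 5, .use 45 true, .cancel 4, .use 451 false]⟩,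
  ⟨[14, 6, 8, 10, 13, 9], [12], [14, 6, 11, 8, 11, 11], [.ins 6 10, .use 821 false, .use 452 false]⟩,
  ⟨[14, 6, 11, 8, 11, 11, 8], [13], [14, 6, 8, 10, 13], [.use 822 true, .use 688 true, .cancel 5]⟩,
  ⟨[14, 6, 11, 8, 11, 11, 12], [13], [14, 6, 8, 10, 8], [.use 822 true, .use 689 false]⟩,
  ⟨[14, 6, 8, 10, 4, 0], [0], [14, 6, 8, 10, 4], [.use 773 true, .use 772 true, .use 771 true, .use 465 true, .use 372 true, .rel 3 6 (28, false, 3), .use 12 false, .use 662 true, .cancel 5]⟩,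
  ⟨[14, 6, 8, 11, 15, 4], [0], [14, 6, 8, 11, 14], [.ins 5 1, .use 739 false, .use 709 true, .use 13 true, .rel 3 4 (28, false, 6), .use 14 false, .use 33 false, .use 460 true, .cancel 7, .use 459 true, .cancel 6, .use 734 false]⟩,
  ⟨[14, 6, 10, 10, 0], [0], [14, 6, 10, 10], [.use 16 true, .use 480 true, .ins 4 0, .use 473 false, .rel 3 3 (11, false, 1), .use 16 false]⟩,
  ⟨[14, 6, 10, 5, 10], [], [14, 6, 10, 10, 5], [.use 435 true, .rel 3 2 (12, false, 1), .use 16 false, .use 635 false]⟩,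
  ⟨[14, 6, 10, 10, 5, 7, 5, 7, 11], [0, 4], [14, 6, 10, 5], [.use 639 true, .use 16 true, .rel 3 3 (12, false, 2), .use 439 false, .use 475 false]⟩,
  ⟨[14, 6, 10, 10, 5, 7, 5, 7], [0, 4], [14, 6, 10, 10, 5], [.ins 8 11, .use 829 false, .use 828 false]⟩,
  ⟨[14, 6, 10, 8, 11, 11, 9], [13], [14, 6, 8, 11, 8, 11, 13], [.use 501 true, .use 36 true, .ins 4 10, .use 35 false, .use 35 true, .use 15 true, .rel 3 6 (14, false, 2), .use 16 false, .use 195 false, .use 84 false, .use 252 false, .use 349 true, .cancel 7]⟩]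

/-- Equations. -/
def part13 : List CFact := [
  ⟨[14, 6, 10, 8, 10, 10, 10, 9], [13], [14, 6, 11, 8, 13, 10], [.use 783 true, .use 78 true, .use 35 true, .ins 4 8, .use 190 false, .rel 3 5 (14, false, 7), .use 16 false, .use 197 true, .cancel 4, .use 148 false, .use 148 true, .cancel 4, .use 210 false, .use 106 false]⟩,
  ⟨[14, 6, 10, 5, 12], [13], [14, 6, 10, 10, 5], [.use 435 true, .rel 3 2 (17, false, 1), .use 146 false, .use 635 false]⟩,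
  ⟨[14, 6, 10, 13, 5, 5], [], [14, 6, 10, 13], [.ins 5 12, .use 489 false, .use 475 true, .use 439 true, .rel 3 3 (17, false, 3), .use 17 false]⟩,
  ⟨[14, 6, 10, 13, 5, 7, 5, 7], [0, 4], [14, 6, 10, 13, 5], [.ins 8 5, .use 649 false, .use 834 true, .cancel 5]⟩,
  ⟨[14, 6, 10, 13, 5, 6], [0, 4], [14, 6, 10, 13, 5, 7, 5], [.use 835 true, .use 648 true, .cancel 7]⟩,
  ⟨[14, 6, 10, 14, 5], [0], [14, 6, 10, 15], [.use 18 true, .rel 3 2 (21, false, 1), .use 491 false, .use 492 true, .cancel 4]⟩,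
  ⟨[14, 6, 8, 15, 6, 11, 15, 11, 14], [6, 8], [14, 6, 10], [.ins 8 15, .use 603 false, .ins 4 0, .use 819 false, .use 435 true, .rel 3 4 (21, false, 2)]⟩,
  ⟨[14, 6, 8, 15, 6, 11, 15, 11], [6, 8], [14, 6, 10, 15], [.ins 8 14, .use 838 false, .use 491 false]⟩,
  ⟨[14, 6, 10, 15, 10], [8, 6], [14, 6, 8, 15, 6, 11, 15], [.use 839 true, .use 602 true, .cancel 7]⟩,
  ⟨[14, 6, 10, 14, 0], [0], [14, 6, 10, 14], [.use 18 true, .use 480 true, .ins 4 0, .use 473 false, .rel 3 3 (22, false, 1), .use 18 false]⟩,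
  ⟨[14, 6, 10, 14, 11, 15], [], [14, 6, 10, 10, 14, 10], [.use 44 true, .ins 4 5, .use 837 false, .ins 4 1, .use 492 false, .use 491 true, .rel 3 5 (28, false, 7), .use 16 false, .use 40 false, .use 91 false]⟩,
  ⟨[14, 6, 11, 11, 5, 5], [], [14, 6, 11, 11], [.ins 5 10, .use 533 false, .use 527 true, .ins 7 5, .use 427 false, .rel 3 3 (12, false, 3), .use 20 false]⟩,
  ⟨[14, 6, 11, 11, 5, 7, 5, 7], [0, 4], [14, 6, 11, 11, 5], [.ins 8 5, .use 618 false, .use 843 true, .cancel 5]⟩,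
  ⟨[14, 6, 11, 11, 5, 6], [0, 4], [14, 6, 11, 11, 5, 7, 5], [.use 844 true, .use 617 true, .cancel 7]⟩,
  ⟨[14, 6, 11, 8, 11, 8, 10, 9], [12], [14, 6, 11, 8, 12, 10], [.use 535 true, .ins 6 11, .use 536 false, .use 106 true, .use 210 true, .ins 4 10, .use 148 false, .ins 4 10, .use 204 false, .use 20 true, .rel 3 8 (14, false, 4), .use 20 false, .use 211 true, .cancel 5, .use 104 false]⟩,
  ⟨[14, 6, 11, 13, 5, 5], [], [14, 6, 11, 13], [.ins 5 12, .use 539 false, .use 527 true, .ins 7 5, .use 427 false, .rel 3 3 (17, false, 3), .use 21 false]⟩,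
  ⟨[14, 6, 11, 13, 5, 7, 5, 7], [0, 4], [14, 6, 11, 13, 5], [.ins 8 5, .use 626 false, .use 847 true, .cancel 5]⟩,
  ⟨[14, 6, 11, 13, 5, 6], [0, 4], [14, 6, 11, 13, 5, 7, 5], [.use 848 true, .use 625 true, .cancel 7]⟩,
  ⟨[14, 6, 11, 14, 0], [0], [14, 6, 11, 14], [.use 22 true, .use 393 true, .rel 3 3 (22, false, 1), .use 22 false]⟩,
  ⟨[14, 6, 11, 11, 15, 12], [12], [14, 6, 11, 15], [.use 402 true, .ins 4 13, .use 147 false, .rel 3 3 (26, false, 3), .use 505 false]⟩,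
  ⟨[14, 6, 11, 8, 11, 11, 15, 10, 10, 8, 8], [], [14, 6, 11, 8, 11, 11, 15, 10, 10], [.use 559 true, .use 558 true, .ins 5 14, .use 500 false, .ins 4 10, .use 204 false, .use 20 true, .rel 3 6 (27, false, 1), .use 19 false, .use 451 false, .use 452 false, .use 554 false, .use 555 false, .use 556 false]⟩,
  ⟨[14, 6, 14, 10, 0], [0], [14, 6, 14, 10], [.use 23 true, .use 587 true, .ins 4 0, .use 575 false, .rel 3 3 (11, false, 1), .use 23 false]⟩,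
  ⟨[14, 6, 8, 15, 6, 11, 5], [0, 6, 8], [14, 6, 14, 11], [.use 412 true, .ins 5 5, .use 397 false, .rel 3 3 (12, false, 3), .use 24 false]⟩,
  ⟨[14, 6, 8, 14, 11, 11, 14, 10, 10, 9], [], [14, 6, 14, 11, 11, 14, 10, 10], [.use 612 true, .use 611 true, .use 610 true, .use 75 true, .use 34 true, .use 150 true, .rel 3 7 (27, false, 6), .use 24 false, .use 56 false, .use 777 false, .use 778 false, .use 779 false]⟩,
  ⟨[14, 6, 11, 11, 5, 0], [0], [14, 6, 11, 11, 5], [.use 532 true, .ins 4 6, .use 161 false, .ins 3 4, .use 155 false, .rel 3 4 (7, false, 6), .use 156 false, .use 618 true, .cancel 8, .use 844 false, .use 845 false, .use 616 true, .cancel 6, .use 615 true, .cancel 5]⟩,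
  ⟨[14, 6, 11, 13, 5, 0], [0], [14, 6, 11, 13, 5], [.use 538 true, .use 160 true, .use 159 true, .rel 3 4 (7, false, 6), .use 162 true, .cancel 4, .use 626 true, .cancel 8, .use 848 false, .use 849 false, .use 624 true, .cancel 6, .use 623 true, .cancel 5]⟩,
  ⟨[14, 6, 10, 13, 5, 0], [0], [14, 6, 10, 13, 5], [.use 488 true, .use 182 true, .use 181 true, .rel 3 4 (7, false, 6), .use 184 true, .cancel 4, .use 649 true, .cancel 8, .use 835 false, .use 836 false, .use 647 true, .cancel 6, .use 646 true, .cancel 5]⟩,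
  ⟨[14, 6, 8, 11, 5, 0], [0], [14, 6, 8, 11, 5], [.use 449 true, .ins 4 6, .use 228 false, .rel 4 3 (7, false, 7), .use 661 false, .use 669 false, .use 670 false, .use 671 false, .use 668 true, .cancel 8, .use 667 true, .cancel 7, .use 681 false]⟩,
  ⟨[14, 6, 8, 10, 10, 0], [0], [14, 6, 8, 10, 10], [.use 26 true, .use 674 true, .ins 5 0, .use 660 false, .rel 4 3 (11, false, 1), .use 26 false]⟩,
  ⟨[14, 6, 8, 10, 13, 5, 5], [], [14, 6, 8, 10, 13], [.ins 6 12, .use 687 false, .use 661 true, .rel 4 3 (17, false, 3), .use 27 false]⟩,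
  ⟨[14, 6, 8, 10, 14, 5], [0], [14, 6, 8, 10, 15], [.use 28 true, .rel 4 2 (21, false, 1), .use 691 false, .use 692 true, .cancel 5]⟩,
  ⟨[14, 6, 8, 15, 11, 15, 11, 14], [], [14, 6, 8, 10], [.ins 7 15, .use 773 false, .ins 5 0, .use 825 false, .ins 5 4, .use 662 false, .rel 4 4 (21, false, 2)]⟩,
  ⟨[14, 6, 8, 15, 11, 15, 11], [], [14, 6, 8, 10, 15], [.ins 7 14, .use 863 false, .use 691 false]⟩,
  ⟨[14, 6, 8, 10, 15, 10], [], [14, 6, 8, 15, 11, 15], [.use 864 true, .use 772 true, .cancel 6]⟩,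
  ⟨[14, 6, 8, 10, 14, 0], [0], [14, 6, 8, 10, 14], [.use 28 true, .use 674 true, .ins 5 0, .use 660 false, .rel 4 3 (22, false, 1), .use 28 false]⟩,
  ⟨[14, 6, 8, 10, 15, 9, 9], [], [14, 6, 8, 10, 15], [.ins 6 14, .use 695 false, .use 25 true, .rel 4 3 (24, false, 3), .use 691 false]⟩,
  ⟨[14, 6, 8, 10, 14, 12], [], [14, 6, 8, 10, 13, 14], [.use 28 true, .rel 4 2 (26, false, 2), .use 27 false, .use 719 false]⟩,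
  ⟨[14, 6, 8, 11, 11, 5, 5], [], [14, 6, 8, 11, 11], [.ins 6 10, .use 729 false, .use 723 true, .rel 4 3 (12, false, 3), .use 30 false]⟩,
  ⟨[14, 6, 8, 11, 8, 11, 13, 9], [12], [14, 6, 10, 8, 11, 11], [.use 352 true, .use 320 true, .ins 6 11, .use 313 false, .use 243 true, .ins 5 10, .use 188 false, .ins 5 10, .use 241 false, .use 30 true, .rel 4 8 (14, false, 4), .use 30 false, .use 788 false, .use 683 true, .cancel 6]⟩,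
  ⟨[14, 6, 8, 11, 13, 5, 5], [], [14, 6, 8, 11, 13], [.ins 6 12, .use 732 false, .use 723 true, .rel 4 3 (17, false, 3), .use 31 false]⟩,
  ⟨[14, 6, 8, 11, 8, 12], [13], [14, 6, 10, 8, 11, 11, 11], [.ins 5 8, .use 240 false, .rel 4 2 (19, false, 1), .use 187 true, .cancel 5, .use 788 false]⟩,
  ⟨[14, 6, 8, 11, 5, 14], [0], [14, 6, 8, 11, 15], [.ins 5 0, .use 859 false, .use 449 true, .rel 4 3 (21, false, 2), .use 709 false]⟩,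
  ⟨[14, 6, 8, 11, 14, 0], [0], [14, 6, 8, 11, 14], [.use 32 true, .use 448 true, .rel 4 3 (22, false, 1), .use 32 false]⟩,
  ⟨[14, 6, 8, 11, 8, 15, 9], [], [14, 6, 8, 11, 15], [.use 696 true, .use 29 true, .rel 4 3 (24, false, 3), .use 709 false]⟩,
  ⟨[14, 6, 8, 11, 11, 14, 12], [12], [14, 6, 8, 11, 14], [.use 469 true, .ins 5 13, .use 187 false, .rel 4 3 (26, false, 1), .use 32 false]⟩,
  ⟨[14, 6, 8, 11, 11, 15, 12], [12], [14, 6, 8, 11, 15], [.use 398 true, .ins 5 13, .use 187 false, .rel 4 3 (26, false, 3), .use 709 false]⟩,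
  ⟨[14, 6, 10, 8, 13, 15, 10, 10, 8, 8], [], [14, 6, 10, 8, 13, 15, 10, 10], [.ins 9 11, .use 753 false, .use 754 true, .ins 6 14, .use 704 false, .ins 5 10, .use 241 false, .use 30 true, .rel 4 6 (27, false, 1), .use 29 false, .use 67 false, .use 207 false, .use 650 false, .use 750 false, .use 751 false]⟩,
  ⟨[14, 6, 8, 14, 10, 0], [0], [14, 6, 8, 14, 10], [.use 33 true, .use 589 true, .ins 5 0, .use 578 false, .rel 4 3 (11, false, 1), .use 33 false]⟩,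
  ⟨[14, 6, 8, 15, 11, 5], [0], [14, 6, 8, 14, 11], [.use 465 true, .ins 4 5, .use 455 false, .rel 4 3 (12, false, 3), .use 34 false]⟩,
  ⟨[14, 6, 10, 8, 10, 0], [0], [14, 6, 10, 8, 10], [.use 35 true, .use 482 true, .ins 5 0, .use 478 false, .rel 4 3 (11, false, 1), .use 35 false]⟩,
  ⟨[14, 6, 10, 8, 11, 5, 5], [], [14, 6, 10, 8, 11], [.ins 6 10, .use 787 false, .use 781 true, .rel 4 3 (12, false, 3), .use 36 false]⟩,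
  ⟨[14, 6, 10, 8, 12, 0], [0], [14, 6, 10, 8, 12], [.use 37 true, .use 482 true, .ins 5 0, .use 478 false, .rel 4 3 (16, false, 1), .use 37 false]⟩,
  ⟨[14, 6, 10, 8, 13, 5, 5], [], [14, 6, 10, 8, 13], [.ins 6 12, .use 791 false, .use 781 true, .rel 4 3 (17, false, 3), .use 38 false]⟩,
  ⟨[14, 6, 10, 8, 11, 11, 13], [], [14, 6, 10, 8, 13, 11], [.use 501 true, .use 36 true, .rel 4 3 (20, false, 3), .use 38 false, .use 86 false]⟩,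
  ⟨[14, 6, 10, 8, 14, 5], [0], [14, 6, 10, 8, 15], [.use 39 true, .rel 4 2 (21, false, 1), .use 440 false, .use 793 true, .cancel 5]⟩,
  ⟨[14, 6, 10, 8, 14, 0], [0], [14, 6, 10, 8, 14], [.use 39 true, .use 482 true, .ins 5 0, .use 478 false, .rel 4 3 (22, false, 1), .use 39 false]⟩,
  ⟨[14, 6, 10, 8, 12, 15, 12], [], [14, 6, 10, 8, 15], [.use 640 true, .use 37 true, .rel 4 3 (26, false, 3), .use 440 false]⟩,
  ⟨[14, 6, 10, 10, 5, 10], [13], [14, 6, 11, 13, 5], [.use 635 true, .rel 4 2 (12, false, 1), .use 197 true, .cancel 4, .use 538 false]⟩,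
  ⟨[14, 6, 10, 10, 14, 14], [0], [14, 6, 10, 10, 5], [.use 40 true, .rel 4 2 (21, false, 0), .use 827 false, .use 639 false, .use 830 false]⟩,
  ⟨[14, 6, 10, 10, 14, 0], [0], [14, 6, 10, 10, 14], [.use 40 true, .ins 4 0, .use 827 false, .rel 4 3 (22, false, 1), .use 40 false]⟩,
  ⟨[14, 6, 11, 13, 5, 10], [], [14, 6, 10, 13, 5], [.use 538 true, .ins 4 10, .use 148 false, .rel 4 3 (12, false, 0), .use 488 false]⟩,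
  ⟨[14, 6, 10, 13, 5, 10], [12], [14, 6, 11, 11, 5], [.use 488 true, .rel 4 2 (12, false, 1), .use 204 false, .use 532 false]⟩,
  ⟨[14, 6, 10, 13, 14, 14], [0], [14, 6, 10, 13, 5], [.use 41 true, .rel 4 2 (21, false, 0), .use 487 true, .cancel 4, .use 649 true, .cancel 8, .use 835 false]⟩,
  ⟨[14, 6, 10, 13, 5, 14], [0], [14, 6, 10, 15, 12], [.ins 5 0, .use 858 false, .use 488 true, .rel 4 3 (21, false, 2), .use 500 true, .cancel 5]⟩]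

/-- Equations. -/
def part14 : List CFact := [
  ⟨[14, 6, 10, 15, 12, 1], [0], [14, 6, 10, 15, 12], [.ins 5 14, .use 500 false, .rel 4 2 (22, false, 0), .use 487 false, .use 500 true, .cancel 5]⟩,
  ⟨[14, 6, 10, 13, 14, 0], [0], [14, 6, 10, 13, 14], [.use 41 true, .use 487 true, .rel 4 3 (22, false, 1), .use 41 false]⟩,
  ⟨[14, 6, 10, 15, 12, 5], [0], [14, 6, 10, 13, 14], [.ins 5 14, .use 500 false, .rel 4 2 (23, false, 0), .use 488 false, .use 894 true, .cancel 5]⟩,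
  ⟨[14, 6, 10, 15, 12, 4], [0], [14, 6, 10, 13, 14], [.use 895 true, .use 488 true, .rel 4 3 (23, false, 1), .use 41 false]⟩,
  ⟨[14, 6, 10, 13, 14, 11, 15], [12], [14, 6, 11, 11, 14, 10], [.use 95 true, .use 899 true, .ins 5 1, .use 896 false, .ins 5 14, .use 500 false, .rel 4 5 (28, false, 7), .use 204 false, .use 49 false, .use 375 false]⟩,
  ⟨[14, 6, 10, 14, 11, 1], [0], [14, 6, 10, 14, 11], [.use 44 true, .rel 4 2 (11, false, 0), .use 841 true, .cancel 4, .use 44 false]⟩,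
  ⟨[14, 6, 10, 14, 10, 0], [0], [14, 6, 10, 14, 10], [.use 43 true, .ins 4 0, .use 841 false, .rel 4 3 (11, false, 1), .use 43 false]⟩,
  ⟨[14, 6, 10, 14, 11, 5], [0], [14, 6, 10, 15, 11], [.use 44 true, .rel 4 2 (12, false, 0), .use 837 false, .use 514 false]⟩,
  ⟨[14, 6, 8, 15, 6, 11, 15, 4], [0, 6, 8], [14, 6, 10, 14, 10], [.use 840 true, .use 837 true, .rel 4 3 (12, false, 1), .use 43 false]⟩,
  ⟨[14, 6, 10, 14, 10, 4], [0, 8, 6], [14, 6, 8, 15, 6, 11, 15], [.use 43 true, .rel 4 2 (12, false, 2), .use 493 true, .cancel 4, .use 840 false]⟩,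
  ⟨[14, 6, 10, 15, 11, 5], [0], [14, 6, 10, 14, 11], [.use 514 true, .ins 4 5, .use 493 false, .rel 4 3 (12, false, 3), .use 44 false]⟩,
  ⟨[14, 6, 11, 8, 4], [], [14, 6, 11, 5, 8], [.rel 4 1 (3, false, 0), .use 530 true, .cancel 5]⟩,
  ⟨[14, 6, 11, 8, 10, 0], [0], [14, 6, 11, 8, 10], [.use 45 true, .ins 4 0, .use 528 false, .rel 4 3 (11, false, 1), .use 45 false]⟩,
  ⟨[14, 6, 11, 8, 10, 6], [8, 11, 8, 10], [14, 6, 11, 8, 11], [.use 45 true, .rel 4 2 (13, false, 0), .use 203 true, .cancel 4, .use 451 false]⟩,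
  ⟨[14, 6, 11, 8, 13, 1], [0], [14, 6, 11, 8, 13], [.use 47 true, .rel 4 2 (16, false, 0), .use 528 true, .cancel 4, .use 47 false]⟩,
  ⟨[14, 6, 11, 8, 12, 0], [0], [14, 6, 11, 8, 12], [.use 46 true, .ins 4 0, .use 528 false, .rel 4 3 (16, false, 1), .use 46 false]⟩,
  ⟨[14, 6, 11, 8, 11, 11, 13], [13], [14, 6, 8, 10, 8, 12], [.use 452 true, .use 451 true, .rel 4 3 (20, false, 3), .use 47 false, .use 256 false]⟩,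
  ⟨[14, 6, 11, 8, 14, 14], [0], [14, 6, 11, 5, 8], [.use 48 true, .rel 4 2 (21, false, 0), .use 528 false, .use 907 false]⟩,
  ⟨[14, 6, 11, 8, 14, 0], [0], [14, 6, 11, 8, 14], [.use 48 true, .ins 4 0, .use 528 false, .rel 4 3 (22, false, 1), .use 48 false]⟩,
  ⟨[14, 6, 11, 8, 15, 5], [0], [14, 6, 11, 8, 14], [.use 428 true, .rel 4 2 (23, false, 0), .use 530 true, .cancel 5, .use 913 true, .cancel 5]⟩,
  ⟨[14, 6, 11, 8, 14, 5], [0], [14, 6, 11, 8, 15], [.ins 5 14, .use 913 false, .use 907 true, .rel 4 3 (23, false, 3), .use 428 false]⟩,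
  ⟨[14, 6, 11, 8, 15, 12], [], [14, 6, 11, 8, 13, 15], [.use 428 true, .rel 4 2 (26, false, 0), .use 47 false, .use 627 false]⟩,
  ⟨[14, 6, 11, 8, 12, 15, 12], [], [14, 6, 11, 8, 15], [.use 619 true, .use 46 true, .rel 4 3 (26, false, 3), .use 428 false]⟩,
  ⟨[14, 6, 11, 11, 14, 14], [0], [14, 6, 11, 11, 5], [.use 49 true, .rel 4 2 (21, false, 0), .use 531 true, .cancel 4, .use 618 true, .cancel 8, .use 844 false]⟩,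
  ⟨[14, 6, 11, 11, 5, 15], [0], [14, 6, 11, 11, 14], [.use 560 true, .use 919 true, .cancel 5]⟩,
  ⟨[14, 6, 11, 11, 14, 11], [0], [14, 6, 11, 5, 15, 10, 14], [.use 920 true, .use 561 false]⟩,
  ⟨[14, 6, 11, 11, 14, 10], [0], [14, 6, 11, 11, 5, 15, 10], [.use 920 true, .use 562 false]⟩,
  ⟨[14, 6, 11, 11, 5, 15, 10], [0], [14, 6, 11, 11, 14, 10], [.use 922 true, .use 375 false]⟩,
  ⟨[14, 6, 11, 11, 14, 10, 14], [0], [14, 6, 11, 11, 5, 15, 10, 14], [.use 923 true, .use 563 false]⟩,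
  ⟨[14, 6, 11, 11, 5, 15, 10, 14], [0, 13], [14, 6, 10, 13, 14, 11], [.use 924 true, .use 900 true, .cancel 6]⟩,
  ⟨[14, 6, 10, 13, 14, 11, 11], [0, 12], [14, 6, 11, 11, 5, 15, 10, 14, 11], [.use 925 true, .use 564 false]⟩,
  ⟨[14, 6, 11, 11, 5, 15, 10, 14, 11], [0, 13], [14, 6, 10, 14, 11, 12], [.use 926 true, .use 268 false]⟩,
  ⟨[14, 6, 10, 14, 11, 12, 15], [0, 12], [14, 6, 11, 11, 5, 15, 10, 14, 11, 15], [.use 927 true, .use 565 false]⟩,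
  ⟨[14, 6, 11, 11, 5, 14], [0], [14, 6, 11, 11, 15], [.ins 5 0, .use 856 false, .use 532 true, .rel 4 3 (21, false, 2), .use 402 false]⟩,
  ⟨[14, 6, 11, 11, 14, 0], [0], [14, 6, 11, 11, 14], [.use 49 true, .use 531 true, .rel 4 3 (22, false, 1), .use 49 false]⟩,
  ⟨[14, 6, 11, 11, 15, 5], [0], [14, 6, 11, 11, 14], [.use 402 true, .rel 4 2 (23, false, 0), .use 532 false, .use 560 false, .use 920 false]⟩,
  ⟨[14, 6, 11, 11, 15, 4], [0], [14, 6, 11, 11, 14], [.use 929 true, .use 532 true, .rel 4 3 (23, false, 1), .use 49 false]⟩,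
  ⟨[14, 6, 11, 11, 15, 9], [12], [14, 6, 11, 8, 12, 15], [.use 402 true, .rel 4 2 (24, false, 0), .use 211 true, .cancel 5, .use 619 false]⟩,
  ⟨[14, 6, 11, 8, 12, 14], [11], [14, 6, 10, 8, 13, 15, 6, 14, 6], [.ins 5 8, .use 211 false, .rel 4 2 (24, false, 1), .use 49 false, .use 654 false]⟩,
  ⟨[14, 6, 11, 11, 14, 8], [12, 11], [14, 6, 10, 8, 13, 15, 6, 14, 6], [.use 49 true, .rel 4 2 (24, false, 2), .use 212 false, .use 934 false]⟩,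
  ⟨[14, 6, 11, 13, 15, 12], [13], [14, 6, 11, 11, 15], [.use 365 true, .use 209 true, .rel 4 3 (26, false, 3), .use 402 false]⟩,
  ⟨[14, 6, 11, 13, 14, 14], [0], [14, 6, 11, 13, 5], [.use 50 true, .rel 4 2 (21, false, 0), .use 537 true, .cancel 4, .use 626 true, .cancel 8, .use 848 false]⟩,
  ⟨[14, 6, 11, 13, 5, 14], [0], [14, 6, 11, 13, 15], [.ins 5 0, .use 857 false, .use 538 true, .rel 4 3 (21, false, 2), .use 365 false]⟩,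
  ⟨[14, 6, 11, 13, 14, 0], [0], [14, 6, 11, 13, 14], [.use 50 true, .use 537 true, .rel 4 3 (22, false, 1), .use 50 false]⟩,
  ⟨[14, 6, 11, 13, 15, 5], [0], [14, 6, 11, 13, 14], [.use 365 true, .rel 4 2 (23, false, 0), .use 538 false, .use 937 true, .cancel 5]⟩,
  ⟨[14, 6, 11, 13, 15, 4], [0], [14, 6, 11, 13, 14], [.use 938 true, .use 538 true, .rel 4 3 (23, false, 1), .use 50 false]⟩,
  ⟨[14, 6, 11, 13, 15, 9], [], [14, 6, 11, 8, 13, 15], [.use 365 true, .rel 4 2 (24, false, 0), .use 210 false, .use 627 false]⟩,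
  ⟨[14, 6, 10, 10, 14, 11, 15], [13], [14, 6, 11, 13, 14, 10], [.use 92 true, .ins 5 14, .use 890 false, .ins 5 10, .use 889 false, .use 848 true, .ins 8 5, .use 626 false, .ins 4 1, .use 537 false, .rel 4 6 (28, false, 0), .use 50 false, .use 361 false]⟩,
  ⟨[14, 6, 11, 14, 6, 6], [], [14, 6, 11, 14], [.use 495 true, .rel 4 2 (4, false, 0)]⟩,
  ⟨[14, 6, 11, 14, 11, 1], [0], [14, 6, 11, 14, 11], [.use 51 true, .rel 4 2 (11, false, 0), .use 850 true, .cancel 4, .use 51 false]⟩,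
  ⟨[14, 6, 11, 5, 15, 10, 0], [0], [14, 6, 11, 5, 15, 10], [.use 545 true, .use 416 true, .ins 4 0, .use 850 false, .rel 4 3 (11, false, 1), .use 416 false, .use 545 false]⟩,
  ⟨[14, 6, 11, 14, 11, 5], [0], [14, 6, 11, 15, 11], [.use 51 true, .rel 4 2 (12, false, 0), .use 820 true, .cancel 4, .use 566 false]⟩,
  ⟨[14, 6, 11, 15, 10, 4], [], [14, 6, 11, 5, 15, 10], [.use 506 true, .ins 4 4, .use 820 false, .rel 4 3 (12, false, 1), .use 416 false, .use 545 false]⟩,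
  ⟨[14, 6, 11, 5, 15, 10, 4], [], [14, 6, 11, 15, 10], [.use 545 true, .use 416 true, .rel 4 2 (12, false, 2), .use 550 true, .cancel 4, .use 506 false]⟩,
  ⟨[14, 6, 11, 15, 11, 5], [0], [14, 6, 11, 14, 11], [.use 566 true, .ins 4 5, .use 550 false, .rel 4 3 (12, false, 3), .use 51 false]⟩,
  ⟨[14, 6, 10, 8, 13, 15, 6, 14, 6, 12], [10], [14, 6, 11, 8, 14], [.use 654 true, .ins 5 12, .use 216 false, .rel 4 3 (19, false, 0), .use 214 true, .cancel 5]⟩,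
  ⟨[14, 6, 11, 11, 14, 10, 12], [12], [14, 6, 11, 14, 10, 10], [.use 375 true, .ins 5 12, .use 216 false, .rel 4 3 (20, false, 0), .use 416 false, .use 545 false, .use 548 false]⟩,
  ⟨[14, 6, 11, 5, 15, 10, 12], [0], [14, 6, 11, 13, 14, 10, 10], [.use 545 true, .use 416 true, .rel 4 2 (20, false, 1), .use 217 false, .use 361 false, .use 362 false]⟩,
  ⟨[14, 6, 11, 5, 15, 11, 11, 13], [13], [14, 6, 11, 5, 15, 10, 14], [.use 547 true, .use 51 true, .rel 4 3 (20, false, 3), .use 216 true, .cancel 5, .use 921 false]⟩,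
  ⟨[14, 6, 14, 10, 8, 0], [0], [14, 6, 14, 10, 8], [.use 52 true, .use 853 true, .rel 4 3 (6, false, 0), .use 278 true, .cancel 5]⟩,
  ⟨[14, 6, 14, 10, 10, 0], [0], [14, 6, 14, 10, 10], [.use 53 true, .ins 4 0, .use 853 false, .rel 4 3 (11, false, 1), .use 53 false]⟩,
  ⟨[14, 6, 14, 10, 13, 1], [0], [14, 6, 14, 10, 13], [.use 54 true, .rel 4 2 (16, false, 0), .use 853 true, .cancel 4, .use 54 false]⟩,
  ⟨[14, 6, 14, 10, 8, 13], [13], [14, 6, 8, 14, 11, 8, 11, 11], [.use 52 true, .rel 4 2 (19, false, 3), .use 54 false, .use 586 true, .cancel 8]⟩,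
  ⟨[14, 6, 8, 14, 11, 8, 11, 11, 8], [12], [14, 6, 14, 10, 13], [.use 958 true, .ins 5 8, .use 278 false, .rel 4 3 (19, true, 0), .use 54 false]⟩]

/-- Equations. -/
def part15 : List CFact := [
  ⟨[14, 6, 14, 11, 8, 0], [0], [14, 6, 14, 11, 8], [.use 55 true, .use 593 true, .rel 4 3 (6, false, 0), .use 286 true, .cancel 5]⟩,
  ⟨[14, 6, 14, 11, 11, 1], [0], [14, 6, 14, 11, 11], [.use 56 true, .rel 4 2 (11, false, 0), .use 580 false, .use 592 false, .use 56 false]⟩,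
  ⟨[14, 6, 8, 14, 11, 8, 10, 9], [], [14, 6, 14, 11, 8, 10], [.use 583 true, .ins 6 11, .use 584 false, .ins 7 11, .use 585 false, .ins 8 8, .use 959 false, .ins 5 10, .use 287 false, .use 56 true, .use 24 true, .ins 3 11, .use 24 false, .rel 4 9 (14, false, 3), .use 286 true, .cancel 5, .use 109 false]⟩,
  ⟨[14, 6, 14, 11, 13, 1], [0], [14, 6, 14, 11, 13], [.use 57 true, .rel 4 2 (16, false, 0), .use 580 false, .use 592 false, .use 57 false]⟩,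
  ⟨[14, 6, 14, 11, 14], [8, 6], [14, 6, 8, 15, 6, 11, 15], [.rel 4 1 (21, false, 0), .use 593 false, .use 854 true, .cancel 6, .use 601 false]⟩,
  ⟨[14, 6, 8, 15, 6, 11, 14, 4], [0], [14, 6, 8, 15, 6, 11, 15], [.use 413 true, .use 582 true, .rel 4 3 (23, false, 1), .use 964 false]⟩,
  ⟨[14, 6, 8, 15, 6, 11, 14], [6, 8], [14, 6, 10, 14, 10], [.ins 7 4, .use 965 false, .use 905 true, .cancel 5]⟩,
  ⟨[14, 6, 10, 14, 10, 15], [8, 6], [14, 6, 8, 15, 6, 11], [.use 966 true, .use 413 true, .cancel 6]⟩,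
  ⟨[14, 6, 10, 14, 10, 10], [8, 6], [14, 6, 8, 15, 6, 11, 14, 10], [.use 966 true, .use 414 false]⟩,
  ⟨[14, 6, 8, 15, 6, 11, 14, 10], [6, 8], [14, 6, 10, 14, 10, 10], [.use 968 true, .use 98 false]⟩,
  ⟨[14, 6, 10, 14, 10, 10, 15], [8, 6], [14, 6, 8, 15, 6, 11, 14, 10, 15], [.use 969 true, .use 415 false]⟩,
  ⟨[14, 6, 10, 14, 10, 12, 14], [], [14, 6, 14, 11, 13], [.use 99 true, .use 509 true, .rel 4 3 (26, false, 0), .use 57 false]⟩,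
  ⟨[14, 6, 14, 11, 11, 14, 12], [8, 6, 13], [14, 6, 8, 15, 6, 11, 15], [.use 777 true, .ins 5 13, .use 222 false, .rel 4 3 (26, false, 1), .use 964 false]⟩,
  ⟨[14, 6, 14, 11, 11, 15, 12], [13], [14, 6, 10, 14, 10], [.use 598 true, .ins 5 13, .use 222 false, .rel 4 3 (26, false, 3), .use 509 false]⟩,
  ⟨[14, 6, 8, 10, 8, 4], [], [14, 6, 8, 10, 4, 8], [.rel 5 1 (3, false, 0), .use 673 true, .cancel 6]⟩,
  ⟨[14, 6, 8, 10, 8, 11, 1], [0], [14, 6, 8, 10, 8, 11], [.use 59 true, .rel 5 2 (11, false, 0), .use 664 true, .cancel 6, .use 676 false, .use 59 false]⟩,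
  ⟨[14, 6, 8, 10, 8, 6, 0], [0], [14, 6, 8, 10, 8, 6], [.use 333 true, .use 676 true, .ins 6 0, .use 664 false, .rel 5 3 (11, false, 1), .use 333 false]⟩,
  ⟨[14, 6, 11, 8, 11, 11, 1], [0], [14, 6, 11, 8, 11, 11], [.use 822 true, .ins 6 12, .use 689 false, .rel 5 2 (16, false, 0), .use 664 true, .cancel 6, .use 676 false, .use 689 true, .cancel 6, .use 822 false]⟩,
  ⟨[14, 6, 8, 10, 8, 12, 0], [0], [14, 6, 8, 10, 8, 12], [.use 60 true, .use 676 true, .ins 6 0, .use 664 false, .rel 5 3 (16, false, 1), .use 60 false]⟩,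
  ⟨[14, 6, 11, 8, 11, 11, 7], [8, 11, 8, 10], [14, 6, 11, 8, 10, 10], [.use 822 true, .ins 6 12, .use 689 false, .rel 5 2 (18, false, 0), .use 293 true, .cancel 6, .use 334 true, .cancel 6]⟩,
  ⟨[14, 6, 11, 8, 10, 10, 7], [8, 11, 8, 10], [14, 6, 11, 8, 11, 11], [.ins 6 12, .use 334 false, .use 58 true, .rel 5 3 (18, false, 3), .use 689 true, .cancel 6, .use 822 false]⟩,
  ⟨[14, 6, 8, 10, 15, 9, 12], [12], [14, 6, 11, 8, 11, 11, 15], [.ins 6 14, .use 695 false, .rel 5 2 (26, false, 0), .use 689 true, .cancel 6, .use 822 false, .use 554 false]⟩,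
  ⟨[14, 6, 10, 8, 10, 10, 10, 6], [8, 10, 8, 11], [14, 6, 10, 8, 11, 11, 11], [.ins 7 9, .use 832 false, .ins 6 7, .use 332 false, .use 237 true, .rel 5 4 (9, false, 1), .use 234 true, .cancel 5, .use 788 false]⟩,
  ⟨[14, 6, 10, 8, 10, 10, 10, 8], [13], [14, 6, 11, 8, 13, 10], [.ins 7 10, .use 784 false, .use 788 true, .use 241 true, .use 188 true, .ins 5 11, .use 238 false, .rel 5 6 (14, false, 8), .use 237 false, .use 256 true, .cancel 5, .use 106 false, .use 536 true, .cancel 6, .use 536 false]⟩,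
  ⟨[14, 6, 8, 10, 10, 14, 0], [0], [14, 6, 8, 10, 10, 14], [.use 61 true, .ins 5 0, .use 860 false, .rel 5 3 (22, false, 1), .use 61 false]⟩,
  ⟨[14, 6, 8, 10, 13, 14, 12], [13], [14, 6, 8, 10, 10, 14], [.use 719 true, .use 232 true, .rel 5 3 (26, false, 1), .use 61 false]⟩,
  ⟨[14, 6, 8, 10, 13, 5, 10], [12], [14, 6, 8, 11, 11, 5], [.use 686 true, .rel 5 2 (12, false, 1), .use 241 false, .use 728 false]⟩,
  ⟨[14, 6, 8, 10, 13, 14, 14], [0], [14, 6, 8, 10, 13, 5], [.use 719 true, .rel 5 2 (21, false, 0), .use 685 true, .cancel 5, .use 861 true, .cancel 6]⟩,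
  ⟨[14, 6, 8, 10, 15, 12, 5], [0], [14, 6, 8, 10, 13, 14], [.ins 6 14, .use 704 false, .rel 5 2 (23, false, 0), .use 686 false, .use 987 true, .cancel 6]⟩,
  ⟨[14, 6, 8, 10, 15, 12, 15], [0], [14, 6, 8, 10, 13, 5], [.ins 6 5, .use 988 false, .use 719 true, .rel 5 3 (23, false, 2), .use 861 true, .cancel 6]⟩,
  ⟨[14, 6, 8, 10, 15, 12, 9], [12], [14, 6, 11, 8, 11, 11, 15], [.ins 6 14, .use 704 false, .rel 5 2 (24, false, 0), .use 688 false, .use 822 false, .use 554 false]⟩,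
  ⟨[14, 6, 11, 8, 11, 11, 15, 9], [13], [14, 6, 8, 10, 15, 12], [.use 554 true, .ins 6 9, .use 453 false, .rel 5 3 (24, false, 3), .use 704 true, .cancel 6]⟩,
  ⟨[14, 6, 8, 10, 14, 11, 1], [0], [14, 6, 8, 10, 14, 11], [.use 64 true, .rel 5 2 (11, false, 0), .use 866 true, .cancel 5, .use 64 false]⟩,
  ⟨[14, 6, 8, 10, 14, 10, 0], [0], [14, 6, 8, 10, 14, 10], [.use 63 true, .ins 5 0, .use 866 false, .rel 5 3 (11, false, 1), .use 63 false]⟩,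
  ⟨[14, 6, 8, 10, 14, 11, 5], [0], [14, 6, 8, 10, 15, 11], [.use 64 true, .rel 5 2 (12, false, 0), .use 862 false, .use 715 false]⟩,
  ⟨[14, 6, 8, 15, 11, 15, 4], [0], [14, 6, 8, 10, 14, 10], [.use 865 true, .use 862 true, .rel 5 3 (12, false, 1), .use 63 false]⟩,
  ⟨[14, 6, 8, 10, 14, 10, 4], [0], [14, 6, 8, 15, 11, 15], [.use 63 true, .rel 5 2 (12, false, 2), .use 693 true, .cancel 5, .use 865 false]⟩,
  ⟨[14, 6, 8, 10, 15, 11, 5], [0], [14, 6, 8, 10, 14, 11], [.use 715 true, .ins 5 5, .use 693 false, .rel 5 3 (12, false, 3), .use 64 false]⟩,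
  ⟨[14, 6, 8, 10, 14, 10, 12, 11], [], [14, 6, 8, 10, 13, 14, 10], [.use 113 true, .use 63 true, .rel 5 3 (20, false, 1), .use 868 false, .use 720 false]⟩,
  ⟨[14, 6, 8, 10, 13, 14, 10, 10], [], [14, 6, 8, 10, 14, 10, 12], [.use 721 true, .use 998 true, .cancel 7]⟩,
  ⟨[14, 6, 8, 10, 14, 10, 12, 6], [], [14, 6, 8, 10, 13, 14, 10, 10, 6], [.use 999 true, .use 722 false]⟩,
  ⟨[14, 6, 8, 11, 8, 4], [], [14, 6, 8, 11, 5, 8], [.rel 5 1 (3, false, 0), .use 726 true, .cancel 6]⟩,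
  ⟨[14, 6, 8, 11, 5, 8, 8], [], [14, 6, 8, 11, 5], [.use 1001 true, .rel 5 2 (8, false, 0), .use 29 true, .cancel 4, .use 449 false]⟩,
  ⟨[14, 6, 8, 11, 8, 11, 1], [0], [14, 6, 8, 11, 8, 11], [.use 67 true, .rel 5 2 (11, false, 0), .use 724 true, .cancel 5, .use 67 false]⟩,
  ⟨[14, 6, 8, 11, 8, 10, 0], [0], [14, 6, 8, 11, 8, 10], [.use 66 true, .ins 5 0, .use 724 false, .rel 5 3 (11, false, 1), .use 66 false]⟩,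
  ⟨[14, 6, 10, 8, 11, 11, 11, 12], [12], [14, 6, 8, 11, 8, 13], [.use 872 true, .rel 5 2 (15, false, 0), .use 68 false]⟩,
  ⟨[14, 6, 8, 11, 8, 13, 1], [0], [14, 6, 8, 11, 8, 13], [.use 68 true, .rel 5 2 (16, false, 0), .use 724 true, .cancel 5, .use 68 false]⟩,
  ⟨[14, 6, 8, 11, 8, 6, 12], [8, 13, 10, 8, 11], [14, 6, 10, 8, 10, 10, 10], [.ins 6 6, .use 297 false, .rel 5 2 (18, false, 1), .use 872 false, .use 982 true, .cancel 7]⟩,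
  ⟨[14, 6, 8, 11, 11, 5, 12], [12], [14, 6, 8, 11, 13, 5], [.use 728 true, .rel 5 2 (17, false, 1), .use 242 false, .use 731 false]⟩,
  ⟨[14, 6, 8, 11, 11, 14, 14], [0], [14, 6, 8, 11, 11, 5], [.use 469 true, .rel 5 2 (21, false, 0), .use 727 true, .cancel 5, .use 869 true, .cancel 6]⟩,
  ⟨[14, 6, 8, 11, 11, 5, 15], [0], [14, 6, 8, 11, 11, 14], [.use 755 true, .use 1009 true, .cancel 6]⟩,
  ⟨[14, 6, 8, 11, 11, 14, 11], [0], [14, 6, 8, 11, 5, 15, 10, 14], [.use 1010 true, .use 756 false]⟩,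
  ⟨[14, 6, 8, 11, 11, 14, 10], [0], [14, 6, 8, 11, 11, 5, 15, 10], [.use 1010 true, .use 757 false]⟩,
  ⟨[14, 6, 8, 11, 11, 5, 15, 10], [0], [14, 6, 8, 11, 11, 14, 10], [.use 1012 true, .use 470 false]⟩,
  ⟨[14, 6, 8, 11, 11, 14, 10, 14], [0], [14, 6, 8, 11, 11, 5, 15, 10, 14], [.use 1013 true, .use 758 false]⟩,
  ⟨[14, 6, 8, 11, 11, 15, 5], [0], [14, 6, 8, 11, 11, 14], [.use 398 true, .rel 5 2 (23, false, 0), .use 728 false, .use 755 false, .use 1010 false]⟩,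
  ⟨[14, 6, 8, 11, 11, 15, 15], [0], [14, 6, 8, 11, 11, 5], [.ins 6 5, .use 1015 false, .use 469 true, .rel 5 3 (23, false, 2), .use 869 true, .cancel 6]⟩,
  ⟨[14, 6, 8, 11, 15, 12, 12], [13], [14, 6, 8, 11, 11, 15], [.ins 6 14, .use 749 false, .use 242 true, .rel 5 3 (26, false, 3), .use 398 false]⟩,
  ⟨[14, 6, 8, 10, 13, 14, 11], [0, 12], [14, 6, 8, 11, 11, 5, 15, 10, 14], [.ins 6 14, .use 987 false, .ins 6 10, .use 986 false, .ins 6 5, .use 869 false, .ins 5 1, .use 727 false, .rel 5 5 (28, false, 0), .use 469 false, .use 470 false, .use 1014 false]⟩,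
  ⟨[14, 6, 8, 11, 14, 10, 0], [0], [14, 6, 8, 11, 14, 10], [.use 70 true, .ins 5 0, .use 874 false, .rel 5 3 (11, false, 1), .use 70 false]⟩,
  ⟨[14, 6, 8, 11, 5, 15, 11, 5], [], [14, 6, 8, 11, 15, 11], [.use 735 true, .rel 5 2 (12, false, 0), .use 826 true, .cancel 5, .use 760 false]⟩,
  ⟨[14, 6, 8, 11, 15, 10, 4], [0], [14, 6, 8, 11, 14, 10], [.use 710 true, .ins 5 4, .use 826 false, .rel 5 3 (12, false, 1), .use 70 false]⟩,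
  ⟨[14, 6, 8, 11, 14, 10, 4], [0], [14, 6, 8, 11, 15, 10], [.use 70 true, .rel 5 2 (12, false, 2), .use 740 true, .cancel 5, .use 710 false]⟩,
  ⟨[14, 6, 8, 11, 5, 15, 11, 11, 13], [13], [14, 6, 8, 11, 5, 15, 10, 14], [.use 713 true, .use 735 true, .rel 5 3 (20, false, 3), .use 876 true, .cancel 6, .use 1011 false]⟩]

/-- Equations. -/
def part16 : List CFact := [
  ⟨[14, 6, 8, 14, 10, 8, 0], [0], [14, 6, 8, 14, 10, 8], [.use 71 true, .use 879 true, .rel 5 3 (6, false, 0), .use 300 true, .cancel 6]⟩,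
  ⟨[14, 6, 8, 14, 10, 10, 0], [0], [14, 6, 8, 14, 10, 10], [.use 72 true, .ins 5 0, .use 879 false, .rel 5 3 (11, false, 1), .use 72 false]⟩,
  ⟨[14, 6, 8, 14, 10, 13, 1], [0], [14, 6, 8, 14, 10, 13], [.use 73 true, .rel 5 2 (16, false, 0), .use 879 true, .cancel 5, .use 73 false]⟩,
  ⟨[14, 6, 8, 14, 10, 8, 13], [13], [14, 6, 14, 11, 8, 11, 11], [.use 71 true, .rel 5 2 (19, false, 3), .use 73 false, .use 769 true, .cancel 7]⟩,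
  ⟨[14, 6, 14, 11, 8, 11, 11, 8], [12], [14, 6, 8, 14, 10, 13], [.use 1027 true, .ins 6 8, .use 300 false, .rel 5 3 (19, true, 0), .use 73 false]⟩,
  ⟨[14, 6, 8, 14, 11, 8, 0], [0], [14, 6, 8, 14, 11, 8], [.use 74 true, .ins 5 1, .use 765 false, .rel 5 3 (6, false, 0), .use 303 true, .cancel 6]⟩,
  ⟨[14, 6, 8, 14, 11, 11, 1], [0], [14, 6, 8, 14, 11, 11], [.use 75 true, .rel 5 2 (11, false, 0), .use 765 false, .use 75 false]⟩,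
  ⟨[14, 6, 14, 11, 8, 10, 9], [], [14, 6, 8, 14, 11, 8, 10], [.use 109 true, .ins 5 11, .use 767 false, .ins 6 11, .use 768 false, .ins 7 8, .use 1028 false, .ins 6 10, .use 304 false, .use 75 true, .use 34 true, .ins 4 11, .use 34 false, .rel 5 9 (14, false, 3), .use 303 true, .cancel 6, .use 583 false]⟩,
  ⟨[14, 6, 8, 14, 11, 13, 1], [0], [14, 6, 8, 14, 11, 13], [.use 76 true, .rel 5 2 (16, false, 0), .use 765 false, .use 76 false]⟩,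
  ⟨[14, 6, 8, 14, 11, 14], [], [14, 6, 8, 15, 11, 15], [.rel 5 1 (21, false, 0), .use 765 true, .cancel 5, .use 880 true, .cancel 5, .use 771 false]⟩,
  ⟨[14, 6, 8, 15, 11, 14, 4], [0], [14, 6, 8, 15, 11, 15], [.use 466 true, .use 766 true, .rel 5 3 (23, false, 1), .use 1033 false]⟩,
  ⟨[14, 6, 8, 15, 11, 14], [], [14, 6, 8, 10, 14, 10], [.ins 6 4, .use 1034 false, .use 996 true, .cancel 6]⟩,
  ⟨[14, 6, 8, 10, 14, 10, 15], [], [14, 6, 8, 15, 11], [.use 1035 true, .use 466 true, .cancel 5]⟩,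
  ⟨[14, 6, 8, 10, 14, 10, 10], [], [14, 6, 8, 15, 11, 14, 10], [.use 1035 true, .use 467 false]⟩,
  ⟨[14, 6, 8, 10, 14, 10, 12, 14], [], [14, 6, 8, 14, 11, 13], [.use 113 true, .use 712 true, .rel 5 3 (26, false, 0), .use 76 false]⟩,
  ⟨[14, 6, 8, 14, 11, 11, 14, 12], [13], [14, 6, 8, 15, 11, 15], [.use 610 true, .ins 6 13, .use 246 false, .rel 5 3 (26, false, 1), .use 1033 false]⟩,
  ⟨[14, 6, 8, 15, 11, 15, 12], [], [14, 6, 8, 14, 11, 13, 14], [.use 1033 true, .rel 5 2 (26, false, 2), .use 76 false, .use 644 false]⟩,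
  ⟨[14, 6, 8, 14, 11, 11, 15, 12], [13], [14, 6, 8, 10, 14, 10], [.use 594 true, .ins 6 13, .use 246 false, .rel 5 3 (26, false, 3), .use 712 false]⟩,
  ⟨[14, 6, 8, 14, 11, 11, 15], [13], [14, 6, 8, 10, 14, 10, 13], [.ins 7 12, .use 1041 false, .use 114 false]⟩,
  ⟨[14, 6, 8, 10, 14, 10, 13, 14], [12], [14, 6, 8, 14, 11, 11], [.use 1042 true, .use 594 true, .cancel 6]⟩,
  ⟨[14, 6, 8, 10, 14, 10, 13, 10], [12], [14, 6, 8, 14, 11, 11, 15, 10], [.use 1042 true, .use 595 false]⟩,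
  ⟨[14, 6, 10, 8, 10, 8, 0], [0], [14, 6, 10, 8, 10, 8], [.use 77 true, .use 881 true, .rel 5 3 (6, false, 0), .use 309 true, .cancel 6]⟩,
  ⟨[14, 6, 10, 8, 10, 10, 0], [0], [14, 6, 10, 8, 10, 10], [.use 78 true, .ins 5 0, .use 881 false, .rel 5 3 (11, false, 1), .use 78 false]⟩,
  ⟨[14, 6, 10, 8, 10, 10, 6], [8, 10, 8, 11], [14, 6, 10, 8, 11, 11], [.use 78 true, .rel 5 2 (13, false, 0), .use 308 true, .cancel 5, .use 501 false]⟩,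
  ⟨[14, 6, 10, 8, 10, 13, 1], [0], [14, 6, 10, 8, 10, 13], [.use 80 true, .rel 5 2 (16, false, 0), .use 881 true, .cancel 5, .use 80 false]⟩,
  ⟨[14, 6, 10, 8, 10, 12, 0], [0], [14, 6, 10, 8, 10, 12], [.use 79 true, .ins 5 0, .use 881 false, .rel 5 3 (16, false, 1), .use 79 false]⟩,
  ⟨[14, 6, 10, 8, 10, 14, 0], [0], [14, 6, 10, 8, 10, 14], [.use 81 true, .ins 5 0, .use 881 false, .rel 5 3 (22, false, 1), .use 81 false]⟩,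
  ⟨[14, 6, 11, 8, 11, 8, 10, 10], [13], [14, 6, 11, 8, 10, 13], [.use 535 true, .ins 6 11, .use 536 false, .use 832 true, .ins 7 10, .use 784 false, .use 683 true, .use 501 true, .rel 5 7 (14, false, 4), .use 501 false, .use 831 false, .use 349 false, .use 335 false]⟩,
  ⟨[14, 6, 10, 8, 11, 12, 0], [0], [14, 6, 10, 8, 11, 12], [.use 82 true, .use 785 true, .rel 5 3 (16, false, 1), .use 82 false]⟩,
  ⟨[14, 6, 8, 11, 8, 11, 8, 13], [12], [14, 6, 10, 8, 11, 11], [.ins 7 10, .use 352 false, .ins 7 10, .use 349 false, .use 82 true, .rel 5 4 (20, false, 2), .use 501 false]⟩,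
  ⟨[14, 6, 10, 8, 11, 14, 14], [0], [14, 6, 10, 8, 11, 5], [.use 83 true, .rel 5 2 (21, false, 0), .use 785 true, .cancel 5, .use 882 true, .cancel 6]⟩,
  ⟨[14, 6, 10, 8, 11, 5, 15], [0], [14, 6, 10, 8, 11, 14], [.use 803 true, .use 1054 true, .cancel 6]⟩,
  ⟨[14, 6, 10, 8, 11, 14, 11], [0], [14, 6, 10, 8, 11, 5, 15, 11], [.use 1055 true, .use 804 false]⟩,
  ⟨[14, 6, 10, 8, 11, 14, 10], [0], [14, 6, 10, 8, 11, 5, 15, 10], [.use 1055 true, .use 806 false]⟩,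
  ⟨[14, 6, 10, 8, 11, 14, 0], [0], [14, 6, 10, 8, 11, 14], [.use 83 true, .use 785 true, .rel 5 3 (22, false, 1), .use 83 false]⟩,
  ⟨[14, 6, 10, 8, 12, 11, 1], [0], [14, 6, 10, 8, 12, 11], [.use 84 true, .rel 5 2 (11, false, 0), .use 883 true, .cancel 5, .use 84 false]⟩,
  ⟨[14, 6, 10, 8, 12, 11, 13], [], [14, 6, 10, 8, 10, 10, 10], [.use 84 true, .rel 5 2 (20, false, 4), .use 255 true, .cancel 6, .use 1005 true, .cancel 7, .use 784 true, .cancel 7]⟩,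
  ⟨[14, 6, 10, 8, 12, 14, 0], [0], [14, 6, 10, 8, 12, 14], [.use 85 true, .ins 5 0, .use 883 false, .rel 5 3 (22, false, 1), .use 85 false]⟩,
  ⟨[14, 6, 10, 8, 13, 11, 1], [0], [14, 6, 10, 8, 13, 11], [.use 86 true, .rel 5 2 (11, false, 0), .use 789 false, .use 86 false]⟩,
  ⟨[14, 6, 10, 8, 13, 14, 14], [0], [14, 6, 10, 8, 13, 5], [.use 87 true, .rel 5 2 (21, false, 0), .use 789 true, .cancel 5, .use 884 true, .cancel 6]⟩,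
  ⟨[14, 6, 10, 8, 13, 14, 0], [0], [14, 6, 10, 8, 13, 14], [.use 87 true, .use 789 true, .rel 5 3 (22, false, 1), .use 87 false]⟩,
  ⟨[14, 6, 10, 8, 13, 15, 5], [0], [14, 6, 10, 8, 13, 14], [.use 650 true, .rel 5 2 (23, false, 0), .use 790 false, .use 1063 true, .cancel 6]⟩,
  ⟨[14, 6, 10, 8, 13, 14, 5], [0], [14, 6, 10, 8, 13, 15], [.ins 6 14, .use 1063 false, .ins 6 5, .use 884 false, .rel 5 3 (23, false, 3), .use 650 false]⟩,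
  ⟨[14, 6, 10, 8, 14, 11, 1], [0], [14, 6, 10, 8, 14, 11], [.use 90 true, .rel 5 2 (11, false, 0), .use 887 true, .cancel 5, .use 90 false]⟩,
  ⟨[14, 6, 10, 8, 14, 10, 0], [0], [14, 6, 10, 8, 14, 10], [.use 89 true, .ins 5 0, .use 887 false, .rel 5 3 (11, false, 1), .use 89 false]⟩,
  ⟨[14, 6, 10, 8, 14, 11, 5], [0], [14, 6, 10, 8, 15, 11], [.use 90 true, .rel 5 2 (12, false, 0), .use 886 false, .use 810 false]⟩,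
  ⟨[14, 6, 10, 8, 15, 11, 5], [0], [14, 6, 10, 8, 14, 11], [.use 810 true, .ins 5 5, .use 794 false, .rel 5 3 (12, false, 3), .use 90 false]⟩,
  ⟨[14, 6, 10, 8, 12, 14, 5], [0], [14, 6, 10, 8, 12, 15], [.ins 6 12, .use 253 false, .rel 5 2 (17, false, 0), .use 886 false, .use 888 true, .cancel 6]⟩,
  ⟨[14, 6, 10, 8, 12, 15, 5], [0], [14, 6, 10, 8, 12, 14], [.ins 6 12, .use 888 false, .ins 5 5, .use 794 false, .rel 5 3 (17, false, 3), .use 253 true, .cancel 6]⟩,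
  ⟨[14, 6, 11, 8, 13, 15, 6, 14, 12], [0, 4, 11], [14, 6, 10, 8, 14, 6], [.ins 8 6, .use 630 false, .ins 6 12, .use 253 false, .rel 5 3 (18, false, 0), .use 324 true, .cancel 6]⟩,
  ⟨[14, 6, 10, 8, 14, 6, 12], [0, 4, 10], [14, 6, 11, 8, 12, 15, 6, 14], [.ins 6 6, .use 324 false, .rel 5 2 (18, false, 1), .use 254 false, .use 622 true, .cancel 8]⟩,
  ⟨[14, 6, 10, 8, 13, 14, 6], [0, 4, 10], [14, 6, 11, 8, 12, 15, 6, 14], [.use 254 true, .rel 5 2 (18, false, 2), .use 88 false, .use 1074 false]⟩,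
  ⟨[14, 6, 11, 8, 13, 15, 6, 14, 7], [0, 4, 11], [14, 6, 10, 8, 12, 14], [.ins 8 12, .use 1073 false, .use 88 true, .rel 5 3 (18, false, 3), .use 253 true, .cancel 6]⟩,
  ⟨[14, 6, 10, 10, 14, 11, 1], [0], [14, 6, 10, 10, 14, 11], [.use 92 true, .rel 5 2 (11, false, 0), .use 891 true, .cancel 5, .use 92 false]⟩,
  ⟨[14, 6, 10, 10, 14, 10, 0], [0], [14, 6, 10, 10, 14, 10], [.use 91 true, .ins 5 0, .use 891 false, .rel 5 3 (11, false, 1), .use 91 false]⟩,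
  ⟨[14, 6, 10, 13, 14, 10, 12], [13], [14, 6, 10, 10, 14, 10, 10], [.use 94 true, .ins 5 12, .use 259 false, .rel 5 3 (20, false, 0), .use 91 false, .use 570 false]⟩,
  ⟨[14, 6, 10, 13, 14, 11, 1], [0], [14, 6, 10, 13, 14, 11], [.use 95 true, .rel 5 2 (11, false, 0), .use 897 true, .cancel 5, .use 95 false]⟩,
  ⟨[14, 6, 10, 13, 14, 10, 0], [0], [14, 6, 10, 13, 14, 10], [.use 94 true, .ins 5 0, .use 897 false, .rel 5 3 (11, false, 1), .use 94 false]⟩,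
  ⟨[14, 6, 10, 15, 12, 10, 4], [0], [14, 6, 10, 13, 14, 10], [.use 558 true, .ins 5 4, .use 899 false, .rel 5 3 (12, false, 1), .use 94 false]⟩,
  ⟨[14, 6, 10, 13, 14, 10, 4], [0], [14, 6, 10, 15, 12, 10], [.use 94 true, .rel 5 2 (12, false, 2), .use 898 true, .cancel 5, .use 558 false]⟩,
  ⟨[14, 6, 10, 14, 10, 10, 0], [0], [14, 6, 10, 14, 10, 10], [.use 98 true, .ins 5 0, .use 902 false, .rel 5 3 (11, false, 1), .use 98 false]⟩,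
  ⟨[14, 6, 8, 15, 6, 11, 15, 10, 4], [0, 6, 8], [14, 6, 10, 14, 10, 10], [.use 604 true, .ins 7 4, .use 904 false, .rel 5 3 (12, false, 1), .use 98 false]⟩,
  ⟨[14, 6, 10, 14, 10, 10, 4], [0, 8, 6], [14, 6, 8, 15, 6, 11, 15, 10], [.use 98 true, .rel 5 2 (12, false, 2), .use 905 false, .use 604 false]⟩,
  ⟨[14, 6, 10, 14, 10, 10, 6, 10], [], [14, 6, 10, 14, 6, 11], [.use 631 true, .use 98 true, .rel 5 3 (13, false, 0), .use 326 true, .cancel 6]⟩]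

/-- Equations. -/
def part17 : List CFact := [
  ⟨[14, 6, 10, 14, 10, 12, 12], [12], [14, 6, 14, 11, 11, 15], [.use 99 true, .rel 5 2 (15, false, 0), .use 973 true, .cancel 6]⟩,
  ⟨[14, 6, 14, 11, 11, 15, 1], [0], [14, 6, 14, 11, 11, 15], [.ins 6 12, .use 973 false, .rel 5 2 (16, false, 0), .use 902 true, .cancel 5, .use 973 true, .cancel 6]⟩,
  ⟨[14, 6, 10, 14, 10, 12, 0], [0], [14, 6, 10, 14, 10, 12], [.use 99 true, .ins 5 0, .use 902 false, .rel 5 3 (16, false, 1), .use 99 false]⟩,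
  ⟨[14, 6, 14, 11, 11, 15, 5], [0], [14, 6, 14, 11, 11, 14], [.ins 6 12, .use 973 false, .rel 5 2 (17, false, 0), .use 904 true, .cancel 7, .use 972 true, .cancel 6]⟩,
  ⟨[14, 6, 14, 11, 11, 14, 5], [0], [14, 6, 14, 11, 11, 15], [.ins 6 12, .use 972 false, .use 905 true, .rel 5 3 (17, false, 3), .use 973 true, .cancel 6]⟩,
  ⟨[14, 6, 10, 14, 10, 12, 6, 13], [], [14, 6, 10, 14, 6, 11], [.use 431 true, .use 99 true, .rel 5 3 (18, false, 2), .use 263 false]⟩,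
  ⟨[14, 6, 10, 14, 10, 12, 7], [], [14, 6, 10, 14, 10, 12, 6], [.use 99 true, .rel 5 2 (18, true, 3), .use 326 true, .cancel 6, .use 1093 true, .cancel 7]⟩,
  ⟨[14, 6, 10, 14, 11, 11, 1], [0], [14, 6, 10, 14, 11, 11], [.use 100 true, .rel 5 2 (11, false, 0), .use 901 false, .use 100 false]⟩,
  ⟨[14, 6, 10, 14, 11, 12, 0], [0], [14, 6, 10, 14, 11, 12], [.use 101 true, .use 901 true, .rel 5 3 (16, false, 1), .use 101 false]⟩,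
  ⟨[14, 6, 11, 11, 5, 15, 10, 14, 11, 15, 12], [0, 13], [14, 6, 10, 10, 14, 10], [.use 928 true, .use 101 true, .rel 5 3 (26, false, 3), .use 842 false]⟩,
  ⟨[14, 6, 11, 8, 11, 6], [8, 11, 8, 10], [14, 6, 11, 8, 10], [.use 909 true, .rel 5 2 (4, false, 0)]⟩,
  ⟨[14, 6, 11, 8, 10, 10, 0], [0], [14, 6, 11, 8, 10, 10], [.use 102 true, .ins 5 0, .use 908 false, .rel 5 3 (11, false, 1), .use 102 false]⟩,
  ⟨[14, 6, 11, 8, 10, 13, 1], [0], [14, 6, 11, 8, 10, 13], [.use 103 true, .rel 5 2 (16, false, 0), .use 908 true, .cancel 5, .use 103 false]⟩,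
  ⟨[14, 6, 11, 8, 11, 13], [12], [14, 6, 11, 8, 11, 8, 10], [.use 451 true, .ins 4 10, .use 45 false, .rel 5 3 (20, false, 3), .use 103 false, .use 1051 true, .cancel 7]⟩,
  ⟨[14, 6, 11, 8, 12, 11, 1], [0], [14, 6, 11, 8, 12, 11], [.use 105 true, .rel 5 2 (11, false, 0), .use 911 true, .cancel 5, .use 105 false]⟩,
  ⟨[14, 6, 11, 8, 12, 10, 0], [0], [14, 6, 11, 8, 12, 10], [.use 104 true, .ins 5 0, .use 911 false, .rel 5 3 (11, false, 1), .use 104 false]⟩,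
  ⟨[14, 6, 11, 8, 11, 8, 10, 8], [12], [14, 6, 11, 8, 12, 10], [.ins 7 10, .use 1051 false, .ins 6 8, .use 336 false, .use 349 true, .use 352 true, .use 320 true, .use 359 true, .use 105 true, .rel 5 8 (14, false, 6), .use 104 false, .use 231 false, .use 231 true, .cancel 6]⟩,
  ⟨[14, 6, 11, 8, 12, 10, 12], [12], [14, 6, 11, 8, 11, 8], [.use 104 true, .rel 5 2 (20, false, 1), .use 270 false, .use 106 false, .use 536 true, .cancel 6]⟩,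
  ⟨[14, 6, 11, 8, 13, 14, 12], [11], [14, 6, 10, 8, 13, 15, 6, 14, 6], [.use 107 true, .use 270 true, .rel 5 3 (26, false, 1), .use 934 false]⟩,
  ⟨[14, 6, 11, 8, 13, 15, 12], [], [14, 6, 11, 8, 12, 15], [.use 627 true, .use 270 true, .rel 5 3 (26, false, 3), .use 619 false]⟩,
  ⟨[14, 6, 11, 8, 13, 10, 0], [0], [14, 6, 11, 8, 13, 10], [.use 106 true, .use 910 true, .rel 5 3 (11, false, 1), .use 106 false]⟩,
  ⟨[14, 6, 11, 8, 13, 14, 0], [0], [14, 6, 11, 8, 13, 14], [.use 107 true, .use 910 true, .rel 5 3 (22, false, 1), .use 107 false]⟩,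
  ⟨[14, 6, 10, 8, 13, 15, 6, 14, 6, 5], [0, 10], [14, 6, 11, 8, 12, 15], [.ins 9 12, .use 951 false, .rel 5 2 (17, false, 0), .use 916 false, .use 918 true, .cancel 6]⟩,
  ⟨[14, 6, 11, 8, 13, 15, 4], [0], [14, 6, 11, 8, 13, 14], [.use 917 true, .use 916 true, .rel 5 3 (17, false, 1), .use 273 false]⟩,
  ⟨[14, 6, 11, 8, 13, 14, 4], [0], [14, 6, 11, 8, 13, 15], [.use 273 true, .rel 5 2 (17, false, 2), .use 915 true, .cancel 5, .use 917 false]⟩,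
  ⟨[14, 6, 10, 8, 13, 15, 6, 14, 12], [10], [14, 6, 11, 8, 14, 6], [.ins 8 6, .use 653 false, .ins 9 12, .use 951 false, .rel 5 3 (18, false, 0), .use 330 true, .cancel 6]⟩,
  ⟨[14, 6, 11, 8, 14, 6, 12], [11], [14, 6, 10, 8, 12, 15, 6, 14], [.ins 6 6, .use 330 false, .rel 5 2 (18, false, 1), .use 273 false, .use 643 true, .cancel 8]⟩,
  ⟨[14, 6, 11, 8, 13, 14, 6], [11], [14, 6, 10, 8, 12, 15, 6, 14], [.use 273 true, .rel 5 2 (18, false, 2), .use 108 false, .use 1114 false]⟩,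
  ⟨[14, 6, 11, 5, 15, 10, 14, 1], [0], [14, 6, 11, 5, 15, 10, 14], [.use 921 true, .rel 5 2 (11, false, 0), .use 930 true, .cancel 5, .use 921 false]⟩,
  ⟨[14, 6, 11, 11, 14, 10, 0], [0], [14, 6, 11, 11, 14, 10], [.use 375 true, .ins 5 0, .use 930 false, .rel 5 3 (11, false, 1), .use 375 false]⟩,
  ⟨[14, 6, 11, 11, 15, 10, 4], [0], [14, 6, 11, 11, 14, 10], [.use 403 true, .ins 5 4, .use 932 false, .rel 5 3 (12, false, 1), .use 375 false]⟩,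
  ⟨[14, 6, 11, 11, 14, 10, 4], [0], [14, 6, 11, 11, 15, 10], [.use 375 true, .rel 5 2 (12, false, 2), .use 931 true, .cancel 5, .use 403 false]⟩,
  ⟨[14, 6, 11, 13, 14, 10, 12], [13], [14, 6, 11, 11, 14, 10, 10], [.use 361 true, .ins 5 12, .use 274 false, .rel 5 3 (20, false, 0), .use 375 false, .use 376 false]⟩,
  ⟨[14, 6, 11, 13, 14, 10, 0], [0], [14, 6, 11, 13, 14, 10], [.use 361 true, .ins 5 0, .use 939 false, .rel 5 3 (11, false, 1), .use 361 false]⟩,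
  ⟨[14, 6, 11, 13, 14, 10, 10, 6, 11, 4], [4, 6, 11, 8, 11, 8, 6, 4, 6, 10, 8, 6, 4, 6, 11, 8], [14, 6, 11, 13, 14, 10], [.use 366 true, .ins 5 4, .use 941 false, .rel 5 3 (12, false, 1), .use 361 false]⟩,
  ⟨[14, 6, 11, 13, 14, 10, 4], [8, 6, 4, 6, 10, 8, 6, 4, 6, 8, 11, 8, 6, 4, 11, 11], [14, 6, 11, 13, 14, 10, 10, 6, 11], [.use 361 true, .rel 5 2 (12, false, 2), .use 940 true, .cancel 5, .use 366 false]⟩,
  ⟨[14, 6, 14, 10, 8, 6], [], [14, 6, 14, 10, 8, 7], [.rel 5 1 (4, false, 0), .use 614 false]⟩,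
  ⟨[14, 6, 14, 11, 8, 10, 0], [0], [14, 6, 14, 11, 8, 10], [.use 109 true, .ins 5 0, .use 960 false, .rel 5 3 (11, false, 1), .use 109 false]⟩,
  ⟨[14, 6, 14, 11, 11, 14, 11], [8, 6], [14, 6, 8, 15, 6, 11, 15, 10, 14], [.ins 6 5, .use 1092 false, .ins 6 1, .use 1089 false, .use 598 true, .rel 5 4 (28, false, 7), .use 56 true, .cancel 4, .use 964 false, .use 604 false, .use 605 false]⟩,
  ⟨[14, 6, 8, 11, 8, 6, 0], [0], [14, 6, 8, 11, 8, 6], [.use 298 true, .use 976 true, .rel 6 3 (6, false, 0), .use 294 true, .cancel 6]⟩,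
  ⟨[14, 6, 8, 10, 10, 14, 11, 1], [0], [14, 6, 8, 10, 10, 14, 11], [.use 110 true, .rel 6 2 (11, false, 0), .use 984 true, .cancel 6, .use 110 false]⟩,
  ⟨[14, 6, 8, 15, 11, 15, 10, 4], [0], [14, 6, 8, 15, 11, 14, 10], [.use 774 true, .ins 6 4, .use 995 false, .rel 6 3 (12, false, 1), .use 1037 false]⟩,
  ⟨[14, 6, 8, 10, 14, 10, 13, 1], [0], [14, 6, 8, 10, 14, 10, 13], [.use 114 true, .rel 6 2 (16, false, 0), .use 993 true, .cancel 6, .use 114 false]⟩,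
  ⟨[14, 6, 8, 10, 14, 10, 12, 0], [0], [14, 6, 8, 10, 14, 10, 12], [.use 113 true, .ins 6 0, .use 993 false, .rel 6 3 (16, false, 1), .use 113 false]⟩,
  ⟨[14, 6, 8, 10, 14, 10, 13, 5], [0, 12], [14, 6, 8, 14, 11, 11, 14], [.use 114 true, .rel 6 2 (17, false, 0), .use 995 true, .cancel 6, .use 1039 true, .cancel 7]⟩,
  ⟨[14, 6, 8, 14, 11, 13, 14, 4], [0], [14, 6, 8, 10, 14, 10, 12], [.use 1040 true, .ins 6 4, .use 995 false, .rel 6 3 (17, false, 1), .use 113 false]⟩,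
  ⟨[14, 6, 8, 10, 14, 10, 12, 4], [0], [14, 6, 8, 14, 11, 13, 14], [.use 113 true, .rel 6 2 (17, false, 2), .use 996 false, .use 1040 false]⟩,
  ⟨[14, 6, 8, 14, 11, 11, 14, 5], [0, 13], [14, 6, 8, 10, 14, 10, 13], [.ins 7 12, .use 1039 false, .use 996 true, .rel 6 3 (17, false, 3), .use 114 false]⟩,
  ⟨[14, 6, 8, 10, 13, 14, 10, 10, 6, 13], [], [14, 6, 8, 10, 14, 6, 11], [.use 1000 true, .use 113 true, .rel 6 3 (18, false, 2), .use 296 false]⟩,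
  ⟨[14, 6, 8, 10, 14, 10, 12, 7], [], [14, 6, 8, 10, 13, 14, 10, 10, 6], [.use 113 true, .rel 6 2 (18, true, 3), .use 338 true, .cancel 7, .use 1136 true, .cancel 9]⟩,
  ⟨[14, 6, 8, 11, 11, 5, 15, 10, 14, 11, 13], [0, 13], [14, 6, 8, 10, 14, 11], [.use 759 true, .use 1018 true, .use 868 true, .ins 5 11, .use 64 false, .rel 6 5 (20, false, 1)]⟩,
  ⟨[14, 6, 10, 8, 10, 10, 10, 0], [0], [14, 6, 10, 8, 10, 10, 10], [.use 1007 true, .ins 6 0, .use 1127 false, .rel 6 3 (16, false, 1), .use 1007 false]⟩,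
  ⟨[14, 6, 8, 11, 8, 11, 8, 0], [0], [14, 6, 8, 11, 8, 11, 8], [.use 115 true, .ins 6 1, .use 1003 false, .rel 6 3 (6, false, 0), .use 351 true, .cancel 7]⟩,
  ⟨[14, 6, 10, 8, 11, 11, 6], [8, 10, 8, 11], [14, 6, 10, 8, 10, 10], [.ins 6 9, .use 831 false, .ins 7 7, .use 354 false, .use 115 true, .rel 6 4 (9, false, 1), .use 350 true, .cancel 6, .use 357 true, .cancel 6]⟩,
  ⟨[14, 6, 8, 11, 8, 11, 13, 1], [0], [14, 6, 8, 11, 8, 11, 13], [.use 116 true, .rel 6 2 (16, false, 0), .use 1003 false, .use 116 false]⟩,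
  ⟨[14, 6, 8, 11, 5, 15, 10, 14, 14], [0], [14, 6, 8, 11, 15, 10], [.use 738 true, .rel 6 2 (21, false, 0), .use 1019 false, .use 1022 false]⟩,
  ⟨[14, 6, 8, 11, 14, 10, 15, 5], [], [14, 6, 8, 11, 5, 15, 10, 14], [.use 776 true, .rel 6 2 (23, false, 0), .use 1021 true, .cancel 6, .use 1143 true, .cancel 8]⟩,
  ⟨[14, 6, 8, 11, 5, 15, 11, 11, 15, 12], [0, 13], [14, 6, 8, 11, 14, 10], [.use 714 true, .ins 8 13, .use 1023 false, .use 738 true, .rel 6 4 (26, false, 2)]⟩,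
  ⟨[14, 6, 8, 14, 11, 8, 12, 0], [0], [14, 6, 8, 14, 11, 8, 12], [.use 117 true, .ins 6 0, .use 1029 false, .rel 6 3 (16, false, 1), .use 117 false]⟩,
  ⟨[14, 6, 8, 14, 11, 11, 14, 11], [], [14, 6, 8, 15, 11, 15, 10, 14], [.ins 7 5, .use 1135 false, .ins 7 1, .use 1130 false, .use 1042 true, .use 594 true, .rel 6 4 (28, false, 7), .use 75 true, .cancel 5, .use 1033 false, .use 774 false, .use 775 false]⟩,
  ⟨[14, 6, 11, 8, 10, 13, 6], [12, 10, 8, 11], [14, 6, 11, 8, 11, 8, 10], [.use 335 true, .use 312 true, .rel 6 3 (9, false, 0), .use 321 false, .use 328 true, .cancel 6, .use 1104 true, .cancel 7]⟩,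
  ⟨[14, 6, 11, 8, 11, 8, 10, 6], [10, 8, 11, 13], [14, 6, 11, 8, 10, 13], [.ins 7 9, .use 846 false, .use 360 true, .ins 6 9, .use 359 false, .rel 6 4 (9, false, 1), .use 311 true, .cancel 6, .use 336 true, .cancel 6]⟩,
  ⟨[14, 6, 10, 8, 10, 13, 14, 0], [0], [14, 6, 10, 8, 10, 13, 14], [.use 118 true, .use 1048 true, .rel 6 3 (22, false, 1), .use 118 false]⟩,
  ⟨[14, 6, 11, 8, 12, 15, 6, 14, 12], [], [14, 6, 11, 8, 13, 15, 6, 14], [.ins 8 6, .use 622 false, .ins 6 12, .use 322 false, .rel 6 3 (18, false, 0), .use 630 true, .cancel 8]⟩]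

/-- Equations. -/
def part18 : List CFact := [
  ⟨[14, 6, 11, 8, 15, 6, 12], [], [14, 6, 11, 8, 13, 15, 6], [.ins 6 14, .use 430 false, .rel 6 2 (26, false, 0), .use 1073 true, .cancel 8, .use 629 true, .cancel 7]⟩,
  ⟨[14, 6, 11, 8, 12, 15, 6, 12], [], [14, 6, 11, 8, 15, 6], [.ins 7 14, .use 621 false, .use 1074 true, .rel 6 3 (26, false, 3), .use 430 true, .cancel 6]⟩,
  ⟨[14, 6, 10, 10, 14, 10, 10, 0], [0], [14, 6, 10, 10, 14, 10, 10], [.use 570 true, .ins 6 0, .use 1078 false, .rel 6 3 (11, false, 1), .use 570 false]⟩,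
  ⟨[14, 6, 10, 14, 10, 10, 12], [0], [14, 6, 11, 11, 5, 15, 10, 14, 11, 15], [.use 266 true, .rel 6 2 (15, false, 0), .use 1097 true, .cancel 10]⟩,
  ⟨[14, 6, 11, 11, 5, 15, 10, 14, 11, 15, 1], [0], [14, 6, 11, 11, 5, 15, 10, 14, 11, 15], [.ins 10 12, .use 1097 false, .rel 6 2 (16, false, 0), .use 1078 true, .cancel 6, .use 1097 true, .cancel 10]⟩,
  ⟨[14, 6, 10, 10, 14, 11, 14], [6, 8, 6, 4, 6, 4, 11, 8, 6, 4, 6, 11, 11, 8, 11, 13], [14, 6, 11, 13, 14, 10, 10, 6, 11], [.rel 6 1 (21, false, 1), .use 943 false, .use 1121 false, .use 1123 false]⟩,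
  ⟨[14, 6, 11, 8, 11, 11, 15, 10, 10, 8, 4], [0, 13], [14, 6, 10, 14, 10, 12], [.use 559 true, .ins 6 4, .use 1082 false, .rel 6 3 (12, false, 1), .use 267 true, .cancel 6]⟩,
  ⟨[14, 6, 10, 14, 10, 12, 4], [0, 12], [14, 6, 11, 8, 11, 11, 15, 10, 10, 8], [.ins 6 11, .use 267 false, .rel 6 2 (12, false, 2), .use 1083 false, .use 559 false]⟩,
  ⟨[14, 6, 10, 13, 14, 11, 14], [12], [14, 6, 11, 11, 15, 10], [.rel 6 1 (21, false, 1), .use 900 false, .use 1117 false, .use 1119 false]⟩,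
  ⟨[14, 6, 11, 11, 15, 10, 0], [0], [14, 6, 11, 11, 15, 10], [.use 1160 true, .use 1080 true, .rel 6 3 (22, false, 1), .use 1160 false]⟩,
  ⟨[14, 6, 10, 14, 10, 12, 6, 11, 11, 13], [], [14, 6, 10, 14, 10, 10, 6], [.use 433 true, .use 432 true, .ins 7 13, .use 1093 false, .rel 6 4 (20, false, 2), .use 1087 true, .cancel 7]⟩,
  ⟨[14, 6, 10, 14, 10, 10, 6, 6], [], [14, 6, 10, 14, 10, 10], [.use 631 true, .rel 6 2 (4, false, 0)]⟩,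
  ⟨[14, 6, 10, 14, 10, 12, 6, 11, 11, 6], [0], [14, 6, 11, 11, 5, 15, 10, 14, 11, 15], [.ins 9 13, .use 1162 false, .ins 7 6, .use 1163 false, .rel 6 3 (18, false, 1), .use 1155 false]⟩,
  ⟨[14, 6, 11, 11, 5, 15, 10, 14, 11, 15, 6], [0], [14, 6, 10, 14, 10, 12, 6, 11, 11], [.use 1155 true, .rel 6 2 (18, false, 2), .use 631 false, .use 1162 true, .cancel 9]⟩,
  ⟨[14, 6, 8, 15, 6, 11, 14, 10, 15, 1], [0], [14, 6, 8, 15, 6, 11, 14, 10, 15], [.use 970 true, .rel 6 2 (22, false, 0), .use 1084 true, .cancel 6, .use 970 false]⟩,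
  ⟨[14, 6, 8, 15, 6, 11, 15, 12], [6, 8, 12], [14, 6, 11, 8, 11, 11, 15, 10, 10, 8], [.ins 7 4, .use 904 false, .ins 5 12, .use 99 false, .rel 6 3 (17, false, 0), .use 1158 true, .cancel 10]⟩,
  ⟨[14, 6, 14, 11, 13, 14], [12], [14, 6, 11, 8, 11, 11, 15, 10, 10, 8], [.use 971 true, .rel 6 2 (21, false, 0), .use 1090 false, .use 1159 false]⟩,
  ⟨[14, 6, 10, 8, 12, 15, 6, 12], [], [14, 6, 10, 8, 15, 6], [.ins 7 14, .use 642 false, .use 1114 true, .rel 6 3 (26, false, 3), .use 442 true, .cancel 6]⟩,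
  ⟨[14, 6, 8, 14, 11, 11, 15, 10, 0], [0], [14, 6, 8, 14, 11, 11, 15, 10], [.use 1044 true, .use 1130 true, .rel 7 3 (11, false, 1), .use 1044 false]⟩,
  ⟨[14, 6, 8, 14, 11, 11, 14, 10, 4], [0], [14, 6, 8, 14, 11, 11, 15, 10], [.use 611 true, .use 1132 true, .rel 7 3 (12, false, 1), .use 1044 false]⟩,
  ⟨[14, 6, 11, 13, 14, 10, 10, 6, 4], [4, 6, 11, 8, 11, 8, 6, 4, 6, 10, 8, 6, 4, 6, 11, 8], [14, 6, 11, 13, 14, 10, 10], [.ins 8 11, .use 364 false, .ins 9 4, .use 1122 false, .rel 6 3 (12, false, 1), .use 362 false]⟩,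
  ⟨[14, 6, 11, 11, 14, 10, 10, 0], [0], [14, 6, 11, 11, 14, 10, 10], [.use 1120 true, .ins 6 0, .use 1121 false, .rel 6 3 (16, false, 1), .use 1120 false]⟩,
  ⟨[14, 6, 11, 13, 14, 10, 10, 6, 6], [], [14, 6, 11, 13, 14, 10, 10], [.use 363 true, .rel 7 2 (4, false, 0)]⟩,
  ⟨[14, 6, 11, 13, 14, 10, 10, 6, 0], [0], [14, 6, 11, 13, 14, 10, 10, 6], [.ins 8 4, .use 1172 false, .ins 7 6, .use 363 false, .ins 8 4, .use 1172 false, .ins 7 6, .use 363 false, .ins 8 4, .use 1172 false, .ins 7 6, .use 363 false, .ins 8 4, .use 1172 false, .rel 7 8 (7, false, 2), .use 363 false]⟩,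
  ⟨[14, 6, 11, 15, 10, 12], [8, 6, 11, 8, 6, 4, 6, 4, 8, 6, 11, 8, 6, 4, 11, 11], [14, 6, 11, 13, 14, 10, 10, 6], [.ins 5 4, .use 948 false, .ins 6 12, .use 953 false, .rel 7 3 (17, false, 0), .use 1172 true, .cancel 8]⟩,
  ⟨[14, 6, 11, 5, 15, 10, 7], [4, 6, 11, 8, 11, 8, 6, 4, 6, 10, 8, 6, 4, 6, 11, 8], [14, 6, 11, 15, 10], [.ins 6 12, .use 953 false, .rel 7 2 (18, false, 0), .use 1174 true, .cancel 8, .use 1176 true, .cancel 5]⟩,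
  ⟨[14, 6, 11, 15, 10, 7], [8, 6, 4, 6, 10, 8, 6, 4, 6, 8, 11, 8, 6, 4, 11, 11], [14, 6, 11, 5, 15, 10], [.ins 5 12, .use 1176 false, .use 363 true, .rel 7 3 (18, false, 3), .use 953 true, .cancel 6]⟩,
  ⟨[14, 6, 11, 15, 10, 1], [0], [14, 6, 11, 15, 10], [.ins 5 12, .use 1176 false, .rel 8 2 (16, false, 0), .use 1175 true, .cancel 8, .use 1176 true, .cancel 5]⟩,
  ⟨[14, 6, 11, 13, 14, 10, 10, 6, 11, 12], [4, 6, 13, 11, 8, 6, 4, 6, 8, 11, 8, 6, 4, 6, 8, 10], [14, 6, 8, 11, 11, 15, 10, 10, 8], [.rel 9 1 (20, false, 2), .use 366 true, .cancel 5, .use 936 false, .use 403 false, .use 404 false]⟩,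
  ⟨[14, 6, 5, 7, 5, 6], [0, 4], [14, 6, 5], [.use 383 true, .rel 3 2 (4, false, 0)]⟩,
  ⟨[14, 6, 5, 7, 5], [0, 4], [14, 6, 5, 7], [.ins 5 6, .use 1181 false, .use 368 false]⟩,
  ⟨[14, 6, 5, 7, 4], [0, 4], [14, 6, 5, 7], [.use 1182 true, .use 369 true, .cancel 4]⟩,
  ⟨[14, 6, 5, 7, 4], [0, 4], [14, 6, 5, 7], [.use 420 true, .use 1183 false]⟩,
  ⟨[14, 6, 5, 7, 6], [0, 4], [14, 6, 5, 7, 4, 6], [.use 1184 true, .use 421 false]⟩,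
  ⟨[14, 6, 5, 7, 4, 6], [0, 4], [14, 6, 5], [.use 1185 true, .use 368 true, .cancel 3]⟩,
  ⟨[14, 6, 5, 10], [0, 4], [14, 6, 5, 7, 4, 6, 10], [.use 1186 true, .use 422 false]⟩,
  ⟨[14, 6, 10, 5], [0, 4], [14, 6, 5, 7, 4, 6, 10], [.use 486 true, .use 1187 false]⟩,
  ⟨[14, 6, 5, 7, 4, 6, 10, 6], [], [14, 6, 10, 5, 7, 5], [.use 1188 true, .use 476 false]⟩,
  ⟨[14, 6, 5, 7, 4, 6, 10, 13], [0, 4], [14, 6, 10, 13, 5], [.use 1188 true, .use 489 true, .cancel 5]⟩,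
  ⟨[14, 6, 5, 7, 4, 6, 10, 9], [0, 4], [14, 6, 10, 5, 8], [.use 1188 true, .use 782 true, .cancel 5]⟩,
  ⟨[14, 6, 10, 5, 8], [0, 4], [14, 6, 5, 7, 4, 6, 10, 9], [.use 1191 true, .use 423 false]⟩,
  ⟨[14, 6, 5, 7, 4, 6, 10, 10], [0, 4], [14, 6, 10, 10, 5], [.use 1188 true, .use 828 false]⟩,
  ⟨[14, 6, 5, 7, 4, 6, 10, 12], [0, 4, 13], [14, 6, 10, 10, 5], [.use 1188 true, .use 833 false]⟩,
  ⟨[14, 6, 5, 7, 4, 6, 10, 9, 4], [0, 4], [14, 6, 10, 8], [.use 1192 true, .use 485 false]⟩,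
  ⟨[14, 6, 5, 7, 4, 6, 10, 9, 5], [0, 4], [14, 6, 10, 8], [.use 1192 true, .use 781 true, .cancel 4]⟩,
  ⟨[14, 6, 5, 7, 4, 6, 10, 9, 11], [0, 4], [14, 6, 10, 8, 11, 5], [.use 1192 true, .use 787 true, .cancel 6]⟩,
  ⟨[14, 6, 5, 7, 4, 6, 10, 9, 13], [0, 4], [14, 6, 10, 8, 13, 5], [.use 1192 true, .use 791 true, .cancel 6]⟩,
  ⟨[14, 6, 5, 7, 4, 6, 10, 9, 15], [4], [14, 6, 10, 8, 14], [.use 1192 true, .use 792 true, .cancel 5]⟩,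
  ⟨[14, 6, 10, 5, 7, 5, 10, 6], [0, 4], [14, 6, 5], [.use 446 true, .use 1189 true, .use 1188 true, .use 486 true, .rel 3 4 (13, false, 0)]⟩,
  ⟨[14, 6, 10, 5, 7, 5, 10], [0, 4], [14, 6, 5, 7], [.ins 7 6, .use 1200 false, .use 368 false]⟩,
  ⟨[14, 6, 5, 7, 11], [0, 4], [14, 6, 10, 5, 7, 5], [.use 1201 true, .use 446 true, .cancel 6]⟩,
  ⟨[14, 6, 10, 5, 7, 5, 5], [0, 4], [14, 6, 10, 5, 7, 5], [.use 1202 true, .rel 4 2 (12, false, 0), .use 369 false, .use 1182 false, .use 1202 false]⟩,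
  ⟨[14, 6, 10, 5, 7, 5], [0, 4], [14, 6, 10, 5, 7], [.ins 6 5, .use 1203 false, .use 437 true, .cancel 5]⟩,
  ⟨[14, 6, 10, 5, 7, 4], [0, 4], [14, 6, 10, 5, 7], [.use 1204 true, .use 437 true, .cancel 5]⟩,
  ⟨[14, 6, 10, 5, 7, 4], [0, 4], [14, 6, 10, 5, 7], [.use 522 true, .use 1205 false]⟩,
  ⟨[14, 6, 10, 5, 7, 6], [0, 4], [14, 6, 10, 5, 7, 4, 6], [.use 1206 true, .use 523 false]⟩,
  ⟨[14, 6, 10, 5, 7, 4, 6], [], [14, 6, 5, 7, 4, 6, 10], [.use 1207 true, .use 436 true, .cancel 4, .use 1188 false]⟩,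
  ⟨[14, 6, 5, 7, 4, 6, 10, 10], [], [14, 6, 10, 5, 7, 4, 6, 10], [.use 1208 true, .use 524 false]⟩,
  ⟨[14, 6, 10, 10, 5], [0, 4], [14, 6, 10, 5, 7, 4, 6, 10], [.use 1193 true, .use 1209 false]⟩,
  ⟨[14, 6, 10, 5, 7, 4, 6, 10, 15], [4], [14, 6, 10, 10, 14], [.use 1210 true, .use 890 true, .cancel 5]⟩,
  ⟨[14, 6, 8, 11, 11, 15, 10, 10, 8, 4], [0], [14, 6, 11, 11, 14, 10, 10], [.use 404 true, .ins 6 4, .use 1118 false, .rel 6 3 (12, false, 1), .use 376 false]⟩,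
  ⟨[14, 6, 11, 11, 14, 10, 10, 4], [0], [14, 6, 8, 11, 11, 15, 10, 10, 8], [.use 376 true, .rel 6 2 (12, false, 2), .use 1119 false, .use 404 false]⟩,
  ⟨[14, 6, 11, 14, 10, 10, 0], [0], [14, 6, 11, 14, 10, 10], [.use 952 true, .ins 6 0, .use 1117 false, .rel 6 3 (16, false, 1), .use 952 false]⟩,
  ⟨[14, 6, 8, 11, 11, 15, 10, 10, 4], [0], [14, 6, 8, 11, 11, 14, 10, 10], [.use 457 true, .use 1213 true, .rel 7 3 (8, false, 0), .use 817 false]⟩]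

/-- Equations. -/
def part19 : List CFact := [
  ⟨[14, 6, 8, 11, 11, 15, 11], [], [14, 6, 8, 11, 14, 10, 15], [.rel 6 1 (12, false, 0), .use 1015 false, .use 1011 false, .use 1144 true, .cancel 7]⟩,
  ⟨[14, 6, 8, 11, 11, 14, 10, 4], [0], [14, 6, 8, 11, 11, 15, 10], [.use 470 true, .use 1015 true, .rel 6 3 (12, false, 1), .use 399 false]⟩,
  ⟨[14, 6, 8, 11, 11, 15, 10, 12], [13], [14, 6, 11, 8, 12, 10, 15, 10, 10, 8], [.use 399 true, .rel 6 2 (20, false, 1), .use 877 false, .use 710 false, .use 711 false]⟩,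
  ⟨[14, 6, 8, 11, 13, 5, 14], [0], [14, 6, 8, 11, 15, 12], [.use 1008 true, .use 1016 true, .rel 6 3 (26, false, 0), .use 1017 true, .cancel 6]⟩,
  ⟨[14, 6, 8, 11, 11, 14, 10, 0], [0], [14, 6, 8, 11, 11, 14, 10], [.use 1013 true, .ins 8 14, .use 758 false, .use 1018 true, .ins 6 14, .use 987 false, .ins 6 10, .use 986 false, .use 1016 true, .rel 6 6 (28, false, 3), .use 399 false, .use 1217 true, .cancel 7]⟩,
  ⟨[14, 6, 8, 11, 11, 5, 15, 10, 14, 14], [0], [14, 6, 8, 11, 11, 15, 10], [.use 1014 true, .ins 7 0, .use 1220 false, .ins 7 4, .use 1217 false, .rel 7 4 (21, false, 2)]⟩,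
  ⟨[14, 6, 11, 11, 15, 10, 12], [12], [14, 6, 11, 15, 10, 10], [.use 403 true, .rel 5 2 (20, false, 1), .use 851 false, .use 506 false, .use 507 false]⟩,
  ⟨[14, 6, 11, 15, 10, 10, 0], [0], [14, 6, 11, 15, 10, 10], [.use 1222 true, .ins 6 0, .use 1161 false, .rel 6 3 (16, false, 1), .use 1222 false]⟩,
  ⟨[14, 6, 11, 14, 10, 10, 4], [0], [14, 6, 11, 15, 10, 10], [.use 952 true, .ins 6 4, .use 1119 false, .rel 6 3 (17, false, 1), .use 1222 false]⟩,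
  ⟨[14, 6, 11, 15, 10, 10, 4], [0], [14, 6, 11, 14, 10, 10], [.use 1222 true, .rel 6 2 (17, false, 2), .use 1118 false, .use 952 false]⟩,
  ⟨[14, 6, 11, 14, 10, 10, 6, 10], [4, 6, 11, 11, 8, 6, 4, 6, 10, 8, 6, 4, 6, 8, 11, 8], [14, 6, 11, 15, 10], [.use 418 true, .use 548 true, .rel 6 3 (13, false, 0), .use 1177 false]⟩,
  ⟨[14, 6, 11, 15], [8, 6, 11, 8, 6, 4, 6, 4, 8, 6, 11, 8, 6, 4, 11, 11], [14, 6, 11, 14, 10, 10, 6], [.ins 4 10, .use 506 false, .use 1226 true, .cancel 7]⟩,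
  ⟨[14, 6, 11, 14, 10, 10, 6, 1], [0], [14, 6, 11, 14, 10, 10, 6], [.use 1227 true, .use 549 false, .use 1227 false]⟩,
  ⟨[14, 6, 11, 14, 10, 10, 6, 9], [4, 6, 11, 11, 8, 6, 4, 6, 10, 8, 6, 4, 6, 8, 11, 8], [14, 6, 11, 8, 15], [.use 1227 true, .use 551 false]⟩,
  ⟨[14, 6, 11, 14, 10, 10, 6, 7], [4, 6, 4, 11, 8, 11, 8, 6, 4, 6, 10, 8, 6, 4, 6, 11, 11, 8], [14, 6, 10, 14, 6, 8, 15], [.use 1227 true, .use 553 true, .cancel 7]⟩,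
  ⟨[14, 6, 10, 14, 6, 8, 15], [4, 6, 8, 6, 4, 10, 8, 6, 4, 11, 11, 8, 6, 4, 10, 8, 10, 8], [14, 6, 11, 14, 10, 10], [.use 1230 true, .use 418 true, .cancel 6]⟩,
  ⟨[14, 6, 11, 14, 10, 10, 6, 11], [4, 6, 11, 11, 8, 6, 4, 6, 10, 8, 6, 4, 6, 8, 11, 8], [14, 6, 11, 15, 11], [.use 1227 true, .use 566 false]⟩,
  ⟨[14, 6, 11, 15, 11], [8, 6, 11, 8, 6, 4, 6, 4, 8, 6, 11, 8, 6, 4, 11, 11], [14, 6, 11, 14, 10, 10, 6, 11], [.use 1232 true, .use 419 false]⟩,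
  ⟨[14, 6, 11, 14, 10, 10, 14], [4, 6, 4, 11, 8, 11, 8, 6, 4, 6, 10, 8, 6, 4, 6, 11, 11, 8], [14, 6, 10, 14, 6, 8], [.use 1231 true, .use 552 true, .cancel 6]⟩,
  ⟨[14, 6, 11, 14, 10, 10, 6, 11, 14], [4, 6, 11, 11, 8, 6, 4, 6, 10, 8, 6, 4, 6, 8, 11, 8], [14, 6, 11, 15, 11, 14], [.use 1233 true, .use 567 false]⟩,
  ⟨[14, 6, 11, 14, 10, 10, 6, 11, 4], [4, 6, 11, 8, 11, 8, 6, 4, 6, 10, 8, 6, 4, 6, 11, 8], [14, 6, 11, 14, 11], [.use 1233 true, .use 947 true, .cancel 5]⟩,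
  ⟨[14, 6, 11, 15, 10, 10, 6], [8, 6, 11, 8, 6, 4, 6, 4, 8, 6, 11, 8, 6, 4, 11, 11], [14, 6, 11, 14], [.use 507 true, .ins 5 7, .use 1178 false, .rel 6 3 (13, false, 1), .use 408 true, .cancel 5, .use 541 false]⟩,
  ⟨[14, 6, 11, 15, 10, 10], [8, 6, 11, 8, 6, 4, 6, 4, 8, 6, 11, 8, 6, 4, 11, 11], [14, 6, 11, 14, 6], [.ins 6 6, .use 1237 false, .use 944 true, .cancel 5]⟩,
  ⟨[14, 6, 11, 14, 6, 9], [4, 6, 11, 11, 8, 6, 4, 6, 10, 8, 6, 4, 6, 8, 11, 8], [14, 6, 10, 8, 11, 11, 15, 10, 10], [.use 1238 true, .use 508 false]⟩,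
  ⟨[14, 6, 11, 14, 6, 8], [4, 6, 11, 11, 8, 6, 4, 6, 10, 8, 6, 4, 6, 8, 11, 8], [14, 6, 10, 8, 11, 11, 15, 10, 10], [.use 1238 true, .use 802 false]⟩,
  ⟨[14, 6, 10, 8, 11, 11, 15, 10, 10], [8, 6, 11, 8, 6, 4, 6, 4, 8, 6, 11, 8, 6, 4, 11, 11], [14, 6, 11, 14, 6, 8], [.use 1240 true, .use 496 false]⟩,
  ⟨[14, 6, 11, 14, 6, 13], [4, 6, 13, 11, 8, 6, 4, 6, 8, 11, 8, 6, 4, 6, 8, 10], [14, 6, 11, 11, 15, 10], [.use 1238 true, .use 1222 true, .cancel 6]⟩,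
  ⟨[14, 6, 11, 14, 6, 0], [0], [14, 6, 11, 14, 6], [.use 1238 true, .use 1223 false, .use 1238 false]⟩,
  ⟨[14, 6, 11, 14, 6, 8, 11], [4, 6, 11, 11, 8, 6, 4, 6, 10, 8, 6, 4, 6, 8, 11, 8], [14, 6, 10, 8, 11, 11, 15, 10], [.use 1241 true, .use 504 true, .cancel 8]⟩,
  ⟨[14, 6, 11, 5, 15, 10, 14, 14], [0], [14, 6, 11, 15, 10], [.use 409 true, .rel 6 2 (21, false, 0), .use 946 false, .use 949 false]⟩,
  ⟨[14, 6, 11, 15, 10, 14], [0], [14, 6, 11, 5, 15, 10, 15], [.use 1179 true, .ins 5 4, .use 948 false, .rel 6 3 (21, false, 2), .use 607 false]⟩,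
  ⟨[14, 6, 11, 5, 15, 10, 15, 1], [0], [14, 6, 11, 5, 15, 10, 15], [.use 607 true, .rel 6 2 (22, false, 0), .use 946 true, .cancel 6, .use 607 false]⟩,
  ⟨[14, 6, 11, 5, 15, 10, 15, 5], [0], [14, 6, 11, 5, 15, 10, 14], [.use 607 true, .rel 6 2 (23, false, 0), .use 948 true, .cancel 5, .use 1245 true, .cancel 7]⟩,
  ⟨[14, 6, 11, 5, 15, 10, 15, 4], [0], [14, 6, 11, 5, 15, 10, 14], [.use 1246 true, .ins 5 4, .use 948 false, .rel 6 3 (23, false, 1), .use 409 false]⟩,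
  ⟨[14, 6, 11, 5, 15, 11, 11, 15, 12], [13], [14, 6, 11, 5, 15, 10], [.use 511 true, .ins 7 13, .use 954 false, .use 409 true, .rel 6 4 (26, false, 2)]⟩,
  ⟨[14, 6, 11, 11, 15, 11], [0], [14, 6, 11, 5, 15, 10, 15], [.use 402 true, .use 20 true, .ins 3 14, .use 22 false, .use 541 true, .ins 5 10, .use 408 false, .rel 6 5 (28, false, 2), .use 948 true, .cancel 5, .use 1179 false, .use 1246 false]⟩,
  ⟨[14, 6, 11, 5, 15, 10, 14, 11, 15, 11], [4, 6, 4, 11, 11, 8, 6, 4, 6, 10, 8, 6, 4, 6, 8, 11, 11, 8], [14, 6, 10, 14, 6, 8], [.use 411 true, .use 410 true, .use 1249 true, .ins 7 1, .use 1247 false, .use 607 true, .rel 6 6 (28, false, 7), .use 548 false, .use 1234 false]⟩,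
  ⟨[14, 6, 11, 5, 15, 10, 14, 11, 1], [0], [14, 6, 11, 5, 15, 10, 14, 11], [.use 410 true, .rel 7 2 (11, false, 0), .use 1116 false, .use 410 false]⟩,
  ⟨[14, 6, 11, 5, 15, 10, 14, 11, 5], [0], [14, 6, 11, 5, 15, 10, 15, 11], [.use 410 true, .rel 7 2 (12, false, 0), .use 1249 true, .cancel 7, .use 608 false]⟩,
  ⟨[14, 6, 11, 5, 15, 10, 15, 11, 5], [0], [14, 6, 11, 5, 15, 10, 14, 11], [.use 608 true, .ins 7 5, .use 1248 false, .rel 7 3 (12, false, 3), .use 410 false]⟩,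
  ⟨[14, 6, 11, 5, 15, 10, 14, 11, 15, 1], [0], [14, 6, 11, 5, 15, 10, 14, 11, 15], [.use 411 true, .rel 8 2 (22, false, 0), .use 1253 false, .use 411 false]⟩,
  ⟨[14, 6, 10, 14, 6, 8, 1], [0], [14, 6, 10, 14, 6, 8], [.use 1252 true, .rel 9 2 (11, false, 0), .use 1256 false, .use 1252 false]⟩,
  ⟨[14, 6, 11, 14, 10, 10, 6, 6], [], [14, 6, 11, 14, 10, 10], [.use 418 true, .rel 6 2 (4, false, 0)]⟩,
  ⟨[14, 6, 10, 8, 11, 11, 14, 10, 10, 4], [8, 6, 4, 6, 10, 8, 6, 4, 6, 8, 11, 8, 6, 4, 11, 11], [14, 6, 11, 14, 6, 8], [.ins 9 9, .use 816 false, .rel 6 2 (8, false, 1), .use 1225 true, .cancel 6, .use 1238 false, .use 1239 false, .use 1241 false]⟩,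
  ⟨[14, 6, 10, 14, 6, 8, 14], [8, 11, 8, 6, 4, 6, 4, 11, 8, 6, 4, 6, 10, 8, 6, 4, 6, 10, 8, 10], [14, 6, 11, 14, 6], [.use 1234 true, .rel 6 2 (21, false, 0), .use 1214 false, .use 1224 false, .use 1238 false]⟩,
  ⟨[14, 6, 10, 8, 11, 11, 14, 10, 10, 14], [4, 6, 4, 11, 8, 11, 8, 6, 4, 6, 10, 8, 6, 4, 6, 11, 11, 8], [14, 6, 10, 14, 6], [.use 818 true, .rel 6 2 (24, false, 1), .use 1234 false, .use 96 true, .cancel 5]⟩,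
  ⟨[14, 6, 10, 14, 6, 8, 12], [4, 8, 6, 4, 6, 8, 12, 11, 8, 6, 4, 6, 11, 8, 6, 4, 11], [14, 6, 10, 13, 14, 11], [.use 1234 true, .rel 6 2 (26, false, 2), .use 952 true, .cancel 6, .use 900 true, .cancel 6]⟩,
  ⟨[14, 6, 11, 14, 10, 10, 6, 11, 1], [0], [14, 6, 11, 14, 10, 10, 6, 11], [.use 419 true, .rel 7 2 (11, false, 0), .use 1228 false, .use 419 false]⟩,
  ⟨[14, 6, 11, 14, 10, 10, 6, 11, 11, 1], [0], [14, 6, 11, 14, 10, 10, 6, 11, 11], [.use 443 true, .rel 8 2 (11, false, 0), .use 1263 false, .use 443 false]⟩,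
  ⟨[14, 6, 11, 5, 15, 11, 11, 5], [8, 6, 11, 8, 6, 4, 6, 4, 8, 6, 11, 8, 6, 4, 11, 11], [14, 6, 11, 14, 10, 10, 6, 11, 11], [.use 547 true, .use 1236 true, .rel 8 3 (12, false, 3), .use 443 false]⟩,
  ⟨[14, 6, 11, 15, 11, 14, 14], [], [14, 6, 11, 14, 11], [.use 1235 true, .rel 8 2 (21, false, 0), .use 1263 true, .cancel 8, .use 1236 false]⟩,
  ⟨[14, 6, 11, 15, 11, 14], [], [14, 6, 14, 10], [.ins 6 14, .use 1266 false, .use 546 false]⟩,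
  ⟨[14, 6, 14, 10, 15], [8, 6, 11, 8, 6, 4, 6, 4, 8, 6, 11, 8, 6, 4, 11, 11], [14, 6, 11, 14, 10, 10, 6, 11], [.use 1267 true, .use 567 true, .cancel 5, .use 1233 false]⟩,
  ⟨[14, 6, 14, 10, 10], [], [14, 6, 11, 15, 11, 14, 10], [.use 1267 true, .use 568 false]⟩,
  ⟨[14, 6, 11, 15, 11, 14, 10], [], [14, 6, 14, 10, 10], [.use 1269 true, .use 53 false]⟩,
  ⟨[14, 6, 14, 10, 10, 15], [], [14, 6, 11, 15, 11, 14, 10, 15], [.use 1270 true, .use 569 false]⟩,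
  ⟨[14, 6, 11, 15, 11, 14, 10, 15, 12], [6, 8, 6, 4, 6, 4, 11, 8, 6, 4, 6, 11, 11, 8, 11, 13], [14, 6, 11, 14, 10, 10, 6, 11], [.use 1271 true, .use 221 true, .use 1267 true, .use 1235 true, .rel 8 4 (26, false, 2)]⟩,
  ⟨[14, 6, 5, 7, 4, 6, 10, 9, 12], [13], [14, 6, 10, 5, 7, 4, 6, 10, 9], [.use 423 true, .rel 7 2 (19, false, 1), .use 1194 false, .use 1210 false, .use 525 false]⟩,
  ⟨[14, 6, 10, 8, 12, 4], [0, 4, 13], [14, 6, 10, 5, 7, 4, 6, 10, 9], [.use 37 true, .use 1196 true, .rel 8 3 (17, false, 1), .use 1273 false]⟩,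
  ⟨[14, 6, 10, 5, 7, 4, 6, 10, 9, 4], [0, 4, 12], [14, 6, 10, 8, 12], [.use 1273 true, .rel 8 2 (17, false, 2), .use 1195 false, .use 37 false]⟩,
  ⟨[14, 6, 10, 5, 7, 4, 6, 10, 9, 15], [4, 12], [14, 6, 10, 8, 12, 14], [.use 1273 true, .rel 8 2 (26, false, 3), .use 1199 false, .use 253 true, .cancel 6]⟩,
  ⟨[14, 6, 11, 8, 15, 6, 6], [], [14, 6, 11, 8, 15], [.use 429 true, .rel 5 2 (4, false, 0)]⟩,
  ⟨[14, 6, 10, 8, 11, 11, 14, 10, 10, 6, 8], [4, 6, 11, 11, 8, 6, 4, 6, 10, 8, 6, 4, 6, 8, 11, 8], [14, 6, 11, 8, 15, 6], [.use 815 true, .ins 9 9, .use 816 false, .use 1258 true, .use 1227 true, .ins 4 9, .use 551 false, .rel 5 5 (9, false, 1), .use 1277 true, .cancel 6]⟩,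
  ⟨[14, 6, 11, 8, 12, 15, 7], [], [14, 6, 11, 8, 12, 15, 6], [.ins 6 12, .use 918 false, .rel 5 2 (18, false, 0), .use 1277 true, .cancel 6, .use 1153 true, .cancel 7]⟩]

/-- Equations. -/
def part20 : List CFact := [
  ⟨[14, 6, 11, 8, 13, 15, 6, 6], [], [14, 6, 11, 8, 13, 15], [.use 1152 true, .ins 6 6, .use 1277 false, .rel 5 3 (18, false, 1), .use 917 false]⟩,
  ⟨[14, 6, 11, 8, 15, 6, 8], [8, 6, 11, 8, 6, 4, 6, 4, 8, 6, 11, 8, 6, 4, 11, 11], [14, 6, 10, 8, 11, 11, 14, 10, 10, 6], [.rel 6 1 (5, false, 0), .use 1278 true, .cancel 10]⟩,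
  ⟨[14, 6, 11, 8, 13, 15, 6, 12], [], [14, 6, 11, 8, 12, 15, 6], [.use 1152 true, .rel 6 2 (15, false, 0), .use 1153 true, .cancel 7]⟩,
  ⟨[14, 6, 10, 8, 15, 6, 6], [], [14, 6, 10, 8, 15], [.use 441 true, .rel 5 2 (4, false, 0)]⟩,
  ⟨[14, 6, 10, 8, 15, 7], [], [14, 6, 10, 8, 15, 6], [.use 799 true, .use 1283 true, .cancel 6]⟩,
  ⟨[14, 6, 10, 8, 15, 6, 14], [8, 10, 8, 11], [14, 6, 10, 15, 6, 14, 6, 8], [.use 1284 true, .use 800 false]⟩,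
  ⟨[14, 6, 10, 15, 6, 14, 6, 8], [8, 10, 8], [14, 6, 11, 8, 14, 6], [.use 1285 true, .use 442 false]⟩,
  ⟨[14, 6, 11, 8, 14, 6, 9], [8, 11, 8], [14, 6, 10, 15, 6, 14, 6], [.use 1286 true, .use 798 true, .cancel 7]⟩,
  ⟨[14, 6, 11, 14, 10, 10, 6, 11, 11, 14, 14], [4, 6, 11, 8, 11, 8, 6, 4, 6, 10, 8, 6, 4, 6, 11, 8], [14, 6, 11, 5, 15, 11, 11], [.use 444 true, .rel 9 2 (21, false, 0), .use 1264 true, .cancel 9, .use 1265 true, .cancel 7]⟩,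
  ⟨[14, 6, 11, 5, 15, 11, 11, 15], [8, 6, 4, 6, 10, 8, 6, 4, 6, 8, 11, 8, 6, 4, 11, 11], [14, 6, 11, 14, 10, 10, 6, 11, 11, 14], [.use 511 true, .use 1288 true, .cancel 10]⟩,
  ⟨[14, 6, 11, 14, 10, 10, 6, 11, 11, 14, 10], [4, 6, 11, 8, 11, 8, 6, 4, 6, 10, 8, 6, 4, 6, 11, 8], [14, 6, 11, 5, 15, 11, 11, 15, 10], [.use 1289 true, .use 512 false]⟩,
  ⟨[14, 6, 11, 5, 15, 11, 11, 15, 10], [8, 6, 4, 6, 10, 8, 6, 4, 6, 8, 11, 8, 6, 4, 11, 11], [14, 6, 11, 14, 10, 10, 6, 11, 11, 14, 10], [.use 1290 true, .use 445 false]⟩,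
  ⟨[14, 6, 11, 14, 10, 10, 6, 11, 11, 14, 12], [4, 6, 10, 13, 10, 8, 6, 4, 6, 8, 10, 8, 6, 4, 6, 8], [14, 6, 11, 5, 15, 10], [.use 1289 true, .use 1250 false]⟩,
  ⟨[14, 6, 11, 14, 10, 10, 6, 11, 11, 14, 10, 14], [4, 6, 11, 8, 11, 8, 6, 4, 6, 10, 8, 6, 4, 6, 11, 8], [14, 6, 11, 5, 15, 11, 11, 15, 10, 14], [.use 1291 true, .use 513 false]⟩,
  ⟨[14, 6, 11, 13, 14, 10, 10, 12], [6, 4, 10, 8, 6, 4, 6, 8, 11, 8, 6, 4, 6, 8, 11, 12], [14, 6, 11, 14, 10, 10, 6, 11, 11, 14], [.use 953 true, .use 1292 true, .rel 10 3 (15, false, 0)]⟩,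
  ⟨[14, 6, 8, 11, 5, 8, 14], [0], [14, 6, 8, 11, 8, 15], [.ins 6 8, .use 1002 false, .rel 5 2 (24, false, 1), .use 873 false, .use 741 false]⟩,
  ⟨[14, 6, 11, 8, 11, 11, 15, 1], [0], [14, 6, 11, 8, 11, 11, 15], [.use 554 true, .rel 6 2 (22, false, 0), .use 977 false, .use 554 false]⟩,
  ⟨[14, 6, 10, 15, 6, 6], [], [14, 6, 10, 15], [.use 795 true, .rel 4 2 (4, false, 0)]⟩,
  ⟨[14, 6, 10, 15, 6], [8, 10, 8], [14, 6, 11, 14, 6, 8, 15], [.ins 5 6, .use 1297 false, .use 498 true, .cancel 7]⟩,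
  ⟨[14, 6, 11, 14, 6, 8, 15, 14], [8, 11, 8], [14, 6, 10, 15, 6, 14], [.use 1298 true, .use 796 false]⟩,
  ⟨[14, 6, 10, 15, 6, 14], [8, 10, 8], [14, 6, 11, 14, 6, 8], [.use 1299 true, .use 497 true, .cancel 6]⟩,
  ⟨[14, 6, 11, 14, 6, 8, 6], [8, 11, 8], [14, 6, 10, 15, 6, 14, 6], [.use 1300 true, .use 797 false]⟩,
  ⟨[14, 6, 10, 15, 11, 13], [8, 6, 12], [14, 6, 8, 15, 6, 11, 15, 10, 14], [.use 514 true, .rel 4 2 (20, false, 4), .use 840 false, .use 972 true, .cancel 6, .use 1126 false]⟩,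
  ⟨[14, 6, 11, 14, 6, 8, 0], [0], [14, 6, 11, 14, 6, 8], [.use 496 true, .use 1243 true, .rel 5 3 (6, false, 0), .use 1239 false, .use 1241 false]⟩,
  ⟨[14, 6, 11, 11, 15, 10, 7], [6, 4, 10, 8, 6, 4, 6, 8, 11, 8, 6, 4, 6, 8, 11], [14, 6, 11, 11, 14], [.use 1242 true, .rel 5 2 (18, false, 0), .use 495 true, .cancel 4, .use 216 true, .cancel 5]⟩,
  ⟨[14, 6, 11, 11, 14, 7], [4, 6, 11, 8, 6, 4, 6, 8, 11, 8, 6, 4, 6, 8, 10], [14, 6, 11, 11, 15, 10], [.ins 5 12, .use 216 false, .use 944 true, .rel 5 3 (18, false, 3), .use 1242 false]⟩,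
  ⟨[14, 6, 10, 14, 6, 14], [8, 11, 8, 6, 4, 6, 4, 11, 8, 6, 4, 6, 10, 8, 6, 4, 6, 10, 8, 10], [14, 6, 11, 14, 6, 8], [.ins 5 8, .use 96 false, .ins 6 14, .use 1260 false, .rel 5 3 (24, false, 0), .use 1239 false, .use 1241 false]⟩,
  ⟨[14, 6, 11, 14, 6, 8, 15], [4, 11, 8, 6, 4, 6, 11, 8, 6, 4, 6, 11, 8, 6, 4, 6, 10, 8, 10, 8], [14, 6, 10, 14, 6], [.use 497 true, .use 1306 true, .cancel 5]⟩,
  ⟨[14, 6, 10, 14, 6, 6], [4, 10, 8, 6, 4, 6, 11, 11, 8, 6, 4, 6, 11, 8, 6, 4, 6, 10, 8, 10, 8], [14, 6, 10, 15], [.use 1307 true, .use 498 false]⟩,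
  ⟨[14, 6, 10, 15], [4, 10, 8, 6, 4, 6, 11, 11, 8, 6, 4, 6, 11, 8, 6, 4, 6, 10, 8, 10, 8], [14, 6, 10, 14], [.use 1308 true, .use 262 false]⟩,
  ⟨[14, 6, 10, 14, 14], [4, 10, 8, 6, 4, 6, 11, 11, 8, 6, 4, 6, 11, 8, 6, 4, 6, 10, 8, 10, 8], [14, 6, 10], [.use 1309 true, .use 491 true, .cancel 3]⟩,
  ⟨[14, 6, 5, 7, 4, 6, 10], [10, 8, 6, 4, 6, 11, 11, 8, 6, 4, 6, 11, 8, 6, 4, 6, 10, 8, 10, 8], [14, 6, 10], [.use 1188 true, .use 490 true, .use 1310 false]⟩,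
  ⟨[14, 6, 10, 14, 9], [4, 10, 8, 6, 4, 6, 11, 11, 8, 6, 4, 6, 11, 8, 6, 4, 6, 10, 8, 10, 8], [14, 6, 10, 8, 15], [.use 1309 true, .use 494 false]⟩,
  ⟨[14, 6, 10, 8, 15], [4, 10, 8, 6, 4, 6, 11, 11, 8, 6, 4, 6, 11, 8, 6, 4, 6, 10, 8, 10, 8], [14, 6, 10, 8, 14], [.use 1312 true, .use 198 true, .cancel 5]⟩,
  ⟨[14, 6, 10, 14, 12], [4, 10, 8, 6, 4, 6, 11, 11, 8, 6, 4, 6, 11, 8, 6, 4, 6, 10, 8, 10, 8], [14, 6, 10, 15, 12], [.use 1309 true, .use 499 false]⟩,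
  ⟨[14, 6, 10, 15, 12], [4, 10, 8, 6, 4, 6, 11, 11, 8, 6, 4, 6, 11, 8, 6, 4, 6, 10, 8, 10, 8], [14, 6, 10, 13, 14], [.use 1314 true, .use 201 false]⟩,
  ⟨[14, 6, 10, 14, 11], [4, 10, 8, 6, 4, 6, 11, 11, 8, 6, 4, 6, 11, 8, 6, 4, 6, 10, 8, 10, 8], [14, 6, 10, 15, 11], [.use 1309 true, .use 514 false]⟩,
  ⟨[14, 6, 10, 15, 11], [4, 10, 8, 6, 4, 6, 11, 11, 8, 6, 4, 6, 11, 8, 6, 4, 6, 10, 8, 10, 8], [14, 6, 10, 14, 11], [.use 1316 true, .use 44 false]⟩,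
  ⟨[14, 6, 10, 14, 10], [4, 10, 8, 6, 4, 6, 11, 11, 8, 6, 4, 6, 11, 8, 6, 4, 6, 10, 8, 6, 11], [14, 6, 8, 15, 6, 11, 15], [.use 1309 true, .use 840 false]⟩,
  ⟨[14, 6, 8, 15, 6, 11, 15], [6, 11, 8, 6, 4, 6, 4, 11, 8, 6, 4, 6, 10, 8, 6, 4, 6, 10, 10, 8, 11], [14, 6, 10, 14, 10], [.use 1318 true, .use 43 false]⟩,
  ⟨[14, 6, 10, 11], [4, 8, 11, 8, 6, 4, 6, 11, 8, 6, 4, 6, 10, 8, 6, 4, 6, 10, 10, 8, 11], [14, 6, 5], [.use 1311 true, .use 422 true, .cancel 6, .use 1186 false]⟩,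
  ⟨[14, 6, 5], [4, 8, 11, 8, 6, 4, 6, 11, 8, 6, 4, 6, 10, 8, 6, 4, 6, 10, 10, 8, 11], [14, 6], [.use 1320 true, .use 5 true, .cancel 2]⟩,
  ⟨[14, 6, 10, 9], [8, 11, 8, 6, 4, 6, 11, 8, 6, 4, 6, 10, 8, 6, 4, 6, 10, 10, 8, 11], [14, 6, 5, 7, 4, 6, 10, 9], [.use 1311 true, .use 423 false]⟩,
  ⟨[14, 6, 5, 7, 4, 6, 10, 9], [10, 8, 6, 4, 6, 11, 11, 8, 6, 4, 6, 11, 8, 6, 4, 6, 10, 8, 10, 8], [14, 6, 10, 8], [.use 1322 true, .use 190 true, .cancel 4]⟩,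
  ⟨[14, 6, 10, 13], [4, 8, 11, 8, 6, 4, 6, 11, 8, 6, 4, 6, 10, 8, 6, 4, 6, 10, 10, 8, 11], [14, 6, 10, 13, 5], [.use 1311 true, .use 1190 false]⟩,
  ⟨[14, 6, 10, 13, 5], [4, 8, 11, 8, 6, 4, 6, 11, 8, 6, 4, 6, 10, 8, 6, 4, 6, 10, 10, 8, 11], [14, 6, 10, 13], [.use 1324 true, .use 17 false]⟩,
  ⟨[14, 6, 10, 10], [8, 11, 8, 6, 4, 6, 11, 8, 6, 4, 6, 10, 8, 6, 4, 6, 10, 10, 8, 11], [14, 6, 10, 5, 7, 4, 6, 10], [.use 1311 true, .use 1193 false, .use 1210 false]⟩,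
  ⟨[14, 6, 10, 5, 7, 4, 6, 10], [10, 8, 6, 4, 6, 11, 11, 8, 6, 4, 6, 11, 8, 6, 4, 6, 10, 8, 10, 8], [14, 6, 10, 10], [.use 1326 true, .use 16 false]⟩,
  ⟨[14, 6, 10, 8, 14, 6], [4, 10, 8, 6, 4, 6, 11, 11, 8, 6, 4, 6, 11, 8, 6, 4, 6, 10, 8, 10, 8], [14, 6, 10, 8, 15, 6], [.use 1313 true, .use 441 false]⟩,
  ⟨[14, 6, 10, 8, 15, 6], [4, 10, 8, 6, 4, 6, 11, 11, 8, 6, 4, 6, 11, 8, 6, 4, 6, 10, 8, 10, 8], [14, 6, 10, 8, 14, 6], [.use 1328 true, .use 88 false]⟩,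
  ⟨[14, 6, 10, 8, 14, 12], [4, 10, 8, 6, 4, 6, 11, 11, 8, 6, 4, 6, 11, 8, 6, 4, 6, 10, 8, 10, 8], [14, 6, 10, 8, 13, 15], [.use 1313 true, .use 801 false]⟩,
  ⟨[14, 6, 10, 8, 13, 15], [4, 10, 8, 6, 4, 6, 11, 11, 8, 6, 4, 6, 11, 8, 6, 4, 6, 10, 8, 10, 8], [14, 6, 10, 8, 13, 14], [.use 1330 true, .use 254 false]⟩,
  ⟨[14, 6, 10, 8, 14, 11], [4, 10, 8, 6, 4, 6, 11, 11, 8, 6, 4, 6, 11, 8, 6, 4, 6, 10, 8, 10, 8], [14, 6, 10, 8, 15, 11], [.use 1313 true, .use 810 false]⟩,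
  ⟨[14, 6, 10, 8, 15, 11], [4, 10, 8, 6, 4, 6, 11, 11, 8, 6, 4, 6, 11, 8, 6, 4, 6, 10, 8, 10, 8], [14, 6, 10, 8, 14, 11], [.use 1332 true, .use 90 false]⟩,
  ⟨[14, 6, 10, 8, 14, 13], [4, 10, 8, 6, 4, 6, 11, 11, 8, 6, 4, 6, 11, 8, 6, 4, 6, 10, 8, 10, 8], [14, 6, 10, 8, 12, 15], [.use 1313 true, .use 888 true, .cancel 6]⟩,
  ⟨[14, 6, 10, 8, 12, 15], [4, 10, 8, 6, 4, 6, 11, 11, 8, 6, 4, 6, 11, 8, 6, 4, 6, 10, 8, 10, 8], [14, 6, 10, 8, 12, 14], [.use 1334 true, .use 253 true, .cancel 6]⟩,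
  ⟨[14, 6, 10, 13, 14, 10], [4, 10, 8, 6, 4, 6, 11, 11, 8, 6, 4, 6, 11, 8, 6, 4, 6, 10, 8, 10, 8], [14, 6, 10, 15, 12, 10], [.use 1315 true, .use 558 false]⟩,
  ⟨[14, 6, 10, 15, 12, 10], [4, 10, 8, 6, 4, 6, 11, 11, 8, 6, 4, 6, 11, 8, 6, 4, 6, 10, 8, 10, 8], [14, 6, 10, 13, 14, 10], [.use 1336 true, .use 94 false]⟩,
  ⟨[14, 6, 10, 14, 11, 14], [4, 10, 8, 6, 4, 6, 11, 11, 8, 6, 4, 6, 11, 8, 6, 4, 6, 10, 8, 10, 8], [14, 6, 10, 15, 11, 14], [.use 1317 true, .use 515 false]⟩,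
  ⟨[14, 6, 10, 14, 11, 13], [0, 4, 10, 8, 6, 4, 11, 11, 8, 6, 4, 10, 8, 6, 4, 11, 8, 6, 10, 8, 12, 11], [14, 6, 8, 15, 6, 11, 15, 10, 14], [.use 1317 true, .use 1302 false]⟩,
  ⟨[14, 6, 10, 14, 10, 14], [4, 10, 8, 6, 4, 6, 11, 11, 8, 6, 4, 6, 11, 8, 6, 4, 6, 10, 8, 6, 11], [14, 6, 8, 15, 6, 11], [.use 1319 true, .use 601 true, .cancel 6]⟩,
  ⟨[14, 6, 8, 15, 6, 11], [6, 11, 8, 6, 4, 6, 4, 11, 8, 6, 4, 6, 10, 8, 6, 4, 6, 10, 10, 8, 11], [14, 6, 14, 11], [.use 1340 true, .use 509 true, .cancel 4]⟩,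
  ⟨[14, 6, 10, 14, 10, 10], [4, 10, 8, 6, 4, 6, 11, 11, 8, 6, 4, 6, 11, 8, 6, 4, 6, 10, 8, 6, 11], [14, 6, 8, 15, 6, 11, 15, 10], [.use 1319 true, .use 604 false]⟩,
  ⟨[14, 6, 8, 15, 6, 11, 15, 10], [6, 11, 8, 6, 4, 6, 4, 11, 8, 6, 4, 6, 10, 8, 6, 4, 6, 10, 10, 8, 11], [14, 6, 10, 14, 10, 10], [.use 1342 true, .use 98 false]⟩]

/-- Equations. -/
def part21 : List CFact := [
  ⟨[14, 6, 10, 14, 10, 13], [4, 10, 8, 6, 4, 6, 11, 11, 8, 6, 4, 6, 11, 8, 6, 4, 6, 11, 8, 12, 11], [14, 6, 14, 11, 11, 14], [.use 1319 true, .use 972 true, .cancel 6]⟩,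
  ⟨[14, 6, 14, 11, 11, 14], [4, 10, 8, 6, 4, 6, 11, 11, 8, 6, 4, 6, 11, 8, 6, 4, 6, 10, 8, 10, 8], [14, 6, 14, 11, 11, 15], [.use 1344 true, .use 973 true, .cancel 6]⟩,
  ⟨[14, 6, 10, 14, 10, 12], [4, 10, 8, 6, 4, 6, 11, 11, 8, 6, 4, 6, 11, 8, 6, 4, 6, 11, 8, 12, 11], [14, 6, 11, 8, 11, 11, 15, 10, 10, 8], [.use 1319 true, .use 1167 false]⟩,
  ⟨[14, 6, 11, 8, 11, 11, 15, 10, 10, 8], [10, 8, 6, 4, 6, 4, 13, 10, 8, 6, 4, 6, 10, 8, 6, 4, 6, 10, 10, 8, 11], [14, 6, 10, 14, 10, 12], [.use 1346 true, .use 99 false]⟩,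
  ⟨[14, 6, 8], [4, 8, 11, 8, 6, 4, 6, 11, 8, 6, 4, 6, 10, 8, 6, 4, 6, 10, 10, 8, 11], [14, 6, 5, 8], [.use 1321 true, .use 391 false]⟩,
  ⟨[14, 6, 5, 8], [4, 8, 11, 8, 6, 4, 6, 11, 8, 6, 4, 6, 10, 8, 6, 4, 6, 10, 10, 8, 11], [14, 6, 8], [.use 1348 true, .use 4 false]⟩,
  ⟨[14, 6, 11], [4, 8, 11, 8, 6, 4, 6, 11, 8, 6, 4, 6, 10, 8, 6, 4, 6, 10, 10, 8, 11], [14, 6, 11, 5], [.use 1321 true, .use 395 true, .cancel 4]⟩,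
  ⟨[14, 6, 11, 5], [4, 8, 11, 8, 6, 4, 6, 11, 8, 6, 4, 6, 10, 8, 6, 4, 6, 10, 10, 8, 11], [14, 6, 11], [.use 1350 true, .use 6 false]⟩,
  ⟨[14, 6, 15], [4, 10, 8, 6, 4, 6, 11, 11, 8, 6, 4, 6, 11, 8, 6, 4, 6, 10, 8, 10, 8], [14, 6, 14], [.use 1321 true, .use 396 true, .cancel 3]⟩,
  ⟨[14, 6, 8, 15, 6], [6, 11, 8, 6, 4, 6, 4, 11, 8, 6, 4, 6, 10, 8, 6, 4, 6, 10, 10, 8, 11], [14, 6, 14], [.ins 5 14, .use 374 false, .use 1352 false]⟩,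
  ⟨[14, 6, 10, 8, 11], [4, 8, 11, 8, 6, 4, 6, 11, 8, 6, 4, 6, 10, 8, 6, 4, 6, 10, 10, 8, 11], [14, 6, 10, 8, 11, 5], [.use 1323 true, .use 1197 false]⟩,
  ⟨[14, 6, 10, 8, 11, 5], [4, 8, 11, 8, 6, 4, 6, 11, 8, 6, 4, 6, 10, 8, 6, 4, 6, 10, 10, 8, 11], [14, 6, 10, 8, 11], [.use 1354 true, .use 36 false]⟩,
  ⟨[14, 6, 10, 8, 13], [4, 8, 11, 8, 6, 4, 6, 11, 8, 6, 4, 6, 10, 8, 6, 4, 6, 10, 10, 8, 11], [14, 6, 10, 8, 13, 5], [.use 1323 true, .use 1198 false]⟩,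
  ⟨[14, 6, 10, 8, 13, 5], [4, 8, 11, 8, 6, 4, 6, 11, 8, 6, 4, 6, 10, 8, 6, 4, 6, 10, 10, 8, 11], [14, 6, 10, 8, 13], [.use 1356 true, .use 38 false]⟩,
  ⟨[14, 6, 10, 8, 12], [10, 8, 6, 4, 6, 13, 10, 8, 6, 4, 6, 10, 8, 6, 4, 6, 10, 10, 8, 11], [14, 6, 10, 5, 7, 4, 6, 10, 9], [.use 1323 true, .use 1273 false]⟩,
  ⟨[14, 6, 10, 5, 7, 4, 6, 10, 9], [10, 8, 6, 4, 6, 11, 11, 8, 6, 4, 6, 11, 8, 6, 4, 6, 11, 8, 12, 11], [14, 6, 10, 8, 12], [.use 1358 true, .use 37 false]⟩,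
  ⟨[14, 6, 10, 13, 11], [4, 8, 11, 8, 6, 4, 6, 11, 8, 6, 4, 6, 10, 8, 6, 4, 6, 10, 10, 8, 11], [14, 6, 11, 13, 5], [.use 1325 true, .use 892 true, .cancel 5]⟩,
  ⟨[14, 6, 11, 13, 5], [4, 8, 11, 8, 6, 4, 6, 11, 8, 6, 4, 6, 10, 8, 6, 4, 6, 10, 10, 8, 11], [14, 6, 11, 13], [.use 1360 true, .use 148 true, .cancel 4]⟩,
  ⟨[14, 6, 10, 13, 10], [10, 8, 6, 4, 6, 4, 11, 11, 8, 6, 4, 6, 11, 8, 6, 4, 6, 11, 8, 12, 11], [14, 6, 11, 11, 5], [.use 1325 true, .use 893 false]⟩,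
  ⟨[14, 6, 11, 11, 5], [4, 8, 11, 8, 6, 4, 6, 11, 8, 6, 4, 6, 10, 8, 6, 4, 6, 10, 10, 8, 11], [14, 6, 11, 11], [.use 1362 true, .use 204 false]⟩,
  ⟨[14, 6, 10, 10, 15], [4, 10, 8, 6, 4, 6, 11, 11, 8, 6, 4, 6, 11, 8, 6, 4, 6, 10, 8, 10, 8], [14, 6, 10, 10, 14], [.use 1327 true, .use 1211 false]⟩,
  ⟨[14, 6, 10, 8, 14, 6, 14], [8, 11, 8, 6, 4, 6, 4, 11, 8, 6, 4, 6, 10, 8, 6, 4, 6, 10, 10, 8], [14, 6, 11, 8, 14, 6], [.use 1329 true, .use 442 false]⟩,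
  ⟨[14, 6, 10, 8, 14, 6, 13], [4, 10, 8, 6, 4, 6, 11, 11, 8, 6, 4, 6, 11, 8, 6, 4, 6, 10, 8, 10, 8], [14, 6, 10, 8, 12, 15, 6], [.use 1329 true, .use 1169 true, .cancel 7]⟩,
  ⟨[14, 6, 10, 8, 12, 15, 6], [0, 8, 11, 8, 6, 4, 6, 11, 8, 6, 4, 6, 10, 8, 6, 4, 6, 10, 10, 8], [14, 6, 11, 8, 13, 15, 6, 14], [.use 1366 true, .use 1073 true, .cancel 8]⟩,
  ⟨[14, 6, 10, 8, 13, 14, 10], [4, 10, 8, 6, 4, 6, 11, 11, 8, 6, 4, 6, 11, 8, 6, 4, 6, 10, 8, 10, 8], [14, 6, 10, 8, 13, 15, 10], [.use 1331 true, .use 750 false]⟩,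
  ⟨[14, 6, 10, 8, 14, 11, 14], [4, 10, 8, 6, 4, 6, 11, 11, 8, 6, 4, 6, 11, 8, 6, 4, 6, 10, 8, 10, 8], [14, 6, 10, 8, 15, 11, 14], [.use 1333 true, .use 811 false]⟩,
  ⟨[14, 6, 10, 14, 10, 10, 14], [4, 10, 8, 6, 4, 6, 11, 11, 8, 6, 4, 6, 11, 8, 6, 4, 6, 10, 8, 6, 11], [14, 6, 8, 15, 6, 11, 15, 10, 14], [.use 1343 true, .use 605 false]⟩,
  ⟨[14, 6, 14, 11, 11, 15, 15], [4, 10, 8, 6, 4, 6, 11, 11, 8, 6, 4, 6, 11, 8, 6, 4, 6, 10, 8, 10, 8], [14, 6, 14, 11, 11], [.use 1345 true, .use 777 true, .cancel 5]⟩,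
  ⟨[14, 6, 14, 11, 11, 15, 10], [4, 10, 8, 6, 4, 6, 11, 11, 8, 6, 4, 6, 11, 8, 6, 4, 6, 10, 8, 10, 8], [14, 6, 14, 11, 11, 14, 10], [.use 1345 true, .use 778 false]⟩,
  ⟨[14, 6, 14, 11, 11, 14, 10], [4, 10, 8, 6, 4, 6, 11, 11, 8, 6, 4, 6, 11, 8, 6, 4, 6, 10, 8, 10, 8], [14, 6, 14, 11, 11, 15, 10], [.use 1372 true, .use 599 false]⟩,
  ⟨[14, 6, 14, 11, 11, 15, 11], [4, 10, 8, 6, 4, 6, 11, 11, 8, 6, 4, 6, 11, 8, 6, 4, 6, 10, 8, 6, 11], [14, 6, 8, 15, 6, 11, 15, 10, 14], [.use 1345 true, .use 1126 false]⟩,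
  ⟨[14, 6, 10, 14, 10, 12, 9], [4, 10, 8, 6, 4, 6, 11, 11, 8, 6, 4, 6, 11, 8, 6, 4, 6, 11, 8, 12, 11], [14, 6, 11, 8, 11, 11, 15, 10, 10], [.use 1347 true, .use 557 true, .cancel 9]⟩,
  ⟨[14, 6, 10, 14, 10, 12, 8], [4, 10, 8, 6, 4, 6, 11, 11, 8, 6, 4, 6, 11, 8, 6, 4, 6, 11, 8, 12, 11], [14, 6, 11, 8, 11, 11, 15, 10, 10], [.use 1347 true, .use 852 false]⟩,
  ⟨[14, 6, 10, 14, 10, 12, 15], [4, 10, 8, 6, 4, 6, 11, 11, 8, 6, 4, 6, 11, 8, 6, 4, 6, 10, 8, 10, 8], [14, 6, 14, 11, 13], [.use 1347 true, .use 1168 true, .cancel 5]⟩,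
  ⟨[14, 6, 8, 11], [4, 8, 11, 8, 6, 4, 6, 11, 8, 6, 4, 6, 10, 8, 6, 4, 6, 10, 10, 8, 11], [14, 6, 8, 11, 5], [.use 1349 true, .use 450 true, .cancel 5]⟩,
  ⟨[14, 6, 8, 11, 5], [4, 8, 11, 8, 6, 4, 6, 11, 8, 6, 4, 6, 10, 8, 6, 4, 6, 10, 10, 8, 11], [14, 6, 8, 11], [.use 1378 true, .use 13 false]⟩,
  ⟨[14, 6, 8, 15], [4, 10, 8, 6, 4, 6, 11, 11, 8, 6, 4, 6, 11, 8, 6, 4, 6, 10, 8, 10, 8], [14, 6, 8, 14], [.use 1349 true, .use 454 true, .cancel 4]⟩,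
  ⟨[14, 6, 8, 15], [4, 10, 8, 6, 4, 6, 11, 11, 8, 6, 4, 6, 11, 8, 6, 4, 6, 10, 8, 10, 8], [14, 6, 8, 14], [.use 372 true, .use 1380 false]⟩,
  ⟨[14, 6, 8, 10], [4, 8, 11, 8, 6, 4, 6, 11, 8, 6, 4, 6, 10, 8, 6, 4, 6, 10, 10, 8, 11], [14, 6, 8, 10, 4], [.use 1349 true, .use 682 false]⟩,
  ⟨[14, 6, 8, 10, 4], [4, 8, 11, 8, 6, 4, 6, 11, 8, 6, 4, 6, 10, 8, 6, 4, 6, 10, 10, 8, 11], [14, 6, 8, 10], [.use 1382 true, .use 12 false]⟩,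
  ⟨[14, 6, 11, 15], [4, 10, 8, 6, 4, 6, 11, 11, 8, 6, 4, 6, 11, 8, 6, 4, 6, 10, 8, 10, 8], [14, 6, 11, 14], [.use 1351 true, .use 405 false, .use 541 false]⟩,
  ⟨[14, 6, 11, 14, 10, 10, 6], [6, 10, 8, 6, 4, 6, 10, 10, 8, 6, 4, 6, 10, 8, 10], [14, 6, 11, 14], [.use 1227 true, .use 505 true, .use 1384 false]⟩,
  ⟨[14, 6, 11, 8], [4, 8, 11, 8, 6, 4, 6, 11, 8, 6, 4, 6, 10, 8, 6, 4, 6, 10, 10, 8, 11], [14, 6, 11, 5, 8], [.use 1351 true, .use 529 false]⟩,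
  ⟨[14, 6, 11, 5, 8], [4, 8, 11, 8, 6, 4, 6, 11, 8, 6, 4, 6, 10, 8, 6, 4, 6, 10, 10, 8, 11], [14, 6, 11, 8], [.use 1386 true, .use 19 false]⟩,
  ⟨[14, 6, 10, 8, 11, 15], [4, 10, 8, 6, 4, 6, 11, 11, 8, 6, 4, 6, 11, 8, 6, 4, 6, 10, 8, 10, 8], [14, 6, 10, 8, 11, 14], [.use 1355 true, .use 803 false, .use 1055 false]⟩,
  ⟨[14, 6, 11, 13, 15], [4, 10, 8, 6, 4, 6, 11, 11, 8, 6, 4, 6, 11, 8, 6, 4, 6, 10, 8, 10, 8], [14, 6, 11, 13, 14], [.use 1361 true, .use 937 true, .cancel 5]⟩,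
  ⟨[14, 6, 11, 13, 15], [4, 10, 8, 6, 4, 6, 11, 11, 8, 6, 4, 6, 11, 8, 6, 4, 6, 10, 8, 10, 8], [14, 6, 11, 13, 14], [.use 365 true, .use 1389 false]⟩,
  ⟨[14, 6, 11, 11, 15], [4, 10, 8, 6, 4, 6, 11, 11, 8, 6, 4, 6, 11, 8, 6, 4, 6, 10, 8, 10, 8], [14, 6, 11, 11, 14], [.use 1363 true, .use 560 false, .use 920 false]⟩,
  ⟨[14, 6, 11, 11, 15], [4, 10, 8, 6, 4, 6, 11, 11, 8, 6, 4, 6, 11, 8, 6, 4, 6, 10, 8, 10, 8], [14, 6, 11, 11, 14], [.use 402 true, .use 1391 false]⟩,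
  ⟨[14, 6, 14, 11, 11, 15, 10, 10], [4, 10, 8, 6, 4, 6, 11, 11, 8, 6, 4, 6, 11, 8, 6, 4, 6, 10, 8, 10, 8], [14, 6, 14, 11, 11, 14, 10, 10], [.use 1373 true, .use 779 false]⟩,
  ⟨[14, 6, 14, 11, 11, 14, 10, 10], [4, 10, 8, 6, 4, 6, 11, 11, 8, 6, 4, 6, 11, 8, 6, 4, 6, 10, 8, 10, 8], [14, 6, 8, 14, 11, 11, 15, 10, 10, 8], [.use 1393 true, .use 600 false]⟩,
  ⟨[14, 6, 8, 11, 15], [4, 10, 8, 6, 4, 6, 11, 11, 8, 6, 4, 6, 11, 8, 6, 4, 6, 10, 8, 10, 8], [14, 6, 8, 11, 14], [.use 1379 true, .use 458 false, .use 734 false]⟩,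
  ⟨[14, 6, 8, 11, 15], [4, 10, 8, 6, 4, 6, 11, 11, 8, 6, 4, 6, 11, 8, 6, 4, 6, 10, 8, 10, 8], [14, 6, 8, 11, 14], [.use 709 true, .use 1395 false]⟩,
  ⟨[14, 6, 8, 11, 8], [4, 8, 11, 8, 6, 4, 6, 11, 8, 6, 4, 6, 10, 8, 6, 4, 6, 10, 10, 8, 11], [14, 6, 8, 11, 5, 8], [.use 1379 true, .use 725 false]⟩,
  ⟨[14, 6, 8, 11, 5, 8], [4, 8, 11, 8, 6, 4, 6, 11, 8, 6, 4, 6, 10, 8, 6, 4, 6, 10, 10, 8, 11], [14, 6, 8, 11, 8], [.use 1397 true, .use 29 false]⟩,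
  ⟨[14, 6, 8, 11, 11], [4, 8, 11, 8, 6, 4, 6, 11, 8, 6, 4, 6, 10, 8, 6, 4, 6, 10, 10, 8, 11], [14, 6, 8, 11, 11, 5], [.use 1379 true, .use 729 true, .cancel 6]⟩,
  ⟨[14, 6, 8, 11, 11, 5], [4, 8, 11, 8, 6, 4, 6, 11, 8, 6, 4, 6, 10, 8, 6, 4, 6, 10, 10, 8, 11], [14, 6, 8, 11, 11], [.use 1399 true, .use 30 false]⟩,
  ⟨[14, 6, 8, 11, 13], [4, 8, 11, 8, 6, 4, 6, 11, 8, 6, 4, 6, 10, 8, 6, 4, 6, 10, 10, 8, 11], [14, 6, 8, 11, 13, 5], [.use 1379 true, .use 732 true, .cancel 6]⟩,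
  ⟨[14, 6, 8, 11, 13, 5], [4, 8, 11, 8, 6, 4, 6, 11, 8, 6, 4, 6, 10, 8, 6, 4, 6, 10, 10, 8, 11], [14, 6, 8, 11, 13], [.use 1401 true, .use 31 false]⟩,
  ⟨[14, 6, 8, 14, 11], [4, 10, 8, 6, 4, 6, 11, 11, 8, 6, 4, 6, 11, 8, 6, 4, 6, 10, 8, 10, 8], [14, 6, 8, 15, 11], [.use 1381 true, .use 465 false]⟩,
  ⟨[14, 6, 8, 15, 11], [4, 10, 8, 6, 4, 6, 11, 11, 8, 6, 4, 6, 11, 8, 6, 4, 6, 10, 8, 10, 8], [14, 6, 8, 14, 11], [.use 1403 true, .use 34 false]⟩,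
  ⟨[14, 6, 8, 10, 8], [4, 8, 11, 8, 6, 4, 6, 11, 8, 6, 4, 6, 10, 8, 6, 4, 6, 10, 10, 8, 11], [14, 6, 8, 10, 4, 8], [.use 1383 true, .use 672 false]⟩,
  ⟨[14, 6, 8, 10, 4, 8], [4, 8, 11, 8, 6, 4, 6, 11, 8, 6, 4, 6, 10, 8, 6, 4, 6, 10, 10, 8, 11], [14, 6, 8, 10, 8], [.use 1405 true, .use 25 false]⟩,
  ⟨[14, 6, 8, 10, 13], [4, 8, 11, 8, 6, 4, 6, 11, 8, 6, 4, 6, 10, 8, 6, 4, 6, 10, 10, 8, 11], [14, 6, 8, 10, 13, 5], [.use 1383 true, .use 687 true, .cancel 6]⟩]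

/-- Equations. -/
def part22 : List CFact := [
  ⟨[14, 6, 8, 10, 13, 5], [4, 8, 11, 8, 6, 4, 6, 11, 8, 6, 4, 6, 10, 8, 6, 4, 6, 10, 10, 8, 11], [14, 6, 8, 10, 13], [.use 1407 true, .use 27 false]⟩,
  ⟨[14, 6, 8, 10, 15], [4, 10, 8, 6, 4, 6, 11, 11, 8, 6, 4, 6, 11, 8, 6, 4, 6, 10, 8, 10, 8], [14, 6, 8, 10, 14], [.use 1383 true, .use 690 true, .cancel 5]⟩,
  ⟨[14, 6, 8, 10, 15], [4, 10, 8, 6, 4, 6, 11, 11, 8, 6, 4, 6, 11, 8, 6, 4, 6, 10, 8, 10, 8], [14, 6, 8, 10, 14], [.use 691 true, .use 1409 false]⟩,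
  ⟨[14, 6, 11, 14, 7], [6, 10, 8, 6, 4, 6, 10, 10, 8, 6, 4, 6, 10, 8, 10], [14, 6, 11, 14, 10, 10], [.use 1385 true, .use 418 true, .cancel 6]⟩,
  ⟨[14, 6, 11, 14, 6], [6, 10, 8, 6, 4, 6, 10, 10, 8, 6, 4, 6, 10, 8, 10], [14, 6, 11, 14, 10, 10], [.ins 5 6, .use 944 false, .use 1411 false]⟩,
  ⟨[14, 6, 11, 14, 11], [6, 10, 8, 6, 4, 6, 10, 10, 8, 6, 4, 6, 10, 8, 10], [14, 6, 11, 14, 10, 10, 6, 11], [.use 1385 true, .use 419 false]⟩,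
  ⟨[14, 6, 11, 14, 10, 10, 6, 11], [6, 10, 8, 6, 4, 6, 10, 10, 8, 6, 4, 6, 10, 8, 10], [14, 6, 11, 14, 11], [.use 1413 true, .use 51 false]⟩,
  ⟨[14, 6, 11, 14, 9], [4, 10, 8, 6, 4, 6, 11, 11, 8, 6, 4, 6, 11, 8, 6, 4, 6, 10, 8, 10, 8], [14, 6, 11, 8, 15], [.use 1385 true, .use 1229 false]⟩,
  ⟨[14, 6, 11, 8, 15], [4, 10, 8, 6, 4, 6, 11, 11, 8, 6, 4, 6, 11, 8, 6, 4, 6, 10, 8, 10, 8], [14, 6, 11, 8, 14], [.use 1415 true, .use 214 true, .cancel 5]⟩,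
  ⟨[14, 6, 11, 13, 14, 10], [6, 10, 8, 6, 4, 6, 10, 10, 8, 6, 4, 6, 10, 8, 10], [14, 6, 11, 13, 14, 10, 10, 6, 11], [.use 1390 true, .use 366 false]⟩,
  ⟨[14, 6, 11, 13, 14, 10, 10, 6, 11], [6, 10, 8, 6, 4, 6, 10, 10, 8, 6, 4, 6, 10, 8, 10], [14, 6, 11, 13, 14, 10], [.use 1417 true, .use 361 false]⟩,
  ⟨[14, 6, 11, 13, 14, 9], [4, 10, 8, 6, 4, 6, 11, 11, 8, 6, 4, 6, 11, 8, 6, 4, 6, 10, 8, 10, 8], [14, 6, 11, 8, 13, 15], [.use 1390 true, .use 942 false]⟩,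
  ⟨[14, 6, 11, 8, 13, 15], [4, 10, 8, 6, 4, 6, 11, 11, 8, 6, 4, 6, 11, 8, 6, 4, 6, 10, 8, 10, 8], [14, 6, 11, 8, 13, 14], [.use 1419 true, .use 275 true, .cancel 6]⟩,
  ⟨[14, 6, 11, 11, 14, 10], [4, 10, 8, 6, 4, 6, 11, 11, 8, 6, 4, 6, 11, 8, 6, 4, 6, 10, 8, 10, 8], [14, 6, 11, 11, 15, 10], [.use 1392 true, .use 403 false]⟩,
  ⟨[14, 6, 11, 11, 15, 10], [4, 10, 8, 6, 4, 6, 11, 11, 8, 6, 4, 6, 11, 8, 6, 4, 6, 10, 8, 10, 8], [14, 6, 11, 11, 14, 10], [.use 1421 true, .use 375 false]⟩,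
  ⟨[14, 6, 11, 11, 14, 9], [4, 10, 8, 6, 4, 6, 11, 11, 8, 6, 4, 6, 11, 8, 6, 4, 6, 11, 8, 12, 11], [14, 6, 11, 8, 12, 15], [.use 1392 true, .use 933 false]⟩,
  ⟨[14, 6, 10, 8, 13, 15, 6, 14, 6], [11, 11, 8, 6, 4, 6, 4, 10, 8, 6, 4, 6, 10, 8, 6, 4, 6, 10, 10, 8, 11], [14, 6, 11, 8, 12, 15], [.use 654 true, .use 1423 false]⟩,
  ⟨[14, 6, 11, 11, 14, 11], [4, 8, 11, 8, 6, 4, 6, 11, 8, 6, 4, 6, 10, 8, 6, 4, 6, 10, 10, 8, 11], [14, 6, 11, 5, 15, 10, 15], [.use 1392 true, .use 1251 false]⟩,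
  ⟨[14, 6, 11, 5, 15, 10, 15], [4, 10, 8, 6, 4, 6, 11, 11, 8, 6, 4, 6, 11, 8, 6, 4, 6, 10, 8, 10, 8], [14, 6, 11, 5, 15, 10, 14], [.use 1425 true, .use 921 false]⟩,
  ⟨[14, 6, 8, 14, 11, 11, 15, 10, 10, 8, 6], [4, 10, 8, 6, 4, 6, 11, 11, 8, 6, 4, 6, 11, 8, 6, 4, 6, 10, 8, 10, 8], [14, 6, 14, 11, 11, 14, 10, 10, 6], [.use 1394 true, .use 780 false]⟩,
  ⟨[14, 6, 8, 14, 11, 11, 15, 10, 10, 8, 8], [4, 10, 8, 6, 4, 6, 11, 11, 8, 6, 4, 6, 11, 8, 6, 4, 6, 10, 8, 10, 8], [14, 6, 8, 14, 11, 11, 14, 10, 10], [.use 1394 true, .use 855 true, .cancel 9]⟩,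
  ⟨[14, 6, 8, 14, 11, 11, 14, 10, 10], [4, 10, 8, 6, 4, 6, 11, 11, 8, 6, 4, 6, 11, 8, 6, 4, 6, 10, 8, 10, 8], [14, 6, 8, 14, 11, 11, 15, 10, 10], [.use 1428 true, .use 770 false]⟩,
  ⟨[14, 6, 8, 11, 14, 10], [4, 10, 8, 6, 4, 6, 11, 11, 8, 6, 4, 6, 11, 8, 6, 4, 6, 10, 8, 10, 8], [14, 6, 8, 11, 15, 10], [.use 1396 true, .use 710 false]⟩,
  ⟨[14, 6, 8, 11, 15, 10], [4, 10, 8, 6, 4, 6, 11, 11, 8, 6, 4, 6, 11, 8, 6, 4, 6, 10, 8, 10, 8], [14, 6, 8, 11, 14, 10], [.use 1430 true, .use 70 false]⟩,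
  ⟨[14, 6, 8, 11, 14, 9], [4, 10, 8, 6, 4, 6, 11, 11, 8, 6, 4, 6, 11, 8, 6, 4, 6, 10, 8, 10, 8], [14, 6, 8, 11, 8, 15], [.use 1396 true, .use 741 false]⟩,
  ⟨[14, 6, 8, 11, 14, 7], [4, 10, 8, 6, 4, 6, 11, 11, 8, 6, 4, 6, 11, 8, 6, 4, 6, 10, 8, 10, 8], [14, 6, 8, 11, 15, 7], [.use 1396 true, .use 746 false]⟩,
  ⟨[14, 6, 8, 11, 15, 7], [4, 10, 8, 6, 4, 6, 11, 11, 8, 6, 4, 6, 11, 8, 6, 4, 6, 10, 8, 10, 8], [14, 6, 8, 11, 14, 6], [.use 1433 true, .use 299 true, .cancel 6]⟩,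
  ⟨[14, 6, 8, 11, 14, 12], [4, 10, 8, 6, 4, 6, 11, 11, 8, 6, 4, 6, 11, 8, 6, 4, 6, 10, 8, 10, 8], [14, 6, 8, 11, 15, 12], [.use 1396 true, .use 748 false]⟩,
  ⟨[14, 6, 8, 11, 14, 11], [4, 10, 8, 6, 4, 6, 11, 11, 8, 6, 4, 6, 11, 8, 6, 4, 6, 10, 8, 10, 8], [14, 6, 8, 11, 15, 11], [.use 1396 true, .use 760 false]⟩,
  ⟨[14, 6, 8, 11, 15, 11], [4, 8, 11, 8, 6, 4, 6, 11, 8, 6, 4, 6, 10, 8, 6, 4, 6, 10, 10, 8, 11], [14, 6, 8, 11, 5, 15, 11], [.use 1436 true, .use 735 false]⟩,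
  ⟨[14, 6, 8, 11, 14, 8], [4, 10, 8, 6, 4, 6, 11, 11, 8, 6, 4, 6, 11, 8, 6, 4, 6, 10, 8, 10, 8], [14, 6, 8, 11, 8, 15], [.use 1396 true, .use 875 true, .cancel 6]⟩,
  ⟨[14, 6, 8, 11, 14, 13], [10, 8, 6, 4, 6, 4, 13, 10, 8, 6, 4, 6, 10, 8, 6, 4, 6, 10, 10, 8, 11], [14, 6, 8, 11, 11, 15], [.use 1396 true, .use 877 true, .cancel 6]⟩,
  ⟨[14, 6, 8, 11, 11, 14], [4, 10, 8, 6, 4, 6, 11, 11, 8, 6, 4, 6, 11, 8, 6, 4, 6, 10, 8, 10, 8], [14, 6, 8, 11, 11, 15], [.ins 6 12, .use 876 false, .use 1439 false]⟩,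
  ⟨[14, 6, 8, 11, 8, 14], [4, 10, 8, 6, 4, 6, 11, 11, 8, 6, 4, 6, 11, 8, 6, 4, 6, 10, 8, 10, 8], [14, 6, 8, 11, 8, 15], [.use 1398 true, .use 1295 false]⟩,
  ⟨[14, 6, 8, 11, 13, 14], [4, 10, 8, 6, 4, 6, 11, 11, 8, 6, 4, 6, 11, 8, 6, 4, 6, 10, 8, 10, 8], [14, 6, 8, 11, 15, 12], [.use 1402 true, .use 1219 false]⟩,
  ⟨[14, 6, 8, 14, 11, 14], [4, 10, 8, 6, 4, 6, 11, 11, 8, 6, 4, 6, 11, 8, 6, 4, 6, 10, 8, 10, 8], [14, 6, 8, 10, 14, 10], [.use 1404 true, .use 466 false, .use 1035 false]⟩,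
  ⟨[14, 6, 8, 15, 11, 15], [4, 10, 8, 6, 4, 6, 11, 11, 8, 6, 4, 6, 11, 8, 6, 4, 6, 10, 8, 10, 8], [14, 6, 8, 10, 14, 10], [.use 1033 true, .use 1443 false]⟩,
  ⟨[14, 6, 8, 10, 13, 15], [4, 10, 8, 6, 4, 6, 11, 11, 8, 6, 4, 6, 11, 8, 6, 4, 6, 10, 8, 10, 8], [14, 6, 8, 10, 13, 14], [.use 1408 true, .use 987 true, .cancel 6]⟩,
  ⟨[14, 6, 8, 10, 13, 14], [4, 10, 8, 6, 4, 6, 11, 11, 8, 6, 4, 6, 11, 8, 6, 4, 6, 10, 8, 10, 8], [14, 6, 8, 10, 15, 12], [.use 1445 true, .use 704 true, .cancel 6]⟩,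
  ⟨[14, 6, 8, 10, 14, 9], [4, 10, 8, 6, 4, 6, 11, 11, 8, 6, 4, 6, 11, 8, 6, 4, 6, 10, 8, 10, 8], [14, 6, 8, 10, 15, 9], [.use 1410 true, .use 694 false]⟩,
  ⟨[14, 6, 8, 10, 14, 7], [4, 10, 8, 6, 4, 6, 11, 11, 8, 6, 4, 6, 11, 8, 6, 4, 6, 10, 8, 10, 8], [14, 6, 8, 10, 15, 7], [.use 1410 true, .use 700 false]⟩,
  ⟨[14, 6, 8, 10, 15, 7], [4, 10, 8, 6, 4, 6, 11, 11, 8, 6, 4, 6, 11, 8, 6, 4, 6, 10, 8, 10, 8], [14, 6, 8, 10, 14, 6], [.use 1448 true, .use 295 true, .cancel 6]⟩,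
  ⟨[14, 6, 8, 10, 14, 11], [4, 10, 8, 6, 4, 6, 11, 11, 8, 6, 4, 6, 11, 8, 6, 4, 6, 10, 8, 10, 8], [14, 6, 8, 10, 15, 11], [.use 1410 true, .use 715 false]⟩,
  ⟨[14, 6, 8, 10, 15, 11], [4, 10, 8, 6, 4, 6, 11, 11, 8, 6, 4, 6, 11, 8, 6, 4, 6, 10, 8, 10, 8], [14, 6, 8, 10, 14, 11], [.use 1450 true, .use 64 false]⟩,
  ⟨[14, 6, 8, 10, 14, 8], [4, 10, 8, 6, 4, 6, 11, 11, 8, 6, 4, 6, 11, 8, 6, 4, 6, 10, 8, 10, 8], [14, 6, 8, 10, 15, 9], [.use 1410 true, .use 867 true, .cancel 6]⟩,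
  ⟨[14, 6, 11, 14, 10, 10, 8], [6, 10, 8, 6, 4, 6, 10, 10, 8, 6, 4, 6, 10, 8, 10], [14, 6, 11, 14, 6, 8], [.use 1412 true, .use 496 false]⟩,
  ⟨[14, 6, 10, 8, 11, 11, 14, 10, 10], [6, 10, 8, 6, 4, 6, 10, 10, 8, 6, 4, 6, 10, 8, 10], [14, 6, 11, 14, 6, 8], [.ins 9 9, .use 816 false, .use 1453 false]⟩,
  ⟨[14, 6, 11, 14, 10, 10, 15], [6, 4, 11, 8, 6, 4, 6, 8, 11, 8, 11, 8], [14, 6, 10, 14, 6, 8], [.use 1412 true, .use 1260 true, .cancel 6]⟩,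
  ⟨[14, 6, 11, 14, 11, 11], [6, 10, 8, 6, 4, 6, 10, 10, 8, 6, 4, 6, 10, 8, 10], [14, 6, 11, 14, 10, 10, 6, 11, 11], [.use 1414 true, .use 443 false]⟩,
  ⟨[14, 6, 11, 5, 15, 11, 11], [0, 6, 10, 8, 6, 4, 6, 10, 10, 8, 6, 4, 6, 10, 8, 10], [14, 6, 11, 14, 10, 10, 6, 11, 11], [.use 547 true, .use 1456 false]⟩,
  ⟨[14, 6, 11, 14, 11, 14], [4, 10, 8, 6, 4, 6, 11, 11, 8, 6, 4, 6, 11, 8, 6, 4, 6, 10, 8, 10, 8], [14, 6, 14, 10], [.use 1414 true, .use 1235 false, .use 1267 false]⟩,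
  ⟨[14, 6, 11, 14, 11, 13], [4, 10, 8, 6, 4, 6, 11, 11, 8, 6, 4, 6, 11, 8, 6, 4, 6, 11, 8, 12, 11], [14, 6, 11, 15, 11, 14, 10, 15], [.use 1414 true, .use 1272 true, .cancel 8]⟩,
  ⟨[14, 6, 11, 8, 14, 6], [4, 10, 8, 6, 4, 6, 11, 11, 8, 6, 4, 6, 11, 8, 6, 4, 6, 10, 8, 10, 8], [14, 6, 11, 8, 15, 6], [.use 1416 true, .use 429 false]⟩,
  ⟨[14, 6, 11, 8, 15, 6], [4, 10, 8, 6, 4, 6, 11, 11, 8, 6, 4, 6, 11, 8, 6, 4, 6, 10, 8, 10, 8], [14, 6, 11, 8, 14, 6], [.use 1460 true, .use 108 false]⟩,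
  ⟨[14, 6, 11, 13, 14, 10, 15], [4, 10, 8, 6, 4, 6, 11, 11, 8, 6, 4, 6, 11, 8, 6, 4, 6, 11, 8, 12, 11], [14, 6, 10, 10, 14, 11], [.use 1418 true, .use 1157 true, .cancel 6]⟩,
  ⟨[14, 6, 11, 13, 14, 10, 12], [10, 8, 6, 4, 6, 4, 13, 10, 8, 6, 4, 6, 10, 8, 6, 4, 6, 10, 10, 8, 11], [14, 6, 8, 11, 11, 15, 10, 10, 8], [.use 1418 true, .use 1180 false]⟩,
  ⟨[14, 6, 8, 11, 11, 15, 10, 10, 8], [4, 10, 8, 6, 4, 6, 11, 11, 8, 6, 4, 6, 11, 8, 6, 4, 6, 10, 8, 10, 8], [14, 6, 11, 11, 14, 10, 10], [.use 1463 true, .use 1120 false]⟩,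
  ⟨[14, 6, 11, 8, 13, 14, 14], [4, 10, 8, 6, 4, 6, 11, 11, 8, 6, 4, 6, 11, 8, 6, 4, 6, 10, 8, 10, 8], [14, 6, 11, 8, 13], [.use 1420 true, .use 627 true, .cancel 5]⟩,
  ⟨[14, 6, 11, 8, 13, 14, 6], [4, 10, 8, 6, 4, 6, 11, 11, 8, 6, 4, 6, 11, 8, 6, 4, 6, 10, 8, 10, 8], [14, 6, 11, 8, 13, 15, 6], [.use 1420 true, .use 628 false]⟩,
  ⟨[14, 6, 10, 8, 12, 15, 6, 14], [11, 11, 8, 6, 4, 6, 4, 10, 8, 6, 4, 6, 10, 8, 6, 4, 6, 10, 10, 8, 11], [14, 6, 11, 8, 13, 15, 6], [.use 1115 true, .use 1466 false]⟩,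
  ⟨[14, 6, 11, 11, 14, 10, 15], [10, 8, 6, 4, 6, 4, 13, 10, 8, 6, 4, 6, 10, 8, 6, 4, 6, 10, 10, 8, 11], [14, 6, 10, 13, 14, 11], [.use 1422 true, .use 1160 true, .cancel 6]⟩,
  ⟨[14, 6, 11, 8, 12, 15, 7], [4, 10, 8, 6, 4, 6, 11, 11, 8, 6, 4, 6, 11, 8, 6, 4, 6, 11, 8, 10, 10], [14, 6, 10, 8, 13, 15, 6, 14], [.use 1424 true, .use 653 true, .cancel 8]⟩,
  ⟨[14, 6, 10, 8, 13, 15, 6, 14], [11, 11, 8, 6, 4, 6, 4, 10, 8, 6, 4, 6, 10, 8, 6, 4, 6, 10, 10, 8, 11], [14, 6, 11, 8, 12, 15, 6], [.use 1469 true, .use 1279 false]⟩,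
  ⟨[14, 6, 11, 8, 12, 15, 15], [4, 10, 8, 6, 4, 6, 11, 11, 8, 6, 4, 6, 11, 8, 6, 4, 6, 10, 8, 10, 8], [14, 6, 11, 8, 12], [.use 1424 true, .use 934 true, .cancel 5]⟩]

/-- Equations. -/
def part23 : List CFact := [
  ⟨[14, 6, 11, 5, 15, 10, 14, 11], [4, 10, 8, 6, 4, 6, 11, 11, 8, 6, 4, 6, 11, 8, 6, 4, 6, 10, 8, 10, 8], [14, 6, 11, 5, 15, 10, 15, 11], [.use 1426 true, .use 608 false]⟩,
  ⟨[14, 6, 11, 5, 15, 10, 15, 11], [4, 10, 8, 6, 4, 6, 11, 11, 8, 6, 4, 6, 11, 8, 6, 4, 6, 10, 8, 10, 8], [14, 6, 11, 5, 15, 10, 14, 11], [.use 1472 true, .use 410 false]⟩,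
  ⟨[14, 6, 8, 14, 11, 11, 15, 10, 10, 11], [4, 10, 8, 6, 4, 6, 11, 11, 8, 6, 4, 6, 11, 8, 6, 4, 6, 10, 8, 10, 8], [14, 6, 8, 14, 11, 11, 14, 10], [.use 1429 true, .use 612 true, .cancel 8]⟩,
  ⟨[14, 6, 8, 14, 11, 11, 14, 10], [4, 10, 8, 6, 4, 6, 11, 11, 8, 6, 4, 6, 11, 8, 6, 4, 6, 10, 8, 10, 8], [14, 6, 8, 14, 11, 11, 15, 10], [.use 1474 true, .use 596 true, .cancel 8]⟩,
  ⟨[14, 6, 8, 14, 11, 11, 15, 10, 10, 6], [4, 10, 8, 6, 4, 6, 11, 11, 8, 6, 4, 6, 11, 8, 6, 4, 6, 10, 8, 10, 8], [14, 6, 8, 14, 11, 11, 14, 10, 10, 6], [.use 1429 true, .use 613 false]⟩,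
  ⟨[14, 6, 8, 11, 14, 10, 10], [4, 10, 8, 6, 4, 6, 11, 11, 8, 6, 4, 6, 11, 8, 6, 4, 6, 11, 8, 12, 11], [14, 6, 11, 8, 12, 10, 15, 10, 10, 8], [.use 1431 true, .use 711 false]⟩,
  ⟨[14, 6, 8, 11, 14, 10, 10], [4, 10, 8, 6, 4, 6, 11, 11, 8, 6, 4, 6, 11, 8, 6, 4, 6, 11, 8, 12, 11], [14, 6, 11, 8, 12, 10, 15, 10, 10, 8], [.use 764 true, .use 1477 false]⟩,
  ⟨[14, 6, 8, 11, 14, 10, 15], [4, 8, 11, 8, 6, 4, 6, 11, 8, 6, 4, 6, 10, 8, 6, 4, 6, 10, 10, 8, 11], [14, 6, 8, 11, 5, 15, 10, 14], [.use 1431 true, .use 1143 true, .cancel 8]⟩,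
  ⟨[14, 6, 8, 11, 14, 10, 15], [4, 8, 11, 8, 6, 4, 6, 11, 8, 6, 4, 6, 10, 8, 6, 4, 6, 10, 10, 8, 11], [14, 6, 8, 11, 5, 15, 10, 14], [.use 776 true, .use 1479 false]⟩,
  ⟨[14, 6, 8, 11, 14, 6, 14], [4, 10, 8, 6, 4, 6, 11, 11, 8, 6, 4, 6, 11, 8, 6, 4, 6, 10, 8, 10], [14, 6, 8, 10, 15, 9, 6, 14, 6, 8], [.use 1434 true, .use 747 false]⟩,
  ⟨[14, 6, 8, 11, 5, 15, 11, 14], [4, 8, 11, 8, 6, 4, 6, 11, 8, 6, 4, 6, 10, 8, 6, 4, 6, 10, 10, 8, 11], [14, 6, 8, 11, 15, 11, 14], [.use 1437 true, .use 761 false]⟩,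
  ⟨[14, 6, 8, 11, 11, 15, 10], [4, 10, 8, 6, 4, 6, 11, 11, 8, 6, 4, 6, 11, 8, 6, 4, 6, 10, 8, 10, 8], [14, 6, 8, 11, 11, 14, 10], [.use 1440 true, .use 470 false]⟩,
  ⟨[14, 6, 8, 11, 11, 14, 10], [4, 10, 8, 6, 4, 6, 11, 11, 8, 6, 4, 6, 11, 8, 6, 4, 6, 10, 8, 10, 8], [14, 6, 8, 11, 11, 15, 10], [.use 1483 true, .use 399 false]⟩,
  ⟨[14, 6, 8, 10, 14, 10, 10], [4, 10, 8, 6, 4, 6, 11, 11, 8, 6, 4, 6, 11, 8, 6, 4, 6, 10, 8, 10, 8], [14, 6, 8, 15, 11, 15, 10], [.use 1444 true, .use 774 false]⟩,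
  ⟨[14, 6, 8, 15, 11, 15, 10], [4, 10, 8, 6, 4, 6, 11, 11, 8, 6, 4, 6, 11, 8, 6, 4, 6, 10, 8, 10, 8], [14, 6, 8, 15, 11, 14, 10], [.use 1485 true, .use 1037 false]⟩,
  ⟨[14, 6, 8, 10, 14, 10, 13], [4, 10, 8, 6, 4, 6, 11, 11, 8, 6, 4, 6, 11, 8, 6, 4, 6, 11, 8, 12, 11], [14, 6, 8, 14, 11, 11, 14], [.use 1444 true, .use 1039 true, .cancel 7]⟩,
  ⟨[14, 6, 8, 14, 11, 11, 14], [10, 8, 6, 4, 6, 4, 13, 10, 8, 6, 4, 6, 10, 8, 6, 4, 6, 10, 10, 8, 11], [14, 6, 8, 10, 14, 10, 13], [.use 1487 true, .use 114 false]⟩,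
  ⟨[14, 6, 8, 10, 14, 10, 12], [4, 10, 8, 6, 4, 6, 11, 11, 8, 6, 4, 6, 11, 8, 6, 4, 6, 10, 8, 10, 8], [14, 6, 8, 14, 11, 13, 14], [.use 1444 true, .use 1040 false]⟩,
  ⟨[14, 6, 8, 14, 11, 13, 14], [4, 10, 8, 6, 4, 6, 11, 11, 8, 6, 4, 6, 11, 8, 6, 4, 6, 10, 8, 10, 8], [14, 6, 8, 10, 14, 10, 12], [.use 1489 true, .use 113 false]⟩,
  ⟨[14, 6, 8, 10, 15, 12, 10], [4, 10, 8, 6, 4, 6, 11, 11, 8, 6, 4, 6, 11, 8, 6, 4, 6, 10, 8, 10, 8], [14, 6, 8, 10, 13, 14, 10], [.use 1446 true, .use 720 false]⟩,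
  ⟨[14, 6, 10, 8, 13, 15, 10, 10, 8, 11], [4, 10, 8, 6, 4, 6, 11, 11, 8, 6, 4, 6, 11, 8, 6, 4, 6, 10, 8, 10, 8], [14, 6, 8, 10, 13, 14, 10], [.use 754 true, .use 1491 false]⟩,
  ⟨[14, 6, 8, 10, 15, 12, 12], [10, 8, 6, 4, 6, 4, 13, 10, 8, 6, 4, 6, 10, 8, 6, 4, 6, 10, 10, 8, 11], [14, 6, 8, 10, 10, 14], [.use 1446 true, .use 985 false]⟩,
  ⟨[14, 6, 8, 10, 15, 12, 11], [10, 8, 6, 4, 6, 4, 11, 11, 8, 6, 4, 6, 11, 8, 6, 4, 6, 11, 8, 12, 11], [14, 6, 8, 11, 11, 5, 15, 10, 14], [.use 1446 true, .use 1018 false]⟩,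
  ⟨[14, 6, 8, 10, 14, 6, 14], [4, 10, 8, 6, 4, 6, 11, 11, 8, 6, 4, 6, 11, 8, 6, 4, 6, 10, 8, 10, 8], [14, 6, 8, 10, 15, 7, 14], [.use 1449 true, .use 701 false]⟩,
  ⟨[14, 6, 8, 10, 14, 11, 14], [4, 10, 8, 6, 4, 6, 11, 11, 8, 6, 4, 6, 11, 8, 6, 4, 6, 10, 8, 10, 8], [14, 6, 8, 10, 15, 11, 14], [.use 1451 true, .use 716 false]⟩,
  ⟨[14, 6, 11, 14, 6, 8, 6], [6, 10, 8, 6, 4, 6, 10, 10, 8, 6, 4, 6, 10, 8, 10], [14, 6, 10, 8, 11, 11, 14, 10, 10, 6], [.use 1454 true, .use 815 false]⟩,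
  ⟨[14, 6, 10, 8, 11, 11, 14, 10, 10, 6], [6, 10, 8, 6, 4, 6, 10, 10, 8, 6, 4, 6, 10, 10, 8, 11], [14, 6, 10, 15, 6, 14, 6], [.use 1497 true, .use 1301 false]⟩,
  ⟨[14, 6, 11, 14, 10, 10, 6, 11, 11, 15], [6, 4, 6, 8, 6, 4, 6, 10, 8, 6, 4, 6, 11, 8, 6, 4, 6, 10, 8, 11], [14, 6, 11, 14, 10, 10, 6, 11, 11, 14], [.use 1457 true, .use 511 false, .use 1289 false]⟩,
  ⟨[14, 6, 11, 8, 14, 6, 14], [10, 8, 6, 4, 6, 11, 11, 8, 6, 4, 6, 11, 8, 6, 4, 6, 11, 8, 10, 10], [14, 6, 10, 8, 14, 6], [.use 1461 true, .use 430 false]⟩,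
  ⟨[14, 6, 11, 8, 14, 6, 8], [8, 11, 8], [14, 6, 10, 15, 6, 14, 6], [.use 1461 true, .use 1281 false, .use 1498 false]⟩,
  ⟨[14, 6, 11, 11, 14, 10, 10, 9], [4, 10, 8, 6, 4, 6, 11, 11, 8, 6, 4, 6, 11, 8, 6, 4, 6, 10, 8, 10, 8], [14, 6, 8, 11, 11, 15, 10, 10], [.use 1464 true, .use 401 true, .cancel 8]⟩,
  ⟨[14, 6, 8, 11, 11, 14, 10, 10], [4, 10, 8, 6, 4, 6, 11, 11, 8, 6, 4, 6, 11, 8, 6, 4, 6, 10, 8, 10, 8], [14, 6, 8, 11, 11, 15, 10, 10], [.use 817 true, .use 1502 false]⟩,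
  ⟨[14, 6, 11, 8, 13, 15, 6, 15], [0, 6, 4, 10, 8, 6, 4, 10, 10, 8, 6, 4, 10, 8, 6, 4, 11, 8, 6, 10, 8, 11], [14, 6, 11, 8, 13, 15, 6, 14], [.use 1467 true, .use 642 true, .cancel 7, .use 1367 false]⟩,
  ⟨[14, 6, 11, 5, 15, 10, 14, 11, 14], [4, 10, 8, 6, 4, 6, 11, 11, 8, 6, 4, 6, 11, 8, 6, 4, 6, 10, 8, 10, 8], [14, 6, 11, 5, 15, 10, 15, 11, 14], [.use 1473 true, .use 609 false]⟩,
  ⟨[14, 6, 8, 11, 11, 15, 10, 14], [4, 8, 11, 8, 6, 4, 6, 11, 8, 6, 4, 6, 10, 8, 6, 4, 6, 10, 10, 8, 11], [14, 6, 8, 11, 11, 5, 15, 10, 14], [.use 1484 true, .use 1014 false]⟩,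
  ⟨[14, 6, 8, 15, 11, 14, 10, 14], [4, 10, 8, 6, 4, 6, 11, 11, 8, 6, 4, 6, 11, 8, 6, 4, 6, 10, 8, 10, 8], [14, 6, 8, 15, 11, 15, 10, 14], [.use 1486 true, .use 775 false]⟩,
  ⟨[14, 6, 8, 10, 14, 10, 13, 15], [4, 10, 8, 6, 4, 6, 11, 11, 8, 6, 4, 6, 11, 8, 6, 4, 6, 11, 8, 12, 11], [14, 6, 8, 14, 11, 11], [.use 1488 true, .use 610 true, .cancel 6]⟩,
  ⟨[14, 6, 8, 10, 14, 10, 13, 11], [4, 10, 8, 6, 4, 6, 11, 11, 8, 6, 4, 6, 11, 8, 6, 4, 6, 11, 8, 12, 11], [14, 6, 8, 15, 11, 15, 10, 14], [.use 1488 true, .use 1147 false]⟩,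
  ⟨[14, 6, 8, 10, 14, 10, 12, 15], [4, 10, 8, 6, 4, 6, 11, 11, 8, 6, 4, 6, 11, 8, 6, 4, 6, 10, 8, 10, 8], [14, 6, 8, 14, 11, 13], [.use 1490 true, .use 644 true, .cancel 6]⟩,
  ⟨[14, 6, 8, 10, 14, 10, 12, 10], [4, 10, 8, 6, 4, 6, 11, 11, 8, 6, 4, 6, 11, 8, 6, 4, 6, 10, 8, 10, 8], [14, 6, 8, 14, 11, 13, 14, 10], [.use 1490 true, .use 645 false]⟩,
  ⟨[14, 6, 8, 10, 13, 14, 10, 10], [4, 10, 8, 6, 4, 6, 11, 11, 8, 6, 4, 6, 11, 8, 6, 4, 6, 10, 8, 10, 8], [14, 6, 10, 8, 13, 15, 10, 10, 8], [.use 1492 true, .use 753 true, .cancel 9]⟩,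
  ⟨[14, 6, 10, 8, 13, 15, 10, 10, 8], [4, 10, 8, 6, 4, 6, 11, 11, 8, 6, 4, 6, 11, 8, 6, 4, 6, 10, 8, 10, 8], [14, 6, 8, 10, 14, 10, 12], [.use 1512 true, .use 721 false, .use 999 false]⟩,
  ⟨[14, 6, 8, 10, 14, 10, 12, 9], [4, 10, 8, 6, 4, 6, 11, 11, 8, 6, 4, 6, 11, 8, 6, 4, 6, 10, 8, 10, 8], [14, 6, 10, 8, 13, 15, 10, 10], [.use 1513 true, .use 752 true, .cancel 8]⟩,
  ⟨[14, 6, 8, 10, 14, 10, 12, 8], [4, 10, 8, 6, 4, 6, 11, 11, 8, 6, 4, 6, 11, 8, 6, 4, 6, 10, 8, 10, 8], [14, 6, 10, 8, 13, 15, 10, 10], [.use 1513 true, .use 878 false]⟩,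
  ⟨[14, 6, 10, 14, 6, 1], [0], [14, 6, 10, 14, 6], [.use 1307 true, .use 497 true, .rel 6 2 (22, false, 0), .use 1303 true, .cancel 6, .use 497 false, .use 1307 false]⟩,
  ⟨[14, 6, 10, 14, 6, 5], [8, 6, 4, 10, 8, 6, 4, 10, 8, 6, 4, 11, 8, 6, 4, 10, 8, 6, 11, 8, 10, 10], [14, 6, 10, 14, 6], [.use 1307 true, .use 497 true, .rel 6 2 (23, false, 0), .use 1259 true, .cancel 9, .use 1454 false, .use 497 false, .use 1307 false]⟩,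
  ⟨[14, 6, 10, 8, 11, 11, 5], [4, 8, 11, 8, 6, 4, 6, 11, 8, 6, 4, 6, 10, 8, 6, 4, 6, 10, 10, 8, 11], [14, 6, 10, 8, 11, 11], [.rel 6 1 (12, false, 1), .use 501 true, .cancel 5, .use 786 false, .use 1355 false, .use 501 false]⟩,
  ⟨[14, 6, 10, 8, 13, 11, 5], [4, 8, 11, 8, 6, 4, 6, 11, 8, 6, 4, 6, 10, 8, 6, 4, 6, 10, 10, 8, 11], [14, 6, 10, 8, 13, 11], [.use 885 true, .rel 6 2 (17, false, 0), .use 1518 false, .use 885 false]⟩,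
  ⟨[14, 6, 8, 11, 8, 11, 8, 4], [4, 8, 11, 8, 6, 4, 6, 11, 8, 6, 4, 6, 10, 8, 6, 4, 6, 10, 10, 8, 11], [14, 6, 8, 11, 8, 11, 8], [.ins 7 13, .use 1053 false, .use 1518 true, .rel 6 3 (17, false, 1), .use 1053 true, .cancel 7]⟩,
  ⟨[14, 6, 10, 8, 11, 11, 15, 11], [4, 8, 11, 8, 6, 4, 6, 11, 8, 6, 4, 6, 10, 8, 6, 4, 6, 10, 10, 8, 11], [14, 6, 10, 8, 11, 5, 15, 10, 14], [.use 502 true, .rel 6 2 (28, false, 3), .use 501 true, .cancel 5, .use 786 false, .use 1355 false, .use 785 false, .use 83 false, .use 1057 false, .use 807 false]⟩,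
  ⟨[14, 6, 10, 15, 11, 14, 14], [], [14, 6, 10, 14, 11], [.rel 6 1 (21, false, 1), .use 515 true, .cancel 5, .use 1317 false, .use 901 true, .cancel 5, .use 906 true, .cancel 5, .use 1317 false]⟩,
  ⟨[14, 6, 10, 15, 11, 14], [], [14, 6, 10, 10, 14, 10], [.ins 6 14, .use 1522 false, .use 842 false]⟩,
  ⟨[14, 6, 10, 10, 14, 10, 15], [4, 10, 8, 6, 4, 6, 11, 11, 8, 6, 4, 6, 11, 8, 6, 4, 6, 10, 8, 10, 8], [14, 6, 10, 14, 11], [.use 1523 true, .use 515 true, .cancel 5, .use 1317 false]⟩,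
  ⟨[14, 6, 10, 10, 14, 10, 10], [], [14, 6, 10, 15, 11, 14, 10], [.use 1523 true, .use 516 false]⟩,
  ⟨[14, 6, 10, 10, 14, 10, 10], [], [14, 6, 10, 15, 11, 14, 10], [.use 570 true, .use 1525 false]⟩,
  ⟨[14, 6, 10, 15, 11, 14, 10, 6], [], [14, 6, 10, 10, 14, 10, 10, 6], [.use 1526 true, .use 571 false]⟩,
  ⟨[14, 6, 10, 15, 11, 14, 10, 13], [12], [14, 6, 10, 13, 14, 10], [.use 1526 true, .use 1079 true, .cancel 6]⟩,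
  ⟨[14, 6, 10, 15, 11, 14, 10, 0], [0], [14, 6, 10, 15, 11, 14, 10], [.use 1526 true, .use 1154 false, .use 1526 false]⟩,
  ⟨[14, 6, 10, 10, 14, 10, 10, 6, 6], [], [14, 6, 10, 15, 11, 14, 10], [.use 1527 true, .rel 7 2 (4, false, 0)]⟩,
  ⟨[14, 6, 10, 15, 11, 14, 10, 4], [4, 8, 11, 8, 6, 4, 6, 11, 8, 6, 4, 6, 10, 8, 6, 4, 6, 10, 10, 8, 11], [14, 6, 10, 15, 11, 14, 10], [.use 1526 true, .use 1079 true, .use 1337 true, .ins 6 4, .use 1082 false, .use 1528 true, .rel 7 4 (17, false, 0)]⟩,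
  ⟨[14, 6, 8, 15, 6, 11, 15, 10, 14, 11], [6, 4, 11, 8, 6, 4, 6, 12, 10, 8, 6, 4, 6, 11, 8, 6, 4, 6, 10, 8, 10, 8], [14, 6, 10, 15, 11, 14, 10], [.use 606 true, .use 1374 true, .use 1088 true, .ins 6 11, .use 267 false, .use 1528 true, .rel 7 5 (20, false, 0)]⟩,
  ⟨[14, 6, 10, 15, 11, 14, 10, 10], [4, 10, 8, 6, 4, 6, 11, 11, 8, 6, 4, 6, 11, 8, 6, 4, 6, 10, 8, 6, 11, 13], [14, 6, 8, 15, 6, 11, 15, 10, 14], [.use 1532 true, .use 606 true, .cancel 9]⟩,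
  ⟨[14, 6, 10, 15, 11, 14, 10, 14], [4, 10, 8, 6, 4, 6, 11, 11, 8, 6, 4, 6, 11, 8, 6, 4, 6, 10, 8, 10, 8], [14, 6, 10, 15, 11, 14, 10, 15], [.rel 7 1 (21, false, 0), .use 1529 false, .use 1531 false, .use 517 false]⟩,
  ⟨[14, 6, 10, 15, 11, 14, 10, 15, 5], [4, 8, 11, 8, 6, 4, 6, 11, 8, 6, 4, 6, 10, 8, 6, 4, 6, 10, 10, 8, 11], [14, 6, 10, 15, 11, 14, 10, 15], [.use 517 true, .rel 7 2 (23, false, 0), .use 1531 true, .cancel 7, .use 517 false]⟩]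

/-- Equations. -/
def part24 : List CFact := [
  ⟨[14, 6, 10, 10, 14, 10, 10, 6, 11, 11, 14, 10, 10, 6, 11], [4, 6, 4, 6, 10, 8, 6, 4, 6, 8, 13, 11], [14, 6, 10, 13, 14, 10], [.use 658 true, .use 657 true, .use 656 true, .use 655 true, .use 573 true, .use 572 true, .use 1527 true, .rel 7 8 (30, false, 6), .use 516 true, .cancel 6, .use 1523 false, .use 91 true, .cancel 5, .use 40 true, .cancel 4, .use 197 true, .cancel 4, .use 148 false, .use 184 false, .use 180 true, .cancel 3, .use 181 true, .cancel 3, .use 182 false, .use 649 true, .cancel 8, .use 835 false, .use 1325 false, .use 182 true, .cancel 3, .use 142 false, .use 164 false, .use 160 false, .use 626 true, .cancel 8, .use 848 false, .use 1361 false, .use 160 true, .cancel 3, .use 164 true, .cancel 3, .use 142 true, .cancel 3, .use 165 false, .use 8 true, .cancel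 2, .use 163 false, .use 153 true, .cancel 3, .use 427 true, .cancel 7, .use 527 false, .use 1351 false, .use 153 false, .use 163 true, .cancel 2, .use 8 false, .use 165 true, .cancel 3, .use 165 false, .use 8 true, .cancel 2, .use 166 true, .cancel 2, .use 3 true, .cancel 1, .use 2 false, .use 153 true, .cancel 3, .use 20 false, .use 204 true, .cancel 4, .use 500 true, .cancel 5, .use 1315 false, .use 94 false]⟩,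
  ⟨[14, 6, 10, 10, 14, 10, 10, 6, 11, 11, 14, 10, 10, 6], [4, 6, 4, 6, 10, 8, 6, 4, 6, 8, 13, 11], [14, 6, 10, 14, 10, 12], [.ins 14 11, .use 1536 false, .use 267 true, .cancel 6]⟩,
  ⟨[14, 6, 10, 14, 10, 12, 7], [4, 6, 11, 8, 6, 4, 6, 4, 8, 6, 12, 11], [14, 6, 10, 10, 14, 10, 10, 6, 11, 11, 14, 10, 10], [.use 1537 true, .use 658 true, .cancel 13]⟩,
  ⟨[14, 6, 10, 10, 14, 10, 10, 6, 11, 11, 14, 10, 10], [4, 6, 4, 6, 10, 8, 6, 4, 6, 8, 13, 11], [14, 6, 10, 14, 10, 12, 6], [.use 1538 true, .use 1094 false]⟩,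
  ⟨[14, 6, 10, 14, 10, 12, 6, 11], [4, 6, 11, 8, 6, 4, 6, 4, 8, 6, 12, 11], [14, 6, 10, 10, 14, 10, 10, 6, 11, 11, 14, 10], [.use 1539 true, .use 657 true, .cancel 12]⟩,
  ⟨[14, 6, 10, 10, 14, 10, 10, 6, 11, 11, 14, 10], [4, 6, 4, 6, 10, 8, 6, 4, 6, 8, 13, 11], [14, 6, 10, 14, 10, 12, 6, 11], [.use 1540 true, .use 432 false]⟩,
  ⟨[14, 6, 10, 14, 10, 12, 6, 11, 11], [4, 6, 11, 8, 6, 4, 6, 4, 8, 6, 12, 11], [14, 6, 10, 10, 14, 10, 10, 6, 11, 11, 14], [.use 1541 true, .use 656 true, .cancel 11]⟩,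
  ⟨[14, 6, 10, 10, 14, 10, 10, 6, 11, 11, 14], [4, 6, 4, 6, 10, 8, 6, 4, 6, 8, 13, 11], [14, 6, 10, 14, 10, 12, 6, 11, 11], [.use 1542 true, .use 433 false]⟩,
  ⟨[14, 6, 10, 14, 10, 12, 6, 11, 11, 15], [4, 6, 11, 8, 6, 4, 6, 4, 8, 6, 12, 11], [14, 6, 10, 10, 14, 10, 10, 6, 11, 11], [.use 1543 true, .use 655 true, .cancel 10]⟩,
  ⟨[14, 6, 10, 14, 10, 12, 6, 11, 11, 14, 10], [11, 8, 6, 4, 6, 8, 10, 13, 10, 8, 6, 4, 6, 8, 10, 13], [14, 6, 10, 10, 14, 10, 10, 6, 11], [.use 434 true, .use 433 true, .use 432 true, .use 431 true, .ins 6 11, .use 267 false, .use 94 true, .use 41 true, .ins 4 10, .use 204 false, .use 20 true, .use 137 true, .ins 2 0, .use 134 false, .ins 2 4, .use 136 false, .use 153 true, .use 1351 true, .use 394 true, .ins 3 6, .use 153 false, .ins 2 10, .use 8 false, .use 130 true, .use 161 true, .use 1363 true,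 .use 532 true, .ins 4 6, .use 161 false, .ins 3 8, .use 130 false, .use 8 true, .use 2 true, .ins 1 11, .use 3 false, .ins 2 9, .use 167 false, .use 138 true, .use 1311 true, .use 1188 true, .use 435 true, .ins 3 6, .use 138 false, .use 167 true, .use 3 true, .ins 1 10, .use 2 false, .use 2 true, .ins 1 11, .use 3 false, .ins 2 15, .use 131 false, .ins 2 10, .use 8 false, .use 165 true, .ins 3 7, .use 182 false, .use 148 true, .ins 4 11, .use 197 false, .use 1327 true, .use 1210 true, .use 890 true, .ins 5 10, .use 91 false, .use 1523 true, .ins 6 10, .use 516 false, .rel 7 43 (30, false, 13), .use 1530 true, .cancel 8, .use 572 false]⟩,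
  ⟨[14, 6, 10, 10, 14, 10, 10, 6, 11, 11], [10, 10, 10, 8, 6, 4, 6, 8, 10, 8, 6, 4, 6, 8, 13, 10], [14, 6, 10, 14, 10, 12, 6, 11, 11, 14], [.use 573 true, .use 1545 true, .cancel 10]⟩,
  ⟨[14, 6, 10, 14, 10, 12, 6, 11, 11, 14, 14], [4, 6, 4, 10, 8, 6, 4, 10, 8, 6, 4, 11, 8, 6, 4, 10, 8, 6, 10, 10, 8, 11], [14, 6, 10, 14, 10, 12, 6, 11, 11], [.use 1546 true, .use 655 false, .use 1543 false]⟩,
  ⟨[14, 6, 11, 8, 12, 5], [4, 8, 11, 8, 6, 4, 6, 11, 8, 6, 4, 6, 10, 8, 6, 4, 6, 10, 10, 8, 11], [14, 6, 11, 8, 12], [.ins 5 6, .use 224 false, .ins 5 8, .use 211 false, .use 204 true, .use 148 true, .ins 4 11, .use 197 false, .use 194 true, .use 226 true, .use 1359 true, .ins 9 4, .use 1275 false, .ins 5 6, .use 226 false, .ins 5 8, .use 194 false, .use 197 true, .ins 4 10, .use 148 false, .use 148 true, .ins 4 11, .use 197 false,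 .use 1327 true, .use 1210 true, .use 890 true, .ins 5 10, .use 91 false, .use 1523 true, .ins 6 10, .use 516 false, .rel 7 18 (30, false, 19), .use 1530 true, .cancel 8, .use 572 false, .use 573 false, .use 1546 false, .use 434 true, .cancel 9, .use 433 true, .cancel 8, .use 432 true, .cancel 7, .use 431 true, .cancel 6, .use 267 false, .use 94 true, .cancel 5, .use 41 true, .cancel 4, .use 204 false, .use 20 true, .cancel 3, .use 137 true, .cancel 2, .use 2 true, .cancel 1, .use 3 false, .use 131 false, .use 8 false, .use 165 true, .cancel 3, .use 182 false, .use 487 true, .cancel 4, .use 649 true, .cancel 8, .use 835 false, .use 1325 false, .use 184 false, .use 181 true, .cancel 3, .use 184 true, .cancel 4, .use 204 false, .use 211 true, .cancel 5, .use 224 true, .cancel 5]⟩,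
  ⟨[14, 6, 11, 11, 14, 10, 10, 6, 11, 11, 14, 10, 10, 6], [13, 10, 8, 6, 4, 6, 10, 8, 6, 4, 6, 8, 11, 8, 10], [14, 6, 11, 14, 10, 10], [.use 521 true, .use 520 true, .use 519 true, .rel 10 4 (30, false, 9), .use 518 true, .cancel 9, .use 378 true, .cancel 8, .use 377 true, .cancel 7, .use 376 true, .cancel 6, .use 375 true, .cancel 5, .use 49 true, .cancel 4, .use 20 true, .cancel 3, .use 6 true, .cancel 2, .use 1 true, .cancel 1, .use 126 true, .cancel 1, .use 127 true, .cancel 1, .use 132 true, .cancel 2, .use 371 false, .use 382 false, .use 1321 false, .use 132 false, .use 2 false, .use 163 false, .use 153 true, .cancel 3, .use 427 true, .cancel 7, .use 527 false, .use 1351 false, .use 153 false, .use 163 true, .cancel 2, .use 2 true, .cancel 1, .use 3 false, .use 10 false, .use 178 true, .cancel 3, .use 177 true, .cancel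 4, .use 639 false, .use 830 false, .use 1210 false, .use 1327 false, .use 177 false, .use 178 false, .use 10 true, .cancel 2, .use 3 true, .cancel 1, .use 3 false, .use 10 false, .use 170 false, .use 173 true, .cancel 3, .use 10 true, .cancel 2, .use 138 true, .cancel 3, .use 5 true, .cancel 2, .use 6 false, .use 505 false, .use 1227 false, .use 1385 false, .use 416 false, .use 545 false, .use 548 false]⟩,
  ⟨[14, 6, 11, 11, 14, 10, 10, 6, 11, 11, 14, 10, 10], [0, 6, 13, 10, 8, 6, 4, 6, 8, 10, 8, 6, 4, 6, 8, 10], [14, 6, 11, 14], [.ins 13 6, .use 1549 false, .use 1258 true, .cancel 7, .use 1385 false]⟩,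
  ⟨[14, 6, 11, 14, 11], [0, 6, 10, 8, 6, 4, 6, 8, 10, 8, 6, 4, 6, 8, 10, 12], [14, 6, 11, 11, 14, 10, 10, 6, 11, 11, 14, 10], [.use 1550 true, .use 521 true, .cancel 12]⟩,
  ⟨[14, 6, 11, 11, 14, 10, 10, 6, 11, 11, 14, 10], [0, 6, 13, 10, 8, 6, 4, 6, 8, 10, 8, 6, 4, 6, 8, 10], [14, 6, 11, 14, 11], [.use 1551 true, .use 51 false]⟩,
  ⟨[14, 6, 11, 14, 11, 11], [0, 6, 10, 8, 6, 4, 6, 8, 10, 8, 6, 4, 6, 8, 10, 12], [14, 6, 11, 11, 14, 10, 10, 6, 11, 11, 14], [.use 1552 true, .use 520 true, .cancel 11]⟩,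
  ⟨[14, 6, 11, 11, 14, 10, 10, 6, 11, 11, 14], [13, 10, 8, 6, 4, 6, 10, 8, 6, 4, 6, 8, 11, 8, 10], [14, 6, 11, 14, 10, 10, 6, 11, 11], [.use 1553 true, .use 547 false, .use 1457 false]⟩,
  ⟨[14, 6, 11, 14, 10, 10, 6, 11, 11, 15], [8, 11, 8, 6, 4, 6, 10, 8, 6, 4, 6, 11, 8, 11, 12], [14, 6, 11, 11, 14, 10, 10, 6, 11, 11], [.use 1554 true, .use 519 true, .cancel 10]⟩,
  ⟨[14, 6, 11, 11, 14, 10, 10, 6, 11, 11], [10, 8, 6, 4, 6, 4, 8, 10, 10, 8, 6, 4, 6, 8, 10, 13], [14, 6, 11, 14, 10, 10, 6, 11, 11, 14], [.use 1555 true, .use 1499 false]⟩,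
  ⟨[14, 6, 11, 14, 10, 10, 6, 11, 11, 14, 10], [12, 11, 8, 6, 4, 6, 4, 8, 11, 11, 8, 6, 4, 6, 8, 11], [14, 6, 11, 11, 14, 10, 10, 6, 11], [.use 1556 true, .use 518 true, .cancel 9]⟩,
  ⟨[14, 6, 11, 14, 10, 10, 6, 11, 11, 14, 10], [12, 11, 8, 6, 4, 6, 4, 8, 11, 11, 8, 6, 4, 6, 8, 11], [14, 6, 11, 11, 14, 10, 10, 6, 11], [.use 445 true, .use 1557 false]⟩,
  ⟨[14, 6, 11, 11, 14, 10, 10, 6, 11, 14], [6, 13, 10, 8, 6, 4, 6, 8, 10, 8, 6, 4, 6, 8, 10], [14, 6, 11, 5, 15, 11, 11, 15, 10, 14], [.use 1558 true, .use 1293 false]⟩,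
  ⟨[14, 6, 11, 8, 11, 11, 15, 4], [4, 8, 11, 8, 6, 4, 6, 11, 8, 6, 4, 6, 10, 8, 6, 4, 6, 10, 10, 8, 11], [14, 6, 11, 8, 11, 11, 15], [.rel 7 1 (8, false, 0), .use 991 false, .use 988 false, .use 1446 false, .use 990 false]⟩,
  ⟨[14, 6, 11, 8, 11, 11, 15, 10, 4], [4, 8, 11, 8, 6, 4, 6, 11, 8, 6, 4, 6, 10, 8, 6, 4, 6, 10, 10, 8, 11], [14, 6, 11, 8, 11, 11, 15, 10], [.use 555 true, .ins 7 4, .use 1560 false, .rel 7 3 (12, false, 1), .use 555 false]⟩,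
  ⟨[14, 6, 8, 10, 15, 9, 5], [4, 8, 11, 8, 6, 4, 6, 11, 8, 6, 4, 6, 10, 8, 6, 4, 6, 10, 10, 8, 11], [14, 6, 8, 10, 15, 9], [.ins 6 12, .use 981 false, .rel 7 2 (17, false, 0), .use 1560 true, .cancel 7, .use 981 true, .cancel 6]⟩,
  ⟨[14, 6, 11, 8, 11, 11, 14], [4, 10, 8, 6, 4, 6, 11, 11, 8, 6, 4, 6, 11, 8, 6, 4, 6, 10, 8, 10, 8], [14, 6, 11, 8, 11, 11, 15], [.ins 6 15, .use 554 false, .rel 7 2 (21, false, 0), .use 1296 true, .cancel 7, .use 1560 false]⟩,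
  ⟨[14, 6, 8, 10, 8, 14], [4, 10, 8, 6, 4, 6, 11, 11, 8, 6, 4, 6, 11, 8, 6, 4, 6, 10, 8, 10, 8], [14, 6, 8, 10, 15, 9], [.use 824 true, .ins 6 14, .use 1563 false, .rel 7 3 (26, false, 0), .use 981 true, .cancel 6]⟩,
  ⟨[14, 6, 11, 8, 11, 11, 15, 10, 10, 4], [4, 8, 11, 8, 6, 4, 6, 11, 8, 6, 4, 6, 10, 8, 6, 4, 6, 10, 10, 8, 11], [14, 6, 11, 8, 11, 11, 15, 10, 10], [.use 556 true, .ins 8 4, .use 1561 false, .rel 8 3 (12, false, 1), .use 556 false]⟩,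
  ⟨[14, 6, 11, 11, 5, 15, 10, 14, 11, 15, 4], [4, 8, 11, 8, 6, 4, 6, 11, 8, 6, 4, 6, 10, 8, 6, 4, 6, 10, 10, 8, 11], [14, 6, 11, 11, 5, 15, 10, 14, 11, 15], [.use 1155 true, .use 1343 true, .ins 8 4, .use 1085 false, .ins 6 12, .use 1155 false, .rel 10 4 (17, false, 0)]⟩,
  ⟨[14, 6, 10, 10, 14, 10, 4], [4, 8, 11, 8, 6, 4, 6, 11, 8, 6, 4, 6, 10, 8, 6, 4, 6, 10, 10, 8, 11], [14, 6, 10, 10, 14, 10], [.use 1097 true, .ins 10 4, .use 1566 false, .rel 10 3 (17, false, 1), .use 1097 false]⟩,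
  ⟨[14, 6, 10, 14, 11, 12, 14], [10, 8, 6, 4, 6, 4, 11, 11, 8, 6, 4, 6, 11, 8, 6, 4, 6, 11, 8, 12, 11], [14, 6, 11, 11, 5, 15, 10, 14, 11, 15], [.use 927 true, .ins 9 15, .use 565 false, .rel 10 2 (21, false, 0), .use 1156 true, .cancel 10, .use 1566 false]⟩,
  ⟨[14, 6, 10, 14, 11, 12, 5], [4, 8, 11, 8, 6, 4, 6, 11, 8, 6, 4, 6, 10, 8, 6, 4, 6, 10, 10, 8, 11], [14, 6, 10, 14, 11, 12], [.use 927 true, .ins 9 15, .use 565 false, .rel 10 2 (21, false, 1), .use 1568 true, .cancel 6, .use 1096 false]⟩,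
  ⟨[14, 6, 10, 14, 11, 12, 12], [0, 4, 10, 8, 6, 4, 11, 11, 8, 6, 4, 10, 8, 6, 4, 11, 8, 6, 10, 8, 12, 11], [14, 6, 8, 15, 6, 11, 14, 10, 15], [.ins 6 14, .use 1568 false, .rel 10 2 (26, false, 0), .use 1155 true, .cancel 6, .use 970 false]⟩,
  ⟨[14, 6, 8, 15, 6, 11, 14, 10, 15, 15], [6, 11, 8, 6, 4, 6, 4, 11, 8, 6, 4, 6, 10, 8, 6, 4, 6, 10, 10, 8, 11], [14, 6, 10, 14, 10, 10], [.use 1570 true, .use 927 true, .ins 9 15, .use 565 false, .rel 10 3 (26, false, 2), .use 1155 true, .cancel 6]⟩,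
  ⟨[14, 6, 8, 15, 6, 11, 15, 10, 14], [], [14, 6, 8, 15, 6, 11, 14, 10, 15], [.use 1370 true, .use 1571 true, .cancel 9]⟩,
  ⟨[14, 6, 8, 15, 6, 11, 14, 10, 15, 11], [6, 4, 11, 8, 6, 4, 6, 12, 10, 8, 6, 4, 6, 11, 8, 6, 4, 6, 10, 8, 10, 8], [14, 6, 10, 15, 11, 14, 10], [.use 1572 true, .use 606 false, .use 1532 false]⟩,
  ⟨[14, 6, 8, 15, 6, 11, 14, 10, 15, 10], [6, 11, 8, 6, 4, 6, 4, 11, 8, 6, 4, 6, 10, 8, 6, 4, 6, 10, 10, 8, 11], [14, 6, 14, 11, 11, 15], [.use 1572 true, .use 1126 true, .cancel 6, .use 1345 false]⟩,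
  ⟨[14, 6, 8, 15, 6, 11, 14, 10, 15, 12], [0, 10, 8, 6, 4, 13, 10, 8, 6, 4, 11, 8, 6, 4, 10, 8, 6, 4, 11, 11, 8, 11], [14, 6, 10, 14, 11], [.use 1572 true, .use 1302 true, .cancel 5, .use 1317 false]⟩,
  ⟨[14, 6, 11, 15, 11, 14, 10, 15, 1], [0], [14, 6, 11, 15, 11, 14, 10, 15], [.rel 8 1 (16, false, 1), .use 1272 false, .use 1414 false, .use 945 false, .use 1459 false]⟩,
  ⟨[14, 6, 11, 15, 11, 14, 10, 15, 5], [4, 8, 11, 8, 6, 4, 6, 11, 8, 6, 4, 6, 10, 8, 6, 4, 6, 10, 10, 8, 11], [14, 6, 11, 15, 11, 14, 10, 15], [.rel 8 1 (17, false, 1), .use 1272 false, .use 1414 false, .use 947 false, .use 1233 false, .use 1414 false, .use 1459 false]⟩,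
  ⟨[14, 6, 11, 15, 11, 14, 10, 15, 10], [6, 10, 8, 6, 4, 6, 10, 10, 8, 6, 4, 6, 10, 8, 10], [14, 6, 11, 14, 10, 10, 6, 11, 11, 14], [.rel 8 1 (20, false, 1), .use 1272 false, .use 1414 false, .use 51 true, .cancel 4, .use 416 false, .use 545 false, .use 1250 true, .cancel 8, .use 1289 false]⟩,
  ⟨[14, 6, 11, 15, 11, 14, 10, 15, 11], [4, 10, 8, 6, 4, 6, 11, 11, 8, 6, 4, 6, 11, 8, 6, 4, 6, 11, 8, 12, 11], [14, 6, 11, 11, 14, 10, 10], [.rel 8 1 (20, false, 4), .use 1578 false, .use 1294 true, .cancel 7, .use 362 true, .cancel 6, .use 1120 false]⟩,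
  ⟨[14, 6, 14, 10, 10, 14], [4, 10, 8, 6, 4, 6, 11, 11, 8, 6, 4, 6, 11, 8, 6, 4, 6, 10, 8, 10, 8], [14, 6, 11, 15, 11, 14, 10, 15], [.use 1270 true, .ins 7 15, .use 569 false, .rel 8 2 (21, false, 0), .use 1576 true, .cancel 8, .use 1577 true, .cancel 8]⟩,
  ⟨[14, 6, 14, 10, 10, 5], [4, 8, 11, 8, 6, 4, 6, 11, 8, 6, 4, 6, 10, 8, 6, 4, 6, 10, 10, 8, 11], [14, 6, 14, 10, 10], [.use 1270 true, .ins 7 15, .use 569 false, .rel 8 2 (21, false, 1), .use 1580 true, .cancel 5, .use 956 false]⟩,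
  ⟨[14, 6, 8, 15, 6, 11, 14, 10, 15, 6], [6, 4, 11, 8, 6, 4, 6, 12, 10, 8, 6, 4, 6, 11, 8, 6, 4, 6, 10, 8, 10, 8], [14, 6, 10, 10, 14, 10, 10, 6, 11], [.use 1572 true, .use 1533 true, .use 1530 true, .rel 8 3 (13, false, 1), .use 572 false]⟩,
  ⟨[14, 6, 10, 10, 14, 10, 10, 6, 11, 6], [4, 10, 8, 6, 4, 6, 11, 11, 8, 6, 4, 6, 11, 8, 6, 4, 6, 10, 8, 6, 11, 13], [14, 6, 8, 15, 6, 11, 14, 10, 15], [.rel 9 1 (4, false, 0), .use 1582 true, .cancel 9]⟩,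
  ⟨[14, 6, 14, 11, 11, 15, 6], [11, 11, 8, 6, 4, 6, 11, 8, 6, 4, 6, 11, 11, 8, 10], [14, 6, 10, 14, 10, 12, 6, 11, 11, 14], [.use 1574 true, .use 1583 true, .rel 9 3 (13, false, 1), .use 573 false, .use 1546 false]⟩,
  ⟨[14, 6, 8, 14, 11, 11, 15, 10, 10, 4], [4, 8, 11, 8, 6, 4, 6, 11, 8, 6, 4, 6, 10, 8, 6, 4, 6, 10, 10, 8, 11], [14, 6, 8, 14, 11, 11, 15, 10, 10], [.use 596 true, .use 1475 true, .ins 8 4, .use 1171 false, .rel 8 3 (12, false, 1), .use 596 false]⟩,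
  ⟨[14, 6, 8, 14, 11, 13, 14, 10, 12], [4, 10, 8, 6, 4, 6, 11, 11, 8, 6, 4, 6, 11, 8, 6, 4, 6, 11, 8, 12, 11], [14, 6, 8, 14, 11, 11, 15, 10, 10], [.use 1511 true, .ins 7 12, .use 339 false, .use 1042 true, .ins 7 10, .use 595 false, .rel 8 4 (20, false, 4), .use 596 false]⟩,
  ⟨[14, 6, 8, 14, 11, 11, 14, 10, 10, 6, 6], [4, 10, 8, 6, 4, 6, 11, 11, 8, 6, 4, 6, 11, 8, 6, 4, 6, 10, 8, 10, 8], [14, 6, 8, 14, 11, 11, 15, 10, 10], [.use 1476 true, .rel 9 2 (4, false, 0)]⟩,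
  ⟨[14, 6, 8, 14, 11, 11, 15, 10, 10, 8, 4], [4, 8, 11, 8, 6, 4, 6, 11, 8, 6, 4, 6, 10, 8, 6, 4, 6, 10, 10, 8, 11], [14, 6, 8, 14, 11, 11, 15, 10, 10, 8], [.use 597 true, .use 1585 true, .rel 9 3 (8, false, 0), .use 770 true, .cancel 10]⟩,
  ⟨[14, 6, 8, 14, 11, 13, 14, 10, 5], [4, 8, 11, 8, 6, 4, 6, 11, 8, 6, 4, 6, 10, 8, 6, 4, 6, 10, 10, 8, 11], [14, 6, 8, 14, 11, 13, 14, 10], [.ins 8 12, .use 1586 false, .rel 9 2 (17, false, 0), .use 1585 true, .cancel 9, .use 1586 true, .cancel 8]⟩,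
  ⟨[14, 6, 14, 11, 11, 14, 10, 10, 6, 6], [4, 10, 8, 6, 4, 6, 11, 11, 8, 6, 4, 6, 11, 8, 6, 4, 6, 10, 8, 10, 8], [14, 6, 8, 14, 11, 11, 15, 10, 10, 8], [.use 1427 true, .rel 10 2 (4, false, 0)]⟩,
  ⟨[14, 6, 8, 14, 11, 11, 15, 10, 10, 8, 10], [12], [14, 6, 10, 10, 14], [.rel 10 1 (10, false, 0), .use 600 true, .cancel 7, .use 599 true, .cancel 6, .use 1374 false, .use 1572 false, .use 1573 false, .use 516 true, .cancel 6, .use 1523 false, .use 91 true, .cancel 5]⟩,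
  ⟨[14, 6, 8, 14, 11, 11, 15, 10, 10, 8], [12], [14, 6, 10, 10, 14, 11], [.ins 10 10, .use 1591 false, .use 92 false]⟩,
  ⟨[14, 6, 10, 10, 14, 11, 9], [13], [14, 6, 8, 14, 11, 11, 15, 10, 10], [.use 1592 true, .use 597 true, .cancel 9]⟩,
  ⟨[14, 6, 10, 10, 14, 11, 11], [13], [14, 6, 14, 11, 11, 15, 10], [.use 1592 true, .use 600 true, .cancel 7]⟩,
  ⟨[14, 6, 10, 10, 14, 11, 8], [13], [14, 6, 8, 14, 11, 11, 15, 10, 10], [.use 1592 true, .use 770 false]⟩,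
  ⟨[14, 6, 10, 10, 14, 11, 6], [10, 8, 6, 4, 6, 4, 13, 10, 8, 6, 4, 6, 10, 8, 6, 4, 6, 10, 10, 8, 11], [14, 6, 14, 11, 11, 14, 10, 10, 6], [.use 1592 true, .use 1427 false]⟩,
  ⟨[14, 6, 10, 10, 14, 11, 4], [4, 8, 11, 8, 6, 4, 6, 11, 8, 6, 4, 6, 10, 8, 6, 4, 6, 10, 10, 8, 11], [14, 6, 10, 10, 14, 11], [.use 1592 true, .use 1588 false, .use 1592 false]⟩,
  ⟨[14, 6, 10, 10, 14, 11, 5], [4, 8, 11, 8, 6, 4, 6, 11, 8, 6, 4, 6, 10, 8, 6, 4, 6, 10, 10, 8, 11], [14, 6, 10, 10, 14, 11], [.use 1592 true, .use 1588 true, .cancel 10, .use 1592 false]⟩,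
  ⟨[14, 6, 10, 10, 14, 11, 7], [10, 8, 6, 4, 6, 4, 13, 10, 8, 6, 4, 6, 10, 8, 6, 4, 6, 10, 10, 8, 11], [14, 6, 14, 11, 11, 14, 10, 10, 6], [.use 1592 true, .use 1590 true, .cancel 9]⟩]

/-- Equations. -/
def part25 : List CFact := [
  ⟨[14, 6, 10, 14, 10, 12, 6, 11, 11, 14, 6], [11, 8, 6, 4, 6, 10, 10, 8, 6, 4, 6, 10, 8, 10, 10], [14, 6, 14, 11, 11, 15], [.use 1584 true, .rel 6 2 (4, false, 0)]⟩,
  ⟨[14, 6, 8, 15, 6, 11, 14, 10, 15, 5], [6, 4, 11, 8, 6, 4, 6, 11, 8, 6, 4, 6, 10, 8, 6, 4, 6, 11, 8, 6, 11, 11], [14, 6, 8, 15, 6, 11, 14, 10, 15], [.use 1572 true, .use 1374 true, .rel 6 2 (12, false, 0), .use 1091 false, .use 1345 false, .use 1374 false, .use 1572 false]⟩,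
  ⟨[14, 6, 14, 11, 11, 15, 10, 4], [4, 8, 11, 8, 6, 4, 6, 11, 8, 6, 4, 6, 10, 8, 6, 4, 6, 10, 10, 8, 11], [14, 6, 14, 11, 11, 15, 10], [.use 599 true, .use 1345 true, .use 1091 true, .rel 6 3 (12, false, 1), .use 599 false]⟩,
  ⟨[14, 6, 10, 14, 10, 12, 6, 12], [10, 8, 6, 11, 8, 6, 4, 6, 4, 8, 6, 11, 8, 12, 10], [14, 6, 10, 14, 10, 12, 6, 11, 11, 14], [.use 1094 true, .ins 6 12, .use 1088 false, .rel 6 3 (18, false, 0), .use 1600 true, .cancel 10]⟩,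
  ⟨[14, 6, 10, 14, 10, 12, 6, 11, 11, 14, 12], [11, 8, 6, 4, 6, 8, 10, 13, 10, 8, 6, 4, 6, 8, 10], [14, 6, 10, 14, 6, 11], [.ins 10 6, .use 1600 false, .rel 6 2 (18, false, 1), .use 973 false, .use 326 true, .cancel 6]⟩,
  ⟨[14, 6, 10, 13, 14, 11, 12], [12], [14, 6, 14, 11, 11, 15, 10], [.ins 6 11, .use 268 false, .ins 6 12, .use 1570 false, .use 1572 true, .use 1374 true, .rel 6 4 (20, false, 4), .use 599 false]⟩,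
  ⟨[14, 6, 14, 11, 11, 5], [4, 8, 11, 8, 6, 4, 6, 11, 8, 6, 4, 6, 10, 8, 6, 4, 6, 10, 10, 8, 11], [14, 6, 14, 11, 11], [.ins 5 15, .use 598 false, .rel 6 2 (21, false, 1), .use 1371 false, .use 961 true, .cancel 5]⟩,
  ⟨[14, 6, 14, 11, 11, 15, 10, 12], [4, 6, 4, 8, 10, 8, 6, 4, 6, 10, 10, 8, 6, 4, 6, 11, 8, 12], [14, 6, 10, 14, 6, 8], [.rel 7 1 (15, false, 0), .use 1605 true, .cancel 6, .use 1262 true, .cancel 6]⟩,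
  ⟨[14, 6, 10, 13, 14, 11, 5], [4, 8, 11, 8, 6, 4, 6, 11, 8, 6, 4, 6, 10, 8, 6, 4, 6, 10, 10, 8, 11], [14, 6, 10, 13, 14, 11], [.ins 6 12, .use 1605 false, .rel 7 2 (17, false, 0), .use 1602 true, .cancel 7, .use 1605 true, .cancel 6]⟩,
  ⟨[14, 6, 10, 14, 6, 8, 4], [8, 6, 4, 10, 8, 6, 4, 10, 8, 6, 4, 11, 8, 6, 4, 10, 8, 6, 11, 8, 10, 10], [14, 6, 10, 14, 6, 8], [.use 1607 true, .ins 7 4, .use 1602 false, .rel 7 3 (17, false, 1), .use 1607 false]⟩,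
  ⟨[14, 6, 10, 14, 11, 11, 11], [0, 13], [14, 6, 11, 5, 15, 10, 14, 11, 15], [.ins 6 13, .use 269 false, .use 1592 true, .use 600 true, .rel 7 3 (20, false, 1), .use 1607 false, .use 1252 true, .cancel 9]⟩,
  ⟨[14, 6, 10, 14, 6, 8, 11], [4, 8, 6, 4, 6, 8, 12, 11, 8, 6, 4, 6, 11, 8, 6, 4, 11], [14, 6, 10, 14, 10, 10], [.use 1607 true, .rel 7 2 (20, false, 2), .use 599 true, .cancel 6, .use 973 false, .use 98 false]⟩,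
  ⟨[14, 6, 11, 5, 15, 10, 15, 11, 14, 14], [], [14, 6, 11, 5, 15, 10, 14, 11], [.rel 9 1 (21, false, 1), .use 609 true, .cancel 8, .use 1473 false, .use 1253 true, .cancel 8, .use 1255 true, .cancel 8, .use 1473 false]⟩,
  ⟨[14, 6, 11, 5, 15, 10, 15, 11, 14], [], [14, 6, 11, 5, 15, 10, 14, 11, 15], [.ins 9 14, .use 1612 false, .use 411 false]⟩,
  ⟨[14, 6, 11, 5, 15, 10, 14, 11, 15, 15], [4, 10, 8, 6, 4, 6, 11, 11, 8, 6, 4, 6, 11, 8, 6, 4, 6, 10, 8, 10, 8], [14, 6, 11, 5, 15, 10, 14, 11], [.use 1613 true, .use 609 true, .cancel 8, .use 1473 false]⟩,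
  ⟨[14, 6, 10, 14, 6, 8, 6], [4, 8, 6, 4, 6, 8, 12, 11, 8, 6, 4, 6, 11, 8, 6, 4, 11], [14, 6, 10, 14, 10, 10, 6, 11], [.ins 6 11, .use 1611 false, .use 1163 true, .rel 7 3 (13, false, 1), .use 632 false]⟩,
  ⟨[14, 6, 10, 14, 6, 11, 15], [10, 8, 6, 11, 8, 6, 4, 6, 4, 8, 6, 11, 8, 12, 10], [14, 6, 10, 14, 10, 10, 6], [.use 1604 true, .use 434 true, .ins 9 13, .use 1162 false, .rel 7 4 (26, false, 1)]⟩,
  ⟨[14, 6, 10, 14, 6, 11, 14], [4, 6, 4, 6, 10, 10, 8, 6, 4, 6, 8, 12, 11], [14, 6, 10, 14, 10, 10, 6], [.use 1604 true, .use 1546 true, .use 1544 true, .ins 9 13, .use 1162 false, .rel 7 4 (26, false, 3)]⟩,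
  ⟨[14, 6, 10, 14, 6, 10], [6, 4, 8, 6, 4, 6, 10, 8, 6, 4, 13, 10, 8, 6, 10, 8, 10], [14, 6, 14, 10, 8], [.ins 5 11, .use 97 false, .ins 6 14, .use 1617 false, .rel 7 3 (27, false, 3), .use 1087 false, .use 97 true, .cancel 5, .use 96 false, .use 1611 false, .use 98 true, .cancel 5, .use 967 false, .use 1341 false, .use 24 true, .cancel 3, .use 23 false, .use 278 true, .cancel 5]⟩,
  ⟨[14, 6, 10, 14, 10, 10, 6, 11, 11, 14, 10], [4, 6, 10, 8, 6, 4, 6, 4, 10, 10, 8, 6, 4, 11, 8], [14, 6, 8, 14, 10, 13], [.use 634 true, .use 633 true, .use 632 true, .rel 7 4 (30, false, 7), .use 631 true, .cancel 6, .use 98 true, .cancel 5, .use 43 true, .cancel 4, .use 18 true, .cancel 3, .use 16 false, .use 197 true, .cancel 4, .use 162 false, .use 158 true, .cancel 3, .use 159 true, .cancel 3, .use 160 false, .use 626 true, .cancel 8,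 .use 848 false, .use 1361 false, .use 160 true, .cancel 3, .use 173 true, .cancel 3, .use 178 true, .cancel 3, .use 177 true, .cancel 4, .use 639 false, .use 830 false, .use 1210 false, .use 1327 false, .use 177 false, .use 178 false, .use 173 false, .use 142 true, .cancel 3, .use 165 false, .use 130 true, .cancel 3, .use 161 true, .cancel 4, .use 618 true, .cancel 8, .use 844 false, .use 1363 false, .use 161 false, .use 130 false, .use 165 true, .cancel 3, .use 142 false, .use 142 true, .cancel 3, .use 165 false, .use 171 false, .use 142 false, .use 173 true, .cancel 3, .use 177 true, .cancel 4, .use 16 true, .cancel 3, .use 5 true, .cancel 2, .use 374 true, .cancel 5, .use 1353 false, .use 23 false, .use 53 false, .use 282 true, .cancel 6, .use 304 true, .cancel 6]⟩,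
  ⟨[14, 6, 10, 14, 10, 10, 6, 11, 11, 14], [4, 6, 10, 8, 6, 4, 6, 4, 10, 10, 8, 6, 4, 11, 8], [14, 6, 8, 14, 11, 13], [.ins 10 10, .use 1619 false, .use 247 true, .cancel 6]⟩,
  ⟨[14, 6, 8, 14, 11, 13, 15], [4, 6, 10, 10, 8, 6, 4, 6, 4, 10, 8, 6, 4, 6, 10], [14, 6, 10, 14, 10, 10, 6, 11, 11], [.use 1620 true, .use 634 true, .cancel 9]⟩,
  ⟨[14, 6, 10, 14, 10, 10, 6, 11, 11], [4, 6, 10, 8, 6, 4, 6, 4, 10, 10, 8, 6, 4, 11, 8], [14, 6, 8, 10, 14, 10, 12], [.use 1621 true, .use 1038 true, .cancel 7]⟩,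
  ⟨[14, 6, 8, 10, 14, 10, 12, 10], [4, 6, 10, 10, 8, 6, 4, 6, 4, 10, 8, 6, 4, 6, 10], [14, 6, 10, 14, 10, 10, 6, 11], [.use 1622 true, .use 633 true, .cancel 8]⟩,
  ⟨[14, 6, 8, 14, 11, 13, 14, 10], [0, 4, 6, 8, 11, 8, 6, 4, 6, 8, 11, 8, 6, 4, 6, 8, 11], [14, 6, 10, 14, 10, 10, 6, 11], [.use 1511 true, .use 1623 false]⟩,
  ⟨[14, 6, 10, 14, 10, 10, 6, 11, 12], [4, 6, 10, 8, 6, 4, 6, 4, 8, 6, 12, 10, 8, 6, 4], [14, 6, 8, 14, 11, 11, 15, 10, 10], [.use 1624 true, .use 1586 false]⟩,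
  ⟨[14, 6, 10, 14, 10, 10, 6, 11, 5], [8, 6, 4, 10, 8, 6, 4, 10, 8, 6, 4, 11, 8, 6, 4, 10, 8, 6, 11, 8, 10, 10], [14, 6, 10, 14, 10, 10, 6, 11], [.use 1624 true, .use 1589 false, .use 1624 false]⟩,
  ⟨[14, 6, 11, 8, 13, 5], [4, 8, 11, 8, 6, 4, 6, 11, 8, 6, 4, 6, 10, 8, 6, 4, 6, 10, 10, 8, 11], [14, 6, 11, 8, 13], [.ins 5 6, .use 225 false, .use 210 true, .ins 4 11, .use 197 false, .use 16 true, .use 5 true, .use 143 true, .use 144 true, .use 1349 true, .ins 4 4, .use 392 false, .ins 3 6, .use 144 false, .ins 3 8, .use 143 false, .ins 2 10, .use 5 false, .ins 3 10, .use 16 false, .use 16 true, .use 5 true, .use 1321 true, .use 396 true, .ins 3 10, .use 23 false, .ins 4 10, .use 53 false, .use 282 true, .use 304 true, .use 247 true, .use 1038 true, .use 1622 true, .use 633 true, .use 632 true, .rel 7 24 (30, false, 13),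 .use 631 true, .cancel 6, .use 98 true, .cancel 5, .use 43 true, .cancel 4, .use 18 true, .cancel 3, .use 16 false, .use 197 true, .cancel 4, .use 162 false, .use 142 true, .cancel 3, .use 165 false, .use 171 false, .use 142 false, .use 173 true, .cancel 3, .use 177 true, .cancel 4, .use 827 false, .use 639 false, .use 830 false, .use 1210 false, .use 1327 false, .use 183 true, .cancel 3, .use 176 true, .cancel 3, .use 183 false, .use 197 true, .cancel 4, .use 210 false, .use 225 true, .cancel 5]⟩,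
  ⟨[14, 6, 10, 14, 10, 10, 6, 11, 6], [4, 6, 4, 11, 8, 6, 4, 6, 10, 8, 10, 8, 6, 4, 6, 8, 13], [14, 6, 10, 14, 6, 8], [.rel 8 1 (4, false, 0), .use 1615 true, .cancel 6]⟩,
  ⟨[14, 6, 10, 8, 14, 6, 8], [4, 8, 6, 4, 6, 8, 12, 11, 8, 6, 4, 6, 11, 8, 6, 4, 11], [14, 6, 10, 14, 10, 10, 6, 11], [.use 88 true, .use 199 true, .use 262 true, .use 325 true, .use 1628 true, .rel 8 6 (9, false, 0)]⟩,
  ⟨[14, 6, 10, 14, 10, 10, 6, 11, 8], [4, 6, 4, 11, 8, 6, 4, 6, 10, 8, 10, 8, 6, 4, 6, 8, 13], [14, 6, 10, 8, 14, 6], [.rel 8 1 (9, false, 1), .use 1615 true, .cancel 6, .use 96 true, .cancel 5, .use 42 true, .cancel 4, .use 198 true, .cancel 5, .use 324 true, .cancel 6]⟩,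
  ⟨[14, 6, 14, 10, 8, 10], [4, 8, 6, 4, 10, 8, 6, 4, 10, 8, 6, 4, 10, 10, 8, 6, 12, 10, 8], [14, 6, 8, 10, 13, 14, 10], [.use 1618 true, .ins 5 11, .use 97 false, .use 1087 true, .ins 7 11, .use 632 false, .rel 8 5 (10, false, 0), .use 633 false, .use 1622 false, .use 998 false]⟩,
  ⟨[14, 6, 8, 10, 15, 12], [4, 8, 6, 4, 13, 10, 8, 6, 4, 6, 11, 8, 6, 4, 11, 8, 6, 10, 8, 6], [14, 6, 14, 10, 8], [.use 1446 true, .ins 6 10, .use 720 false, .use 1631 true, .cancel 5]⟩,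
  ⟨[14, 6, 14, 10, 8, 13], [4, 8, 6, 4, 10, 8, 6, 4, 10, 8, 6, 4, 10, 10, 8, 6, 12, 10, 8], [14, 6, 8, 10, 14], [.use 1632 true, .use 703 true, .cancel 5, .use 1410 false]⟩,
  ⟨[14, 6, 8, 14, 11, 8, 11, 11], [4, 6, 8, 6, 4, 11, 8, 6, 4, 11, 8, 6, 4, 10, 8, 6, 13, 10, 8], [14, 6, 8, 10, 14], [.use 958 true, .use 1633 false]⟩,
  ⟨[14, 6, 14, 10, 8, 14], [6, 8, 6, 4, 10, 8, 6, 11, 8, 6, 4, 6, 4, 10, 8, 6, 4, 10, 8, 12], [14, 6, 8, 10, 13], [.use 1632 true, .use 704 false]⟩,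
  ⟨[14, 6, 14, 10, 8, 5], [4, 8, 11, 8, 6, 4, 6, 11, 8, 6, 4, 6, 10, 8, 6, 4, 6, 10, 10, 8, 11], [14, 6, 14, 10, 8], [.use 1632 true, .use 988 false, .use 1446 false, .use 1632 false]⟩,
  ⟨[14, 6, 14, 10, 8, 4], [4, 8, 11, 8, 6, 4, 6, 11, 8, 6, 4, 6, 10, 8, 6, 4, 6, 10, 10, 8, 11], [14, 6, 14, 10, 8], [.use 1632 true, .use 1446 true, .use 988 true, .cancel 6, .use 1632 false]⟩,
  ⟨[14, 6, 14, 10, 8, 15], [4, 8, 6, 4, 10, 8, 6, 4, 10, 8, 6, 4, 10, 10, 8, 6, 12, 10, 8], [14, 6, 8, 10, 13], [.use 1632 true, .use 989 false, .use 1408 false]⟩,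
  ⟨[14, 6, 14, 10, 8, 9], [6, 8, 6, 4, 6, 10, 8, 6, 4, 6, 10, 8, 6, 4, 6, 13, 11, 8, 6, 4], [14, 6, 11, 8, 11, 11, 15], [.use 1632 true, .use 990 false]⟩,
  ⟨[14, 6, 11, 8, 11, 11, 15], [4, 6, 8, 6, 4, 6, 10, 8, 6, 4, 6, 12, 11, 8, 6, 4, 6, 11, 8, 6], [14, 6, 14, 10], [.use 1639 true, .use 52 true, .cancel 4]⟩,
  ⟨[14, 6, 14, 10, 8, 12], [4, 8, 6, 4, 10, 8, 6, 4, 6, 11, 8, 6, 4, 11, 8, 6, 10, 8, 6], [14, 6, 8, 10, 10, 14], [.use 1632 true, .use 1493 false]⟩,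
  ⟨[14, 6, 14, 10, 8, 11], [0, 4, 8, 6, 4, 10, 8, 6, 4, 10, 8, 6, 4, 13, 10, 8, 6, 10, 10, 8], [14, 6, 8, 11, 11, 5, 15, 10, 14], [.use 1632 true, .use 1494 false]⟩,
  ⟨[14, 6, 8, 11, 11, 5, 15, 10, 14], [4, 6, 4, 8, 6, 10, 8, 6, 4, 6, 4, 8, 6, 13, 10], [14, 6, 10, 14, 6], [.use 1642 true, .use 1618 true, .cancel 5]⟩,
  ⟨[14, 6, 8, 10, 14, 10], [8, 6, 4, 10, 8, 6, 4, 6, 12, 11, 8, 6, 4, 11, 8, 6, 4, 11, 8], [14, 6, 8, 14, 11, 8, 11], [.use 1634 true, .use 585 true, .cancel 7]⟩,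
  ⟨[14, 6, 8, 14, 11, 8, 11], [4, 6, 8, 6, 4, 11, 8, 6, 4, 11, 8, 6, 4, 10, 8, 6, 13, 10, 8], [14, 6, 8, 10, 14, 10], [.use 1644 true, .use 63 false]⟩,
  ⟨[14, 6, 8, 10, 14, 9], [8, 6, 4, 10, 8, 6, 4, 11, 13, 11, 8, 6, 4, 10, 8, 6, 4, 10, 8], [14, 6, 14, 10, 13], [.use 1634 true, .use 586 false]⟩,
  ⟨[14, 6, 8, 10, 15, 9], [4, 8, 6, 4, 13, 10, 8, 6, 4, 6, 11, 8, 6, 4, 11, 8, 6, 10, 8, 6], [14, 6, 14, 10, 13], [.use 1447 true, .use 1646 false]⟩,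
  ⟨[14, 6, 14, 10, 14], [6, 8, 6, 4, 6, 10, 8, 6, 4, 6, 10, 8, 6, 4, 6, 13, 11, 8, 6, 4], [14, 6, 11, 8, 11, 11], [.use 1640 true, .use 554 true, .cancel 6]⟩,
  ⟨[14, 6, 11, 8, 11, 11], [4, 6, 8, 6, 4, 6, 10, 8, 6, 4, 6, 12, 11, 8, 6, 4, 6, 11, 8, 6], [14, 6, 11, 14, 11], [.use 1648 true, .use 407 true, .cancel 6, .use 543 false]⟩,
  ⟨[14, 6, 14, 10, 10], [6, 8, 6, 4, 6, 10, 8, 6, 4, 6, 10, 8, 6, 4, 6, 13, 11, 8, 6, 4], [14, 6, 11, 8, 11, 11, 15, 10], [.use 1640 true, .use 555 false]⟩,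
  ⟨[14, 6, 11, 8, 11, 11, 15, 10], [4, 6, 8, 6, 4, 6, 10, 8, 6, 4, 6, 12, 11, 8, 6, 4, 6, 11, 8, 6], [14, 6, 14, 10, 10], [.use 1650 true, .use 53 false]⟩,
  ⟨[14, 6, 14, 10, 4], [4, 8, 11, 8, 6, 4, 6, 11, 8, 6, 4, 6, 10, 8, 6, 4, 6, 10, 10, 8, 11], [14, 6, 14, 10], [.use 1640 true, .use 1560 false, .use 1640 false]⟩,
  ⟨[14, 6, 14, 10, 5], [4, 8, 11, 8, 6, 4, 6, 11, 8, 6, 4, 6, 10, 8, 6, 4, 6, 10, 10, 8, 11], [14, 6, 14, 10], [.use 1640 true, .use 1560 true, .cancel 7, .use 1640 false]⟩,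
  ⟨[14, 6, 10, 14, 6, 15], [10, 8, 6, 4, 6, 12, 11, 8, 6, 4, 10, 8, 6, 4, 6, 8, 10], [14, 6, 8, 11, 11, 15, 10], [.use 1643 true, .use 758 true, .cancel 8, .use 1013 false, .use 1484 false]⟩,
  ⟨[14, 6, 11, 14, 6, 8], [4, 6, 4, 6, 8, 6, 4, 6, 10, 8, 6, 11, 12], [14, 6, 8, 11, 11, 15, 10], [.use 1454 true, .ins 9 14, .use 1261 false, .use 1654 false]⟩,
  ⟨[14, 6, 10, 14, 6, 11], [4, 6, 4, 6, 11, 8, 6, 4, 6, 8, 12, 10, 8, 6, 4], [14, 6, 8, 11, 11, 5, 15, 10, 14, 11], [.use 1643 true, .use 759 false]⟩,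
  ⟨[14, 6, 8, 11, 11, 5, 15, 10, 14, 11], [4, 6, 4, 8, 6, 10, 8, 6, 4, 6, 4, 8, 6, 13, 10], [14, 6, 10, 14, 6, 11], [.use 1656 true, .use 97 false]⟩,
  ⟨[14, 6, 8, 10, 14, 10, 10], [8, 6, 4, 10, 8, 6, 4, 6, 12, 11, 8, 6, 4, 11, 8, 6, 4, 11, 8], [14, 6, 8, 14, 11, 8], [.use 1645 true, .use 584 true, .cancel 6]⟩,
  ⟨[14, 6, 8, 15, 11, 14, 10], [8, 6, 4, 10, 8, 6, 4, 6, 12, 11, 8, 6, 4, 11, 8, 6, 4, 11, 8], [14, 6, 8, 14, 11, 8], [.use 1037 true, .use 1658 false]⟩,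
  ⟨[14, 6, 14, 10, 13, 14], [6, 8, 6, 4, 10, 8, 6, 11, 8, 6, 4, 6, 4, 10, 8, 6, 4, 10, 8, 12], [14, 6, 8, 10, 8], [.use 1647 true, .use 695 false]⟩,
  ⟨[14, 6, 14, 10, 13, 6], [6, 8, 6, 4, 10, 8, 6, 11, 8, 6, 4, 6, 4, 10, 8, 6, 4, 10, 8, 12], [14, 6, 8, 10, 15, 9, 6], [.use 1647 true, .use 742 false]⟩,
  ⟨[14, 6, 8, 10, 15, 9, 6], [4, 6, 8, 6, 4, 11, 8, 6, 4, 10, 8, 6, 4, 6, 11, 8, 6, 11, 13], [14, 6, 8, 14, 11, 13], [.use 1661 true, .use 283 true, .cancel 6]⟩,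
  ⟨[14, 6, 14, 10, 13, 5], [4, 8, 11, 8, 6, 4, 6, 11, 8, 6, 4, 6, 10, 8, 6, 4, 6, 10, 10, 8, 11], [14, 6, 14, 10, 13], [.use 1647 true, .use 1562 false, .use 1647 false]⟩]

/-- Equations. -/
def part26 : List CFact := [
  ⟨[14, 6, 14, 10, 13, 4], [4, 8, 11, 8, 6, 4, 6, 11, 8, 6, 4, 6, 10, 8, 6, 4, 6, 10, 10, 8, 11], [14, 6, 14, 10, 13], [.use 1647 true, .use 1562 true, .cancel 6, .use 1647 false]⟩,
  ⟨[14, 6, 14, 10, 13, 15], [4, 8, 6, 4, 10, 8, 6, 4, 10, 8, 6, 4, 10, 10, 8, 6, 12, 10, 8], [14, 6, 8, 10, 8], [.use 1647 true, .use 1564 true, .cancel 5]⟩,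
  ⟨[14, 6, 11, 14, 11, 10], [6, 8, 6, 4, 6, 10, 8, 6, 4, 6, 10, 8, 6, 4, 6, 13, 11, 8, 6, 4], [14, 6, 11, 8, 11], [.use 1649 true, .use 452 true, .cancel 5]⟩,
  ⟨[14, 6, 11, 8, 11], [4, 6, 8, 6, 4, 6, 10, 8, 6, 4, 6, 12, 11, 8, 6, 4, 6, 11, 8, 6], [14, 6, 11, 14], [.use 1666 true, .use 51 true, .cancel 4]⟩,
  ⟨[14, 6, 11, 14, 11, 9], [6, 8, 6, 4, 10, 8, 6, 11, 8, 6, 4, 6, 4, 10, 8, 6, 4, 10, 8, 12], [14, 6, 8, 10, 13], [.use 1649 true, .use 453 false]⟩,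
  ⟨[14, 6, 11, 14, 11, 8], [6, 8, 6, 4, 10, 8, 6, 11, 8, 6, 4, 6, 4, 10, 8, 6, 4, 10, 8, 12], [14, 6, 8, 10, 13], [.use 1649 true, .use 823 false]⟩,
  ⟨[14, 6, 11, 14, 11, 12], [6, 8, 6, 4, 10, 8, 6, 11, 8, 6, 4, 6, 4, 10, 8, 6, 4, 10, 8, 12], [14, 6, 8, 10, 8], [.use 1649 true, .use 824 false]⟩,
  ⟨[14, 6, 11, 14, 11, 13], [6, 8, 6, 4, 10, 8, 6, 11, 8, 6, 4, 6, 4, 10, 8, 6, 4, 10, 8, 12], [14, 6, 8, 10, 8, 12], [.use 1649 true, .use 912 false]⟩,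
  ⟨[14, 6, 11, 15, 11, 14, 10, 15], [4, 6, 8, 6, 4, 11, 8, 6, 10, 8, 6, 4, 6, 11, 8, 6, 4, 6, 10, 8], [14, 6, 8, 10, 8, 12], [.use 1459 true, .use 1671 false]⟩,
  ⟨[14, 6, 11, 14, 11, 7], [6, 8, 6, 4, 10, 8, 6, 11, 8, 6, 4, 6, 4, 10, 8, 6, 4, 11, 8, 13, 10], [14, 6, 11, 8, 10, 10], [.use 1649 true, .use 979 false]⟩,
  ⟨[14, 6, 11, 14, 11, 6], [6, 8, 6, 4, 10, 8, 6, 11, 8, 6, 4, 6, 4, 10, 8, 6, 4, 11, 8, 13, 10], [14, 6, 11, 8, 10, 10], [.use 1649 true, .use 980 true, .cancel 6]⟩,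
  ⟨[14, 6, 14, 10, 10, 10], [6, 8, 6, 4, 6, 10, 8, 6, 4, 6, 10, 8, 6, 4, 6, 13, 11, 8, 6, 4], [14, 6, 11, 8, 11, 11, 15, 10, 10], [.use 1651 true, .use 556 false]⟩,
  ⟨[14, 6, 11, 8, 11, 11, 15, 10, 10], [4, 6, 8, 6, 4, 11, 8, 6, 4, 11, 8, 6, 4, 10, 8, 6, 13, 10, 8], [14, 6, 14, 11, 13], [.use 1675 true, .use 284 true, .cancel 5]⟩,
  ⟨[14, 6, 8, 11, 11, 15, 10, 11], [6, 8, 6, 4, 6, 10, 8, 6, 4, 6, 10, 8, 6, 4, 6, 13, 11, 8, 6, 4], [14, 6, 10, 8, 11, 11, 15, 10], [.use 1655 true, .use 1244 false]⟩,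
  ⟨[14, 6, 10, 8, 11, 11, 15, 10], [4, 6, 8, 6, 4, 6, 10, 8, 6, 4, 6, 12, 11, 8, 6, 4, 6, 11, 8, 6], [14, 6, 8, 11, 11, 15], [.use 1677 true, .use 399 true, .cancel 6]⟩,
  ⟨[14, 6, 8, 11, 11, 15, 10, 6], [6, 4, 13, 11, 8, 6, 4, 6, 11, 8, 6, 4, 6, 8, 11, 8], [14, 6, 10, 15, 6, 14, 6], [.use 1655 true, .use 1301 false]⟩,
  ⟨[14, 6, 10, 14, 6, 11, 13], [4, 6, 10, 8, 6, 4, 6, 4, 10, 10, 8, 6, 4, 11, 8], [14, 6, 8, 10, 14, 11], [.use 1657 true, .use 1138 false]⟩,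
  ⟨[14, 6, 10, 14, 10, 12, 6, 11, 11, 14], [6, 4, 6, 4, 11, 8, 6, 4, 6, 11, 8, 6, 4, 13, 10], [14, 6, 8, 10, 14, 11], [.ins 10 12, .use 1604 false, .use 1680 false]⟩,
  ⟨[14, 6, 8, 14, 11, 8, 15], [4, 6, 8, 6, 4, 11, 8, 6, 4, 11, 8, 6, 4, 10, 8, 6, 13, 10, 8], [14, 6, 8, 15, 11, 14, 10, 15], [.use 1659 true, .use 468 false]⟩,
  ⟨[14, 6, 8, 14, 11, 8, 5], [4, 8, 11, 8, 6, 4, 6, 11, 8, 6, 4, 6, 10, 8, 6, 4, 6, 10, 10, 8, 11], [14, 6, 8, 14, 11, 8], [.use 1659 true, .use 1129 true, .cancel 7, .use 1486 false, .use 1659 false]⟩,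
  ⟨[14, 6, 8, 14, 11, 8, 4], [4, 8, 11, 8, 6, 4, 6, 11, 8, 6, 4, 6, 10, 8, 6, 4, 6, 10, 10, 8, 11], [14, 6, 8, 14, 11, 8], [.use 1659 true, .use 1486 true, .use 1129 false, .use 1659 false]⟩,
  ⟨[14, 6, 8, 14, 11, 8, 14], [8, 6, 4, 10, 10, 8, 6, 4, 6, 11, 8, 6, 4, 11, 8, 6, 4, 11, 8, 13], [14, 6, 8, 15, 11, 15, 10, 14], [.use 1659 true, .use 1507 false]⟩,
  ⟨[14, 6, 8, 14, 11, 13, 14], [6, 4, 12, 11, 8, 6, 4, 10, 8, 6, 4, 11, 8, 6, 4, 6, 10, 10, 8], [14, 6, 8, 10, 15, 9, 6, 14], [.use 1662 true, .use 743 false]⟩,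
  ⟨[14, 6, 8, 10, 15, 9, 6, 14], [0, 8, 6, 4, 6, 11, 8, 6, 4, 10, 8, 6, 4, 11, 8, 6, 4, 13, 11], [14, 6, 8, 10, 14, 10, 12], [.use 1686 true, .use 644 false, .use 1490 false]⟩,
  ⟨[14, 6, 11, 14, 10], [6, 8, 6, 4, 6, 10, 8, 6, 4, 6, 10, 8, 6, 4, 6, 13, 11, 8, 6, 4], [14, 6, 11, 8], [.use 1667 true, .use 451 true, .cancel 4]⟩,
  ⟨[14, 6, 11, 5, 15, 10], [6, 8, 6, 4, 10, 8, 6, 4, 11, 8, 6, 4, 6, 10, 8, 6, 4, 10, 8, 13], [14, 6, 11, 8], [.use 545 true, .use 416 true, .use 1688 false]⟩,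
  ⟨[14, 6, 11, 14, 8], [6, 8, 6, 4, 6, 10, 8, 6, 4, 6, 10, 8, 6, 4, 6, 13, 11, 8, 6, 4], [14, 6, 11, 8, 11, 8], [.use 1667 true, .use 534 false]⟩,
  ⟨[14, 6, 11, 8, 11, 8], [4, 6, 8, 6, 4, 6, 10, 8, 6, 4, 6, 12, 11, 8, 6, 4, 6, 11, 8, 6], [14, 6, 11, 8, 14], [.use 1690 true, .use 215 false]⟩,
  ⟨[14, 6, 11, 14, 7], [6, 8, 6, 4, 10, 8, 6, 11, 8, 6, 4, 6, 4, 10, 8, 6, 4, 11, 8, 13, 10], [14, 6, 11, 8, 10], [.use 1667 true, .use 909 true, .cancel 5]⟩,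
  ⟨[14, 6, 11, 14, 10, 10], [6, 8, 6, 4, 6, 10, 8, 6, 4, 6, 10, 8, 6, 4, 6, 13, 11, 8, 6, 4], [14, 6, 11, 8, 10], [.use 1412 true, .ins 5 6, .use 944 false, .use 1692 false]⟩,
  ⟨[14, 6, 11, 14, 13], [6, 8, 6, 4, 10, 8, 6, 11, 8, 6, 4, 6, 4, 10, 8, 6, 4, 10, 8], [14, 6, 11, 8, 11, 8, 10], [.use 1667 true, .use 1101 false]⟩,
  ⟨[14, 6, 11, 8, 11, 8, 10], [4, 8, 6, 4, 10, 8, 6, 4, 10, 8, 6, 4, 13, 10, 8, 6, 10, 10, 8], [14, 6, 11, 11, 14], [.use 1694 true, .use 216 true, .cancel 5]⟩,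
  ⟨[14, 6, 8, 10, 8, 12, 14], [8, 6, 4, 6, 11, 8, 6, 4, 6, 10, 8, 6, 4, 10, 8, 6, 11, 8, 6, 4], [14, 6, 14, 10, 10], [.use 1672 true, .use 569 true, .cancel 7, .use 1270 false]⟩,
  ⟨[14, 6, 8, 10, 8, 12, 5], [4, 8, 11, 8, 6, 4, 6, 11, 8, 6, 4, 6, 10, 8, 6, 4, 6, 10, 10, 8, 11], [14, 6, 8, 10, 8, 12], [.use 1672 true, .use 1577 false, .use 1672 false]⟩,
  ⟨[14, 6, 8, 10, 8, 12, 4], [4, 8, 11, 8, 6, 4, 6, 11, 8, 6, 4, 6, 10, 8, 6, 4, 6, 10, 10, 8, 11], [14, 6, 8, 10, 8, 12], [.use 1672 true, .use 1577 true, .cancel 8, .use 1672 false]⟩,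
  ⟨[14, 6, 8, 10, 8, 12, 10], [4, 6, 8, 6, 4, 6, 4, 11, 8, 6, 4, 6, 10, 8, 6, 4, 6, 11, 8, 11, 8], [14, 6, 11, 14, 10, 10, 6, 11, 11, 14], [.use 1672 true, .use 1578 false]⟩,
  ⟨[14, 6, 11, 14, 10, 10, 6, 11, 11, 14], [6, 4, 10, 8, 6, 4, 10, 8, 6, 4, 11, 8, 6, 4, 11, 8, 6, 12, 10, 8, 11], [14, 6, 11, 8, 13], [.use 1699 true, .use 256 true, .cancel 5]⟩,
  ⟨[14, 6, 8, 10, 8, 12, 11], [4, 6, 8, 6, 4, 12, 11, 8, 6, 4, 11, 8, 6, 4, 10, 8, 6, 10, 10, 8], [14, 6, 11, 11, 14, 10, 10], [.use 1672 true, .use 1579 false]⟩,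
  ⟨[14, 6, 8, 10, 8, 12, 15], [4, 6, 8, 6, 4, 11, 8, 6, 10, 8, 6, 4, 6, 11, 8, 6, 4, 6, 10, 8], [14, 6, 14, 10, 10], [.use 1672 true, .use 1580 true, .cancel 5]⟩,
  ⟨[14, 6, 14, 11, 13, 8], [4, 6, 8, 6, 4, 11, 8, 6, 10, 8, 6, 4, 6, 11, 8, 6, 4, 6, 10, 8], [14, 6, 10, 14, 10, 12], [.use 1676 true, .use 557 false, .use 1347 false]⟩,
  ⟨[14, 6, 14, 11, 13, 9], [4, 6, 8, 6, 4, 11, 8, 6, 10, 8, 6, 4, 6, 11, 8, 6, 4, 6, 10, 8], [14, 6, 10, 14, 10, 12], [.use 1676 true, .use 852 true, .cancel 10, .use 1347 false]⟩,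
  ⟨[14, 6, 14, 11, 13, 4], [4, 8, 11, 8, 6, 4, 6, 11, 8, 6, 4, 6, 10, 8, 6, 4, 6, 10, 10, 8, 11], [14, 6, 14, 11, 13], [.use 1676 true, .use 1565 false, .use 1676 false]⟩,
  ⟨[14, 6, 14, 11, 13, 5], [4, 8, 11, 8, 6, 4, 6, 11, 8, 6, 4, 6, 10, 8, 6, 4, 6, 10, 10, 8, 11], [14, 6, 14, 11, 13], [.use 1676 true, .use 1565 true, .cancel 9, .use 1676 false]⟩,
  ⟨[14, 6, 8, 11, 11, 15, 11], [6, 8, 6, 4, 6, 10, 8, 6, 4, 6, 10, 8, 6, 4, 6, 13, 11, 8, 6, 4], [14, 6, 10, 8, 11, 11, 15], [.use 1678 true, .use 503 true, .cancel 7]⟩,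
  ⟨[14, 6, 10, 8, 11, 11, 15], [0, 8, 6, 4, 10, 10, 8, 6, 4, 10, 8, 6, 4, 12, 10, 8, 6, 4, 10, 8], [14, 6, 8, 11, 5, 15, 10, 14], [.use 1707 true, .use 1216 false, .use 1480 false]⟩,
  ⟨[14, 6, 8, 10, 14, 11, 15], [4, 6, 10, 8, 6, 4, 6, 4, 12, 10, 8, 6, 4, 6, 10], [14, 6, 10, 14, 10, 12, 6, 11, 11], [.use 1681 true, .use 434 true, .cancel 9]⟩,
  ⟨[14, 6, 8, 10, 14, 11, 10], [4, 6, 10, 10, 8, 6, 4, 6, 4, 10, 8, 6, 4, 6, 10, 13], [14, 6, 10, 10, 14, 10, 10, 6, 11], [.use 1681 true, .use 1545 false]⟩,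
  ⟨[14, 6, 10, 10, 14, 10, 10, 6, 11], [4, 6, 8, 11, 8, 6, 4, 6, 4, 11, 8, 6, 4, 12, 11, 8], [14, 6, 8, 10, 14], [.use 1710 true, .use 64 true, .cancel 5]⟩,
  ⟨[14, 6, 8, 10, 14, 11, 14], [0, 4, 6, 8, 12, 11, 8, 6, 4, 6, 8, 11, 8, 6, 4, 6, 8, 11], [14, 6, 10, 14, 10, 12, 6, 11, 11], [.use 1681 true, .use 1547 false]⟩,
  ⟨[14, 6, 8, 10, 15, 11, 14], [4, 6, 10, 8, 6, 4, 6, 4, 12, 10, 8, 6, 4, 6, 10], [14, 6, 10, 14, 10, 12, 6, 11, 11], [.use 1496 true, .use 1712 false]⟩,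
  ⟨[14, 6, 8, 10, 14, 11, 7], [4, 6, 4, 8, 6, 4, 6, 12, 11, 8, 6, 4, 6, 8, 10, 10], [14, 6, 14, 11, 11, 15], [.use 1681 true, .use 1584 true, .cancel 6]⟩,
  ⟨[14, 6, 8, 10, 14, 11, 6], [4, 6, 4, 8, 6, 4, 6, 12, 11, 8, 6, 4, 6, 8, 10, 10], [14, 6, 14, 11, 11, 15], [.use 1681 true, .use 1600 false]⟩,
  ⟨[14, 6, 8, 10, 14, 11, 13], [4, 6, 10, 10, 8, 6, 4, 6, 4, 10, 8, 6, 4, 6, 10], [14, 6, 10, 14, 10, 12, 6], [.use 1681 true, .use 1603 true, .cancel 7]⟩,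
  ⟨[14, 6, 8, 10, 14, 10, 12, 6], [0, 4, 6, 4, 11, 8, 6, 4, 11, 11, 8, 6, 4, 11, 8, 6, 12, 10, 8], [14, 6, 8, 10, 15, 9, 6, 14, 6], [.use 1687 true, .use 744 false]⟩,
  ⟨[14, 6, 8, 10, 15, 9, 6, 14, 6], [0, 8, 6, 4, 6, 11, 8, 6, 4, 10, 8, 6, 4, 11, 8, 6, 4, 13, 11], [14, 6, 8, 10, 13, 14, 10, 10, 6], [.use 1717 true, .use 1000 false]⟩,
  ⟨[14, 6, 11, 8, 14], [4, 8, 6, 4, 11, 8, 6, 4, 11, 8, 6, 4, 6, 10, 8, 6, 10, 10, 8, 12], [14, 6, 11, 5, 15, 10, 14], [.use 1689 true, .use 409 false]⟩,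
  ⟨[14, 6, 11, 5, 15, 10, 14], [6, 8, 6, 4, 10, 8, 6, 4, 11, 8, 6, 4, 6, 10, 8, 6, 4, 10, 8, 13], [14, 6, 11, 8, 14], [.use 1719 true, .use 48 false]⟩,
  ⟨[14, 6, 11, 8, 12], [4, 6, 8, 6, 4, 6, 10, 8, 6, 4, 6, 12, 11, 8, 6, 4, 6, 11, 8, 6], [14, 6, 11, 13, 14, 10, 10], [.use 1689 true, .use 953 false]⟩,
  ⟨[14, 6, 11, 13, 14, 10, 10], [6, 8, 6, 4, 6, 10, 8, 6, 4, 6, 10, 8, 6, 4, 6, 13, 11, 8, 6, 4], [14, 6, 11, 8, 12], [.use 1721 true, .use 46 false]⟩,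
  ⟨[14, 6, 11, 8, 14, 10], [4, 6, 8, 6, 4, 6, 10, 8, 6, 4, 6, 12, 11, 8, 6, 4, 6, 11, 8, 6], [14, 6, 11, 11, 14], [.use 1691 true, .use 535 false, .use 1695 false]⟩,
  ⟨[14, 6, 11, 8, 14, 11], [6, 8, 6, 4, 10, 8, 6, 11, 8, 6, 4, 6, 4, 10, 8, 6, 4, 10, 8, 12], [14, 6, 11, 8, 13, 10], [.use 1691 true, .use 536 false]⟩,
  ⟨[14, 6, 11, 8, 14, 13], [6, 8, 6, 4, 10, 8, 6, 11, 8, 6, 4, 6, 4, 10, 8, 6, 4, 10, 8, 12], [14, 6, 11, 8, 12, 10], [.use 1691 true, .use 1105 true, .cancel 6]⟩,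
  ⟨[14, 6, 11, 8, 12, 15], [4, 8, 6, 4, 10, 8, 6, 4, 10, 8, 6, 4, 10, 10, 8, 6, 12, 10, 8], [14, 6, 11, 8, 12, 10], [.use 1424 true, .ins 9 12, .use 951 false, .use 1725 false]⟩,
  ⟨[14, 6, 11, 8, 10, 8], [6, 8, 6, 4, 6, 10, 8, 6, 4, 6, 10, 8, 6, 4, 6, 13, 11, 8, 6, 4], [14, 6, 8, 11, 11, 15, 10], [.use 1693 true, .use 816 true, .cancel 9, .use 1454 false, .use 1655 false]⟩]

/-- Equations. -/
def part27 : List CFact := [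
  ⟨[14, 6, 8, 11, 11, 15, 10], [4, 6, 8, 6, 4, 6, 10, 8, 6, 4, 6, 12, 11, 8, 6, 4, 6, 11, 8, 6], [14, 6, 8, 11, 8, 10], [.use 1727 true, .use 208 false]⟩,
  ⟨[14, 6, 11, 8, 10, 13], [4, 6, 8, 6, 4, 11, 8, 6, 4, 11, 8, 6, 4, 10, 8, 6, 10, 10, 8], [14, 6, 11, 11, 14, 10], [.use 1693 true, .use 952 true, .cancel 6]⟩,
  ⟨[14, 6, 11, 11, 14, 10], [8, 6, 4, 10, 10, 8, 6, 4, 6, 11, 8, 6, 4, 11, 8, 6, 4, 11, 8], [14, 6, 11, 8, 10, 13], [.use 1729 true, .use 103 false]⟩,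
  ⟨[14, 6, 11, 8, 10, 4], [4, 8, 11, 8, 6, 4, 6, 11, 8, 6, 4, 6, 10, 8, 6, 4, 6, 10, 10, 8, 11], [14, 6, 11, 8, 10], [.use 1693 true, .use 1224 false, .use 1238 false, .use 1412 false, .use 1693 false]⟩,
  ⟨[14, 6, 11, 8, 10, 5], [4, 8, 11, 8, 6, 4, 6, 11, 8, 6, 4, 6, 10, 8, 6, 4, 6, 10, 10, 8, 11], [14, 6, 11, 8, 10], [.use 1693 true, .use 1412 true, .use 1238 true, .use 1224 true, .cancel 6, .use 1693 false]⟩,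
  ⟨[14, 6, 11, 8, 10, 14], [6, 10, 8, 6, 4, 10, 8, 6, 4, 10, 8, 6, 4, 12, 11, 8, 6], [14, 6, 10, 14, 6, 8], [.use 1693 true, .use 1234 false]⟩,
  ⟨[14, 6, 11, 8, 10, 15], [8, 6, 11, 8, 6, 4, 6, 4, 10, 8, 6, 4, 10, 8, 6, 4, 10, 8, 12], [14, 6, 10, 14, 6, 8], [.use 1693 true, .use 1455 false]⟩,
  ⟨[14, 6, 11, 8, 13, 15], [10, 8, 6, 4, 10, 8, 6, 4, 13, 11, 8, 6, 4, 11, 8, 6, 4, 10, 8, 6, 10], [14, 6, 11, 14, 10, 10, 6, 11, 11], [.use 1700 true, .use 444 true, .cancel 9]⟩,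
  ⟨[14, 6, 11, 14, 10, 10, 6, 11, 11], [0, 10, 10, 8, 6, 4, 10, 8, 6, 4, 10, 8, 6, 4, 11, 8, 6, 4, 10, 8, 11, 12], [14, 6, 11, 8, 13, 14], [.use 1735 true, .use 627 false, .use 1420 false]⟩,
  ⟨[14, 6, 11, 8, 13, 10], [4, 6, 8, 10, 8, 6, 4, 6, 11, 8, 6, 4, 6, 11, 8, 6, 4, 6, 10, 8, 11], [14, 6, 11, 11, 14, 10, 10, 6, 11], [.use 1700 true, .use 445 false, .use 1558 false]⟩,
  ⟨[14, 6, 11, 11, 14, 10, 10, 6, 11], [4, 6, 4, 10, 8, 6, 4, 10, 8, 6, 4, 10, 8, 6, 4, 10, 8, 6, 11, 11, 8], [14, 6, 11, 8, 13, 10], [.use 1737 true, .use 106 false]⟩,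
  ⟨[14, 6, 8, 11, 5, 15, 10, 14, 14], [0, 4, 8, 6, 4, 10, 8, 6, 4, 10, 8, 6, 4, 13, 10, 8, 6, 10, 10, 8], [14, 6, 10, 8, 11, 11], [.use 1708 true, .use 502 true, .cancel 6]⟩,
  ⟨[14, 6, 10, 8, 11, 11], [4, 6, 8, 6, 4, 6, 10, 8, 6, 4, 6, 12, 11, 8, 6, 4, 6, 11, 8, 6], [14, 6, 8, 11, 14, 10], [.use 1739 true, .use 1143 false, .use 1431 false]⟩,
  ⟨[14, 6, 8, 11, 5, 15, 10, 14, 11], [6, 8, 6, 4, 6, 10, 8, 6, 4, 6, 10, 8, 6, 4, 6, 13, 11, 8, 6, 4], [14, 6, 10, 8, 11, 5, 15, 10, 14], [.use 1708 true, .use 1521 false]⟩,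
  ⟨[14, 6, 10, 8, 11, 5, 15, 10, 14], [4, 6, 8, 6, 4, 6, 10, 8, 6, 4, 6, 12, 11, 8, 6, 4, 6, 11, 8, 6], [14, 6, 8, 11, 5, 15, 10, 14, 11], [.use 1741 true, .use 463 false]⟩,
  ⟨[14, 6, 8, 10, 14, 10], [4, 6, 10, 10, 8, 6, 4, 6, 4, 10, 8, 6, 4, 6, 10, 13], [14, 6, 10, 10, 14, 10, 10, 6], [.use 1711 true, .use 572 true, .cancel 8]⟩,
  ⟨[14, 6, 10, 10, 14, 10, 10, 6], [4, 6, 8, 11, 8, 6, 4, 6, 4, 11, 8, 6, 4, 12, 11, 8], [14, 6, 8, 10, 14, 10], [.use 1743 true, .use 63 false]⟩,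
  ⟨[14, 6, 8, 10, 14, 7], [6, 4, 11, 8, 6, 4, 10, 8, 6, 4, 6, 8, 10, 12], [14, 6, 8, 15, 6, 11, 14, 10, 15], [.use 1711 true, .use 1582 true, .cancel 9]⟩,
  ⟨[14, 6, 8, 15, 6, 11, 14, 10, 15], [4, 6, 4, 13, 10, 8, 6, 4, 6, 8, 10, 8, 6, 11], [14, 6, 8, 10, 14, 6], [.use 1745 true, .use 295 true, .cancel 6]⟩,
  ⟨[14, 6, 10, 14, 10, 12, 6, 11, 11, 10], [6, 4, 6, 4, 11, 8, 6, 4, 6, 11, 8, 6, 4, 13, 10], [14, 6, 8, 10, 15, 11, 14, 10], [.use 1713 true, .use 717 false]⟩,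
  ⟨[14, 6, 8, 10, 15, 11, 14, 10], [4, 6, 10, 8, 6, 4, 6, 4, 12, 10, 8, 6, 4, 6, 10], [14, 6, 10, 14, 10, 12, 6, 11], [.use 1747 true, .use 433 true, .cancel 8]⟩,
  ⟨[14, 6, 11, 8, 14, 11], [4, 8, 6, 4, 11, 8, 6, 4, 11, 8, 6, 4, 6, 10, 8, 6, 10, 10, 8, 12], [14, 6, 11, 5, 15, 10, 14, 11], [.use 1720 true, .use 410 false]⟩,
  ⟨[14, 6, 11, 5, 15, 10, 14, 11], [8, 6, 10, 10, 8, 6, 4, 6, 4, 11, 8, 6, 4, 11, 8, 6, 4, 11, 8], [14, 6, 11, 8, 13, 10], [.use 1749 true, .use 1724 false]⟩,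
  ⟨[14, 6, 11, 8, 12, 11], [4, 6, 8, 6, 4, 6, 10, 8, 6, 4, 6, 12, 11, 8, 6, 4, 6, 11, 8, 6], [14, 6, 11, 13, 14, 10], [.use 1722 true, .use 362 true, .cancel 6]⟩,
  ⟨[14, 6, 11, 13, 14, 10], [6, 8, 6, 4, 6, 10, 8, 6, 4, 6, 10, 8, 6, 4, 6, 13, 11, 8, 6, 4], [14, 6, 11, 8, 12, 11], [.use 1751 true, .use 105 false]⟩,
  ⟨[14, 6, 11, 8, 12, 10, 14], [8, 6, 4, 10, 8, 6, 4, 11, 13, 11, 8, 6, 4, 10, 8, 6, 4, 10, 8], [14, 6, 11, 8, 12], [.use 1726 true, .use 619 true, .cancel 5]⟩,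
  ⟨[14, 6, 11, 8, 12, 10, 6], [8, 6, 4, 10, 8, 6, 4, 11, 13, 11, 8, 6, 4, 10, 8, 6, 4, 10, 8], [14, 6, 11, 8, 12, 15, 6], [.use 1726 true, .use 620 false]⟩,
  ⟨[14, 6, 11, 8, 12, 15, 6], [4, 6, 8, 6, 10, 8, 6, 4, 6, 4, 11, 8, 6, 4, 10, 8, 6, 12], [14, 6, 11, 8, 12, 11], [.use 1754 true, .use 328 false]⟩,
  ⟨[14, 6, 11, 8, 12, 10, 13], [4, 8, 6, 4, 13, 10, 8, 6, 4, 6, 11, 8, 6, 4, 11, 8, 6, 10, 8, 6], [14, 6, 11, 8, 13, 14], [.use 1726 true, .use 1107 true, .cancel 6, .use 1420 false]⟩,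
  ⟨[14, 6, 11, 8, 12, 10, 4], [4, 8, 11, 8, 6, 4, 6, 11, 8, 6, 4, 6, 10, 8, 6, 4, 6, 10, 10, 8, 11], [14, 6, 11, 8, 12, 10], [.use 1726 true, .use 1110 true, .cancel 9, .use 1424 false, .use 1726 false]⟩,
  ⟨[14, 6, 11, 8, 12, 10, 5], [4, 8, 11, 8, 6, 4, 6, 11, 8, 6, 4, 6, 10, 8, 6, 4, 6, 10, 10, 8, 11], [14, 6, 11, 8, 12, 10], [.use 1726 true, .use 1424 true, .use 1110 false, .use 1726 false]⟩,
  ⟨[14, 6, 11, 8, 12, 10, 15], [4, 8, 6, 4, 13, 10, 8, 6, 4, 6, 11, 8, 6, 4, 11, 8, 6, 10, 8, 6], [14, 6, 11, 8, 12], [.use 1726 true, .use 1471 false]⟩,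
  ⟨[14, 6, 11, 8, 12, 10, 15], [4, 8, 6, 4, 13, 10, 8, 6, 4, 6, 11, 8, 6, 4, 11, 8, 6, 10, 8, 6], [14, 6, 11, 8, 12], [.use 705 true, .use 1759 false]⟩,
  ⟨[14, 6, 8, 11, 8, 10, 11], [6, 8, 6, 4, 6, 10, 8, 6, 4, 6, 10, 8, 6, 4, 6, 13, 11, 8, 6, 4], [14, 6, 8, 11, 11, 15], [.use 1728 true, .use 399 true, .cancel 6]⟩,
  ⟨[14, 6, 8, 11, 11, 15], [4, 6, 8, 6, 4, 6, 10, 8, 6, 4, 6, 12, 11, 8, 6, 4, 6, 11, 8, 6], [14, 6, 8, 11, 8], [.use 1761 true, .use 66 true, .cancel 5]⟩,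
  ⟨[14, 6, 8, 11, 8, 10, 10], [6, 8, 6, 4, 6, 10, 8, 6, 4, 6, 10, 8, 6, 4, 6, 13, 11, 8, 6, 4], [14, 6, 8, 11, 11, 15, 10, 10], [.use 1728 true, .use 400 false]⟩,
  ⟨[14, 6, 8, 11, 11, 15, 10, 10], [4, 6, 8, 6, 4, 11, 8, 6, 4, 11, 8, 6, 4, 10, 8, 6, 10, 10, 8], [14, 6, 10, 8, 10, 13], [.use 1763 true, .use 318 false]⟩,
  ⟨[14, 6, 8, 11, 8, 10, 5], [4, 8, 11, 8, 6, 4, 6, 11, 8, 6, 4, 6, 10, 8, 6, 4, 6, 10, 10, 8, 11], [14, 6, 8, 11, 8, 10], [.use 1728 true, .use 1217 true, .cancel 7, .use 1484 false, .use 1728 false]⟩,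
  ⟨[14, 6, 8, 11, 8, 10, 4], [4, 8, 11, 8, 6, 4, 6, 11, 8, 6, 4, 6, 10, 8, 6, 4, 6, 10, 10, 8, 11], [14, 6, 8, 11, 8, 10], [.use 1728 true, .use 1484 true, .use 1217 false, .use 1728 false]⟩,
  ⟨[14, 6, 8, 11, 8, 10, 12], [6, 8, 6, 4, 10, 8, 6, 11, 8, 6, 4, 6, 4, 10, 8, 6, 4, 10, 8, 12], [14, 6, 11, 8, 12, 10, 15, 10, 10, 8], [.use 1728 true, .use 1218 false]⟩,
  ⟨[14, 6, 11, 8, 12, 10, 15, 10, 10, 8], [4, 6, 8, 6, 4, 12, 11, 8, 6, 4, 11, 8, 6, 4, 10, 8, 6, 10, 10, 8], [14, 6, 10, 8, 11], [.use 1767 true, .use 316 true, .cancel 5]⟩,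
  ⟨[14, 6, 8, 11, 8, 10, 15], [8, 6, 11, 8, 6, 4, 6, 4, 10, 8, 6, 4, 10, 8, 6, 4, 10, 8, 12], [14, 6, 10, 14, 6], [.use 1728 true, .use 1221 true, .cancel 9, .use 1643 false]⟩,
  ⟨[14, 6, 8, 11, 8, 10, 14], [6, 10, 8, 6, 4, 10, 8, 6, 4, 10, 8, 6, 4, 12, 11, 8, 6], [14, 6, 10, 14, 6], [.use 1728 true, .use 1506 false, .use 1643 false]⟩,
  ⟨[14, 6, 8, 11, 8, 10, 6], [4, 6, 10, 8, 6, 4, 6, 13, 11, 8, 6, 4, 6, 11, 8, 6, 4, 6, 11, 8, 13], [14, 6, 10, 15, 6, 14, 6], [.use 1728 true, .use 1679 false]⟩,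
  ⟨[14, 6, 10, 15, 6, 14, 6], [6, 8, 6, 4, 10, 10, 8, 6, 4, 10, 8, 6, 4, 10, 8, 6, 4, 12, 10, 8, 10], [14, 6, 10, 8, 10, 13], [.use 1771 true, .use 347 false]⟩,
  ⟨[14, 6, 11, 8, 10, 13, 10], [4, 6, 8, 6, 4, 11, 8, 6, 4, 11, 8, 6, 4, 10, 8, 6, 10, 10, 8], [14, 6, 11, 11, 14, 10, 10], [.use 1730 true, .use 376 false]⟩,
  ⟨[14, 6, 11, 8, 10, 13, 14], [4, 6, 8, 6, 4, 11, 8, 6, 4, 11, 8, 6, 4, 10, 8, 6, 13, 10, 8], [14, 6, 10, 13, 14, 11], [.use 1730 true, .use 900 true, .cancel 6]⟩,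
  ⟨[14, 6, 11, 8, 10, 13, 5], [4, 8, 11, 8, 6, 4, 6, 11, 8, 6, 4, 6, 10, 8, 6, 4, 6, 10, 10, 8, 11], [14, 6, 11, 8, 10, 13], [.use 1730 true, .use 1118 true, .cancel 6, .use 1422 false, .use 1730 false]⟩,
  ⟨[14, 6, 11, 8, 10, 13, 4], [4, 8, 11, 8, 6, 4, 6, 11, 8, 6, 4, 6, 10, 8, 6, 4, 6, 10, 10, 8, 11], [14, 6, 11, 8, 10, 13], [.use 1730 true, .use 1422 true, .use 1118 false, .use 1730 false]⟩,
  ⟨[14, 6, 11, 8, 10, 13, 15], [8, 6, 4, 10, 10, 8, 6, 4, 6, 11, 8, 6, 4, 11, 8, 6, 4, 11, 8, 13], [14, 6, 10, 13, 14, 11], [.use 1730 true, .use 1468 false]⟩,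
  ⟨[14, 6, 11, 8, 13, 14, 10], [4, 6, 8, 6, 4, 11, 8, 6, 4, 11, 8, 6, 4, 10, 8, 6, 13, 10, 8], [14, 6, 11, 14, 11], [.use 1736 true, .use 443 true, .cancel 8, .use 1414 false]⟩,
  ⟨[14, 6, 11, 8, 13, 10, 14], [4, 8, 6, 4, 11, 8, 6, 4, 11, 8, 6, 4, 6, 10, 8, 6, 13, 10, 8], [14, 6, 11, 5, 15, 11, 11, 15, 10, 14], [.use 1738 true, .use 1559 false]⟩,
  ⟨[14, 6, 8, 11, 14, 10, 11], [6, 8, 6, 4, 6, 10, 8, 6, 4, 6, 10, 8, 6, 4, 6, 13, 11, 8, 6, 4], [14, 6, 10, 8, 11, 11, 11], [.use 1740 true, .use 683 false]⟩,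
  ⟨[14, 6, 10, 8, 11, 11, 11], [4, 6, 8, 6, 4, 6, 10, 8, 6, 4, 6, 12, 11, 8, 6, 4, 6, 11, 8, 6], [14, 6, 8, 11, 14], [.use 1780 true, .use 70 true, .cancel 5]⟩,
  ⟨[14, 6, 8, 11, 14, 10, 9], [6, 8, 6, 4, 10, 8, 6, 11, 8, 6, 4, 6, 4, 10, 8, 6, 4, 10, 8, 12], [14, 6, 8, 11, 8, 11, 13], [.use 1740 true, .use 831 false]⟩,
  ⟨[14, 6, 8, 11, 14, 10, 8], [6, 8, 6, 4, 10, 8, 6, 11, 8, 6, 4, 6, 4, 10, 8, 6, 4, 10, 8, 12], [14, 6, 8, 11, 8, 11, 13], [.use 1740 true, .use 870 true, .cancel 7]⟩,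
  ⟨[14, 6, 8, 11, 14, 10, 13], [6, 8, 6, 4, 6, 10, 8, 6, 4, 6, 10, 8, 6, 4, 6, 13, 11, 8, 6, 4], [14, 6, 10, 8, 13, 11], [.use 1740 true, .use 885 false]⟩,
  ⟨[14, 6, 8, 11, 5, 15, 11, 11, 15], [8, 6, 10, 8, 6, 4, 6, 4, 12, 11, 8, 6, 4, 11, 8, 6, 4, 11, 8], [14, 6, 10, 8, 13, 11], [.ins 9 12, .use 1145 false, .use 1784 false]⟩,
  ⟨[14, 6, 8, 11, 14, 10, 7], [6, 8, 10, 8, 6, 4, 11, 8, 6, 4, 13, 10, 8, 6, 4, 10, 8, 6, 4, 11], [14, 6, 10, 8, 10, 10], [.use 1740 true, .use 1047 true, .cancel 6]⟩,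
  ⟨[14, 6, 8, 11, 14, 10, 12], [6, 8, 6, 4, 10, 8, 6, 11, 8, 6, 4, 6, 4, 10, 8, 6, 4, 10, 8, 12], [14, 6, 8, 11, 8, 11, 8], [.use 1740 true, .use 1053 true, .cancel 7]⟩,
  ⟨[14, 6, 8, 11, 14, 10, 6], [6, 8, 10, 8, 6, 4, 11, 8, 6, 4, 13, 10, 8, 6, 4, 10, 8, 6, 4, 11], [14, 6, 10, 8, 10, 10], [.use 1740 true, .use 1141 false]⟩,
  ⟨[14, 6, 8, 11, 5, 15, 10, 14, 11, 15], [6, 8, 6, 4, 6, 10, 8, 6, 4, 6, 10, 8, 6, 4, 6, 13, 11, 8, 6, 4], [14, 6, 10, 8, 11, 5, 15, 10], [.use 1742 true, .use 807 true, .cancel 8]⟩,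
  ⟨[14, 6, 10, 8, 11, 5, 15, 10], [4, 6, 8, 6, 4, 6, 10, 8, 6, 4, 6, 12, 11, 8, 6, 4, 6, 11, 8, 6], [14, 6, 8, 11, 5, 15, 10, 14, 11, 15], [.use 1789 true, .use 464 false]⟩,
  ⟨[14, 6, 8, 11, 5, 15, 10, 14, 11, 11], [6, 8, 6, 4, 6, 10, 8, 6, 4, 6, 10, 8, 6, 4, 6, 13, 11, 8, 6, 4], [14, 6, 10, 8, 11, 5, 15, 10, 14, 11], [.use 1742 true, .use 808 false]⟩]

/-- Equations. -/
def part28 : List CFact := [
  ⟨[14, 6, 8, 10, 14, 10, 7], [4, 6, 10, 10, 8, 6, 4, 6, 4, 10, 8, 6, 4, 6, 10, 13], [14, 6, 10, 15, 11, 14, 10], [.use 1744 true, .use 571 true, .cancel 7, .use 1526 false]⟩,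
  ⟨[14, 6, 10, 15, 11, 14, 10], [4, 6, 8, 11, 8, 6, 4, 6, 4, 11, 8, 6, 4, 12, 11, 8], [14, 6, 8, 10, 14, 6, 11], [.use 1792 true, .use 338 true, .cancel 7]⟩,
  ⟨[14, 6, 8, 10, 14, 6, 14], [6, 4, 11, 8, 6, 4, 6, 11, 8, 6, 4, 6, 8, 11, 8, 12], [14, 6, 10, 14, 10, 10], [.use 1746 true, .use 415 true, .cancel 8, .use 969 false]⟩,
  ⟨[14, 6, 8, 10, 15, 7, 14], [4, 6, 8, 10, 8, 6, 4, 6, 4, 8, 12, 11], [14, 6, 10, 14, 10, 10], [.use 1495 true, .use 1794 false]⟩,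
  ⟨[14, 6, 8, 10, 14, 6, 1], [0], [14, 6, 8, 10, 14, 6], [.use 1746 true, .use 1166 false, .use 1746 false]⟩,
  ⟨[14, 6, 8, 10, 14, 6, 0], [0], [14, 6, 8, 10, 14, 6], [.use 1746 true, .use 1166 true, .cancel 9, .use 1746 false]⟩,
  ⟨[14, 6, 8, 10, 14, 6, 13], [4, 6, 10, 10, 8, 6, 4, 6, 4, 10, 8, 6, 4, 6, 10], [14, 6, 10, 14, 11, 12], [.use 1746 true, .use 1570 true, .cancel 6]⟩,
  ⟨[14, 6, 8, 10, 14, 6, 15], [4, 6, 4, 8, 6, 4, 6, 12, 11, 8, 6, 4, 6, 8, 10, 10], [14, 6, 10, 14, 10, 10], [.use 1746 true, .use 1571 false]⟩,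
  ⟨[14, 6, 8, 10, 14, 6, 10], [4, 6, 4, 8, 6, 4, 6, 12, 11, 8, 6, 4, 6, 8, 10, 10], [14, 6, 14, 11, 11, 15], [.use 1746 true, .use 1574 false]⟩,
  ⟨[14, 6, 8, 10, 14, 6, 12], [4, 6, 10, 10, 8, 6, 4, 6, 4, 10, 8, 6, 4, 6, 10], [14, 6, 10, 14, 11], [.use 1746 true, .use 1575 false]⟩,
  ⟨[14, 6, 8, 10, 14, 6, 5], [6, 4, 8, 10, 8, 6, 4, 10, 8, 6, 4, 11, 8, 6, 4, 6, 10, 8, 6, 10, 8, 10], [14, 6, 8, 10, 14, 6], [.use 1746 true, .use 1601 false, .use 1746 false]⟩,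
  ⟨[14, 6, 8, 10, 14, 6, 4], [6, 4, 8, 10, 8, 6, 4, 10, 8, 6, 4, 11, 8, 6, 4, 6, 10, 8, 6, 10, 8, 10], [14, 6, 8, 10, 14, 6], [.use 1746 true, .use 1601 true, .cancel 9, .use 1746 false]⟩,
  ⟨[14, 6, 11, 8, 13, 10, 15], [4, 8, 6, 4, 11, 8, 6, 4, 11, 8, 6, 4, 6, 10, 8, 6, 10, 10, 8], [14, 6, 11, 5, 15, 10, 14, 11, 15], [.use 1750 true, .use 411 false]⟩,
  ⟨[14, 6, 11, 8, 13, 10, 5], [4, 8, 11, 8, 6, 4, 6, 11, 8, 6, 4, 6, 10, 8, 6, 4, 6, 10, 10, 8, 11], [14, 6, 11, 8, 13, 10], [.use 1750 true, .use 1254 false, .use 1473 false, .use 1750 false]⟩,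
  ⟨[14, 6, 11, 8, 13, 10, 4], [4, 8, 11, 8, 6, 4, 6, 11, 8, 6, 4, 6, 10, 8, 6, 4, 6, 10, 10, 8, 11], [14, 6, 11, 8, 13, 10], [.use 1750 true, .use 1473 true, .use 1254 true, .cancel 8, .use 1750 false]⟩,
  ⟨[14, 6, 11, 8, 13, 10, 14], [8, 6, 10, 10, 8, 6, 4, 6, 4, 11, 8, 6, 4, 11, 8, 6, 4, 11, 8], [14, 6, 11, 5, 15, 10, 14, 11, 15], [.use 1750 true, .use 1505 false, .use 1613 false]⟩,
  ⟨[14, 6, 11, 5, 15, 11, 11, 15, 10, 14], [4, 10, 8, 6, 4, 6, 11, 11, 8, 6, 4, 6, 11, 8, 6, 4, 6, 11, 8, 12, 11], [14, 6, 11, 5, 15, 10, 14, 11, 15], [.use 1779 true, .use 1807 false]⟩,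
  ⟨[14, 6, 11, 8, 12, 11, 11], [4, 6, 8, 6, 4, 6, 10, 8, 6, 4, 6, 12, 11, 8, 6, 4, 6, 11, 8, 6], [14, 6, 11, 13, 14], [.use 1752 true, .use 361 true, .cancel 5]⟩,
  ⟨[14, 6, 11, 8, 12, 11, 14], [4, 6, 8, 6, 4, 11, 8, 6, 4, 11, 8, 6, 4, 10, 8, 6, 13, 10, 8], [14, 6, 10, 10, 14, 11], [.use 1752 true, .use 943 true, .cancel 6]⟩,
  ⟨[14, 6, 11, 8, 12, 11, 12], [4, 6, 8, 6, 4, 11, 8, 6, 4, 11, 8, 6, 4, 10, 8, 6, 10, 10, 8], [14, 6, 11, 11, 14, 10, 10], [.use 1752 true, .use 1120 false]⟩,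
  ⟨[14, 6, 11, 8, 12, 11, 5], [4, 8, 11, 8, 6, 4, 6, 11, 8, 6, 4, 6, 10, 8, 6, 4, 6, 10, 10, 8, 11], [14, 6, 11, 8, 12, 11], [.use 1752 true, .use 1122 true, .cancel 9, .use 1418 false, .use 1752 false]⟩,
  ⟨[14, 6, 11, 8, 12, 11, 4], [4, 8, 11, 8, 6, 4, 6, 11, 8, 6, 4, 6, 10, 8, 6, 4, 6, 10, 10, 8, 11], [14, 6, 11, 8, 12, 11], [.use 1752 true, .use 1418 true, .use 1122 false, .use 1752 false]⟩,
  ⟨[14, 6, 11, 8, 12, 11, 15], [8, 6, 4, 10, 10, 8, 6, 4, 6, 11, 8, 6, 4, 11, 8, 6, 4, 11, 8, 13], [14, 6, 10, 10, 14, 11], [.use 1752 true, .use 1462 false]⟩,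
  ⟨[14, 6, 11, 8, 12, 11, 14], [6, 4, 8, 6, 4, 13, 10, 8, 6, 4, 6, 8, 10, 8, 6, 4, 10, 8], [14, 6, 11, 8, 12, 15, 6, 14], [.use 1755 true, .use 621 false]⟩,
  ⟨[14, 6, 11, 8, 12, 15, 6, 14], [4, 6, 10, 8, 6, 4, 6, 4, 11, 8, 6, 4, 6, 10, 8, 6, 4, 6, 10, 8, 10], [14, 6, 10, 10, 14, 11], [.use 1815 true, .use 1810 false]⟩,
  ⟨[14, 6, 11, 8, 12, 11, 12], [4, 11, 8, 6, 4, 6, 11, 8, 6, 4, 11, 8, 6, 10, 8, 6, 4, 6, 10, 8, 13], [14, 6, 11, 8, 14, 6], [.use 1755 true, .use 1153 false, .use 1461 false]⟩,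
  ⟨[14, 6, 11, 11, 14, 10, 10], [10, 8, 6, 4, 11, 8, 6, 4, 6, 10, 8, 6, 4, 11, 8, 6, 4, 10, 8, 10, 13], [14, 6, 11, 8, 14, 6], [.use 1811 true, .use 1817 false]⟩,
  ⟨[14, 6, 11, 8, 12, 11, 13], [6, 4, 8, 6, 4, 13, 10, 8, 6, 4, 6, 8, 10, 8, 6, 4, 10, 8], [14, 6, 11, 8, 13, 15, 6], [.use 1755 true, .use 1282 true, .cancel 7]⟩,
  ⟨[14, 6, 11, 8, 13, 15, 6], [4, 6, 8, 6, 10, 8, 6, 4, 6, 4, 11, 8, 6, 4, 10, 8, 6, 12], [14, 6, 10, 8, 10, 8], [.use 1819 true, .use 358 true, .cancel 6]⟩,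
  ⟨[14, 6, 8, 11, 8, 14], [6, 8, 6, 4, 6, 10, 8, 6, 4, 6, 10, 8, 6, 4, 6, 13, 11, 8, 6, 4], [14, 6, 8, 11, 11], [.use 1762 true, .use 398 true, .cancel 5]⟩,
  ⟨[14, 6, 8, 11, 8, 15], [4, 8, 6, 4, 10, 8, 6, 4, 10, 8, 6, 4, 13, 10, 8, 6, 10, 10, 8], [14, 6, 8, 11, 11], [.use 1441 true, .use 1821 false]⟩,
  ⟨[14, 6, 8, 11, 8, 13], [6, 8, 6, 4, 10, 8, 6, 11, 8, 6, 4, 6, 4, 10, 8, 6, 4, 10, 8], [14, 6, 8, 11, 15, 12], [.use 1762 true, .use 1017 true, .cancel 6]⟩,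
  ⟨[14, 6, 8, 11, 15, 12], [4, 8, 6, 4, 10, 8, 6, 4, 6, 11, 8, 6, 4, 11, 8, 6, 10, 8, 6], [14, 6, 8, 11, 8, 13], [.use 1823 true, .use 68 false]⟩,
  ⟨[14, 6, 8, 11, 8, 11], [0, 4, 8, 6, 4, 10, 8, 6, 4, 10, 8, 6, 4, 13, 10, 8, 6, 10, 10, 8], [14, 6, 8, 11, 5, 15, 10, 14], [.use 1762 true, .use 1216 false, .use 1480 false]⟩,
  ⟨[14, 6, 8, 11, 5, 15, 10, 14], [0, 8, 6, 4, 10, 10, 8, 6, 4, 10, 8, 6, 4, 12, 10, 8, 6, 4, 10, 8], [14, 6, 8, 11, 8, 11], [.use 1825 true, .use 67 false]⟩,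
  ⟨[14, 6, 10, 8, 10, 13, 8], [4, 11, 8, 6, 4, 6, 11, 8, 6, 4, 11, 8, 6, 10, 8, 6, 4, 6, 10, 8, 13], [14, 6, 11, 8, 14, 6], [.use 1764 true, .use 401 false, .use 1464 false, .use 1818 false]⟩,
  ⟨[14, 6, 10, 8, 10, 13, 9], [4, 11, 8, 6, 4, 6, 11, 8, 6, 4, 11, 8, 6, 10, 8, 6, 4, 6, 10, 8, 13], [14, 6, 11, 8, 14, 6], [.use 1764 true, .use 457 true, .cancel 9, .use 1464 false, .use 1818 false]⟩,
  ⟨[14, 6, 10, 8, 10, 13, 4], [4, 8, 11, 8, 6, 4, 6, 11, 8, 6, 4, 6, 10, 8, 6, 4, 6, 10, 10, 8, 11], [14, 6, 10, 8, 10, 13], [.use 1764 true, .use 1215 false, .use 1503 false, .use 1764 false]⟩,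
  ⟨[14, 6, 10, 8, 10, 13, 5], [4, 8, 11, 8, 6, 4, 6, 11, 8, 6, 4, 6, 10, 8, 6, 4, 6, 10, 10, 8, 11], [14, 6, 10, 8, 10, 13], [.use 1764 true, .use 1503 true, .use 1215 true, .cancel 8, .use 1764 false]⟩,
  ⟨[14, 6, 8, 11, 14, 11], [6, 8, 6, 4, 6, 10, 8, 6, 4, 6, 10, 8, 6, 4, 6, 13, 11, 8, 6, 4], [14, 6, 10, 8, 10, 10, 10], [.use 1781 true, .use 784 true, .cancel 7]⟩,
  ⟨[14, 6, 10, 8, 10, 10, 10], [4, 8, 6, 4, 11, 8, 6, 4, 11, 8, 6, 4, 6, 10, 8, 6, 10, 10, 8, 12], [14, 6, 8, 11, 5, 15, 11], [.use 1831 true, .use 735 false]⟩,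
  ⟨[14, 6, 8, 11, 14, 7], [8, 6, 11, 8, 6, 4, 10, 8, 6, 4, 10, 8, 6, 4, 11, 8, 6, 10, 8, 11], [14, 6, 8, 11, 5, 15, 11], [.use 1781 true, .use 982 true, .cancel 7, .use 1832 false]⟩,
  ⟨[14, 6, 8, 11, 5, 15, 11], [8, 6, 11, 8, 6, 4, 10, 8, 6, 4, 10, 8, 6, 4, 11, 8, 6, 10, 8, 11], [14, 6, 8, 11, 14, 6], [.use 1833 true, .use 299 true, .cancel 6]⟩,
  ⟨[14, 6, 10, 8, 13, 11, 14], [4, 8, 6, 4, 11, 8, 6, 4, 11, 8, 6, 4, 6, 10, 8, 6, 13, 10, 8], [14, 6, 8, 11, 5, 15, 11, 11], [.use 1785 true, .use 714 true, .cancel 8]⟩,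
  ⟨[14, 6, 8, 11, 5, 15, 10, 14, 11, 15, 11], [6, 8, 6, 4, 10, 8, 6, 4, 11, 8, 6, 4, 6, 10, 8, 6, 4, 10, 8, 13], [14, 6, 10, 8, 11, 14], [.use 1790 true, .use 806 true, .cancel 7, .use 1055 false]⟩,
  ⟨[14, 6, 8, 10, 14, 6, 11, 11], [4, 6, 10, 10, 8, 6, 4, 6, 4, 10, 8, 6, 4, 6, 10, 13], [14, 6, 10, 10, 14, 10], [.use 1793 true, .use 516 true, .cancel 6, .use 1523 false]⟩,
  ⟨[14, 6, 8, 10, 14, 6, 11, 15], [4, 6, 10, 10, 8, 6, 4, 6, 4, 10, 8, 6, 4, 6, 10, 13], [14, 6, 10, 15, 11, 14, 10, 15], [.use 1793 true, .use 517 false]⟩,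
  ⟨[14, 6, 8, 10, 14, 6, 11, 13], [4, 6, 10, 10, 8, 6, 4, 6, 4, 10, 8, 6, 4, 6, 10], [14, 6, 10, 13, 14, 10], [.use 1793 true, .use 1528 false]⟩,
  ⟨[14, 6, 8, 10, 14, 6, 11, 0], [0], [14, 6, 8, 10, 14, 6, 11], [.use 1793 true, .use 1529 false, .use 1793 false]⟩,
  ⟨[14, 6, 8, 10, 14, 6, 11, 1], [0], [14, 6, 8, 10, 14, 6, 11], [.use 1793 true, .use 1529 true, .cancel 7, .use 1793 false]⟩,
  ⟨[14, 6, 8, 10, 14, 6, 11, 4], [6, 4, 8, 10, 8, 6, 4, 10, 8, 6, 4, 11, 8, 6, 4, 6, 10, 8, 6, 10, 8, 10], [14, 6, 8, 10, 14, 6, 11], [.use 1793 true, .use 1531 false, .use 1793 false]⟩,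
  ⟨[14, 6, 8, 10, 14, 6, 11, 5], [6, 4, 8, 10, 8, 6, 4, 10, 8, 6, 4, 11, 8, 6, 4, 6, 10, 8, 6, 10, 8, 10], [14, 6, 8, 10, 14, 6, 11], [.use 1793 true, .use 1531 true, .cancel 7, .use 1793 false]⟩,
  ⟨[14, 6, 8, 10, 14, 6, 11, 14], [6, 4, 11, 8, 6, 4, 6, 11, 8, 6, 4, 6, 8, 11, 8, 13], [14, 6, 10, 15, 11, 14, 10, 15], [.use 1793 true, .use 1534 false]⟩,
  ⟨[14, 6, 10, 14, 10, 10, 9], [4, 6, 11, 8, 6, 4, 6, 8, 13, 10, 8, 6, 4], [14, 6, 8, 11, 8, 15, 6, 14, 6], [.use 1795 true, .use 702 false]⟩,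
  ⟨[14, 6, 10, 10, 14, 11, 6], [11, 8, 6, 4, 6, 4, 11, 8, 6, 4, 6, 11, 8, 6, 4, 6, 10, 8, 6], [14, 6, 10, 8, 13, 14], [.use 1816 true, .use 622 false]⟩,
  ⟨[14, 6, 14, 11, 11, 14, 10, 10, 6], [0, 4, 6, 4, 10, 8, 6, 4, 12, 10, 8, 6, 4, 11, 8, 6, 4, 10, 8], [14, 6, 10, 8, 13, 14], [.use 1596 true, .use 1846 false]⟩,
  ⟨[14, 6, 10, 10, 14, 11, 13], [11, 8, 6, 4, 6, 4, 11, 8, 6, 4, 6, 11, 8, 6, 4, 6, 10, 8, 6], [14, 6, 10, 8, 14, 6], [.use 1816 true, .use 1074 true, .cancel 6]⟩,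
  ⟨[14, 6, 10, 10, 14, 11, 12], [4, 11, 8, 6, 4, 6, 11, 8, 6, 4, 6, 11, 8, 6, 4, 6, 10, 8, 6, 4, 10], [14, 6, 11, 8, 13, 15, 6, 14], [.use 1816 true, .use 1151 false]⟩,
  ⟨[14, 6, 11, 8, 13, 15, 6, 14], [0, 4, 8, 6, 4, 12, 10, 8, 6, 4, 11, 8, 6, 4, 10, 8, 6, 4, 10, 8, 11, 11], [14, 6, 10, 14, 11, 11], [.use 1849 true, .use 269 true, .cancel 6]⟩,
  ⟨[14, 6, 11, 8, 14, 6, 11], [6, 8, 6, 4, 6, 10, 8, 6, 4, 11, 8, 6, 4, 12, 11, 8, 6, 4, 10, 8, 10], [14, 6, 11, 8, 10, 13], [.use 1818 true, .use 376 true, .cancel 6, .use 1730 false]⟩,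
  ⟨[14, 6, 11, 8, 14, 6, 0], [0], [14, 6, 11, 8, 14, 6], [.use 1818 true, .use 1173 false, .use 1818 false]⟩,
  ⟨[14, 6, 11, 8, 14, 6, 1], [0], [14, 6, 11, 8, 14, 6], [.use 1818 true, .use 1173 true, .cancel 7, .use 1818 false]⟩,
  ⟨[14, 6, 11, 8, 14, 6, 5], [0, 6, 4, 10, 8, 6, 4, 10, 10, 8, 6, 4, 10, 8, 6, 4, 11, 8, 6, 10, 8, 11], [14, 6, 11, 8, 14, 6], [.use 1818 true, .use 1212 true, .cancel 9, .use 1464 false, .use 1818 false]⟩,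
  ⟨[14, 6, 11, 8, 14, 6, 4], [0, 6, 4, 10, 8, 6, 4, 10, 10, 8, 6, 4, 10, 8, 6, 4, 11, 8, 6, 10, 8, 11], [14, 6, 11, 8, 14, 6], [.use 1818 true, .use 1464 true, .use 1212 false, .use 1818 false]⟩]

/-- Equations. -/
def part29 : List CFact := [
  ⟨[14, 6, 11, 8, 14, 6, 10], [0, 6, 8, 6, 4, 10, 8, 6, 4, 11, 8, 6, 4, 11, 8, 6, 4, 11, 8, 10, 10], [14, 6, 8, 10, 8, 12], [.use 1818 true, .use 1579 true, .cancel 8, .use 1672 false]⟩,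
  ⟨[14, 6, 10, 8, 10, 8, 7], [4, 11, 8, 6, 4, 6, 11, 8, 6, 4, 11, 8, 6, 10, 8, 6, 4, 6, 10, 8, 13], [14, 6, 11, 8, 13, 14], [.use 1820 true, .use 628 true, .cancel 6, .use 1420 false]⟩,
  ⟨[14, 6, 10, 8, 10, 8, 14], [4, 6, 8, 6, 4, 11, 8, 6, 4, 11, 8, 6, 4, 10, 8, 6, 10, 10, 8], [14, 6, 10, 14, 11, 11], [.use 1820 true, .use 629 false, .use 1850 false]⟩,
  ⟨[14, 6, 10, 14, 11, 11, 15], [8, 6, 4, 10, 10, 8, 6, 4, 6, 11, 8, 6, 4, 11, 8, 6, 4, 11, 8], [14, 6, 10, 8, 10, 8], [.use 1850 true, .use 629 true, .cancel 7, .use 1820 false]⟩,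
  ⟨[14, 6, 10, 8, 10, 8, 13], [4, 11, 8, 6, 4, 6, 11, 8, 6, 4, 11, 8, 6, 10, 8, 6, 4, 6, 10, 8, 13], [14, 6, 11, 8, 14, 6], [.use 1820 true, .use 1152 true, .cancel 6, .use 1461 false]⟩,
  ⟨[14, 6, 10, 8, 10, 8, 6], [4, 11, 8, 6, 4, 6, 11, 8, 6, 4, 11, 8, 6, 10, 8, 6, 4, 6, 10, 8, 13], [14, 6, 11, 8, 13, 14], [.use 1820 true, .use 1280 false, .use 1420 false]⟩,
  ⟨[14, 6, 10, 8, 10, 8, 15], [8, 6, 4, 10, 10, 8, 6, 4, 6, 11, 8, 6, 4, 11, 8, 6, 4, 11, 8], [14, 6, 10, 14, 11, 11], [.use 1820 true, .use 1504 false, .use 1850 false]⟩,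
  ⟨[14, 6, 10, 14, 11, 11, 14], [4, 6, 8, 6, 4, 11, 8, 6, 4, 11, 8, 6, 4, 10, 8, 6, 10, 10, 8], [14, 6, 10, 8, 10, 8], [.use 1850 true, .use 1504 true, .cancel 7, .use 1820 false]⟩,
  ⟨[14, 6, 8, 11, 11, 6], [8, 6, 4, 10, 10, 8, 6, 4, 10, 8, 6, 4, 12, 10, 8, 6, 4, 10, 8], [14, 6, 8, 11, 8, 15, 6], [.use 1822 true, .use 697 false]⟩,
  ⟨[14, 6, 8, 11, 8, 15, 6], [4, 8, 6, 4, 10, 8, 6, 4, 10, 8, 6, 4, 13, 10, 8, 6, 10, 10], [14, 6, 8, 10, 10], [.use 1864 true, .use 234 false]⟩,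
  ⟨[14, 6, 8, 11, 8, 13, 14], [6, 8, 6, 4, 10, 8, 6, 11, 8, 6, 4, 6, 4, 10, 8, 6, 4, 10, 8], [14, 6, 8, 11, 13], [.use 1824 true, .use 749 false]⟩,
  ⟨[14, 6, 8, 11, 8, 13, 15], [4, 8, 6, 4, 10, 8, 6, 4, 6, 11, 8, 6, 4, 11, 8, 6, 10, 8, 6], [14, 6, 8, 11, 13], [.use 1824 true, .use 1219 true, .cancel 6, .use 1402 false]⟩,
  ⟨[14, 6, 8, 11, 8, 11, 15], [4, 8, 6, 4, 10, 8, 6, 4, 10, 8, 6, 4, 13, 10, 8, 6, 10, 10, 8], [14, 6, 8, 11, 14, 10], [.use 1826 true, .use 462 true, .cancel 7, .use 737 false]⟩,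
  ⟨[14, 6, 8, 11, 8, 11, 11], [0, 4, 8, 6, 4, 10, 8, 6, 4, 10, 8, 6, 4, 13, 10, 8, 6, 10, 10, 8], [14, 6, 8, 11, 5, 15, 10, 14, 11], [.use 1826 true, .use 463 false]⟩,
  ⟨[14, 6, 8, 11, 5, 15, 10, 14, 11], [8, 6, 10, 10, 8, 6, 4, 6, 4, 11, 8, 6, 4, 11, 8, 6, 4, 11, 8], [14, 6, 10, 8, 13], [.use 1869 true, .use 207 false]⟩,
  ⟨[14, 6, 8, 11, 8, 11, 12], [4, 8, 6, 10, 8, 6, 4, 6, 4, 11, 8, 6, 4, 11, 8, 6, 10, 8, 6], [14, 6, 8, 11, 5, 15, 11, 11], [.use 1826 true, .use 1023 true, .cancel 8]⟩,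
  ⟨[14, 6, 8, 11, 5, 15, 11, 11], [6, 8, 6, 4, 10, 8, 6, 4, 11, 8, 6, 4, 6, 10, 8, 6, 4, 10, 8, 13], [14, 6, 10, 8, 10, 10], [.use 1871 true, .use 251 false]⟩,
  ⟨[14, 6, 8, 11, 8, 11, 14], [6, 8, 6, 4, 6, 10, 8, 6, 4, 6, 10, 8, 6, 4, 6, 13, 11, 8, 6, 4], [14, 6, 8, 11, 14, 10], [.use 1826 true, .use 1143 false, .use 1431 false]⟩,
  ⟨[14, 6, 8, 11, 8, 11, 4], [4, 8, 11, 8, 6, 4, 6, 11, 8, 6, 4, 6, 10, 8, 6, 4, 6, 10, 10, 8, 11], [14, 6, 8, 11, 8, 11], [.use 1826 true, .use 1144 true, .cancel 7, .use 1480 false, .use 1826 false]⟩,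
  ⟨[14, 6, 8, 11, 8, 11, 5], [4, 8, 11, 8, 6, 4, 6, 11, 8, 6, 4, 6, 10, 8, 6, 4, 6, 10, 10, 8, 11], [14, 6, 8, 11, 8, 11], [.use 1826 true, .use 1480 true, .use 1144 false, .use 1826 false]⟩,
  ⟨[14, 6, 8, 11, 14, 6, 11], [6, 8, 10, 8, 6, 4, 11, 8, 6, 4, 13, 10, 8, 6, 4, 10, 8, 6, 4, 11], [14, 6, 10, 8, 10, 10], [.use 1834 true, .use 1832 true, .use 783 true, .cancel 6]⟩,
  ⟨[14, 6, 8, 11, 14, 6, 10], [8, 10, 8, 6, 4, 10, 8, 6, 4, 10, 8, 6, 4, 6, 11, 8, 6, 10, 8, 11], [14, 6, 8, 11, 14], [.use 1834 true, .use 1832 true, .use 784 false, .use 1781 false]⟩,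
  ⟨[14, 6, 8, 11, 14, 6, 9], [0, 12, 11, 8, 6, 4, 11, 8, 6, 4, 11, 11, 8, 6, 4, 11, 8, 6, 4, 11, 11], [14, 6, 11, 8, 13, 10], [.use 1834 true, .use 1832 true, .use 832 false]⟩,
  ⟨[14, 6, 8, 11, 14, 6, 8], [0, 12, 11, 8, 6, 4, 11, 8, 6, 4, 11, 11, 8, 6, 4, 11, 8, 6, 4, 11, 11], [14, 6, 11, 8, 13, 10], [.use 1834 true, .use 1832 true, .use 983 false]⟩,
  ⟨[14, 6, 8, 11, 14, 6, 13], [6, 8, 6, 4, 10, 8, 6, 11, 8, 6, 4, 6, 4, 10, 8, 6, 4, 10, 8], [14, 6, 8, 11, 8, 6], [.use 1834 true, .use 1832 true, .use 1007 true, .cancel 6]⟩,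
  ⟨[14, 6, 8, 11, 14, 6, 12], [6, 8, 10, 8, 6, 4, 11, 8, 6, 4, 13, 10, 8, 6, 4, 10, 8, 6, 4, 11], [14, 6, 10, 8, 12, 11], [.use 1834 true, .use 1832 true, .use 1060 true, .cancel 6]⟩,
  ⟨[14, 6, 8, 11, 14, 6, 0], [0], [14, 6, 8, 11, 14, 6], [.use 1834 true, .use 1832 true, .use 1139 false, .use 1832 false, .use 1834 false]⟩,
  ⟨[14, 6, 8, 11, 14, 6, 1], [0], [14, 6, 8, 11, 14, 6], [.use 1834 true, .use 1832 true, .use 1139 true, .cancel 7, .use 1832 false, .use 1834 false]⟩,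
  ⟨[14, 6, 8, 11, 14, 6, 15], [8, 10, 8, 6, 4, 10, 8, 6, 4, 10, 8, 6, 4, 6, 11, 8, 6, 10, 8, 11], [14, 6, 8, 14, 10], [.use 1834 true, .use 460 false]⟩,
  ⟨[14, 6, 8, 11, 14, 6, 5], [4, 6, 11, 8, 6, 4, 11, 8, 6, 4, 10, 8, 6, 4, 13, 10, 8, 6, 10, 8, 11, 12], [14, 6, 8, 11, 14, 6], [.use 1834 true, .use 1020 false, .use 1437 false, .use 1834 false]⟩,
  ⟨[14, 6, 8, 11, 14, 6, 4], [4, 6, 11, 8, 6, 4, 11, 8, 6, 4, 10, 8, 6, 4, 13, 10, 8, 6, 10, 8, 11, 12], [14, 6, 8, 11, 14, 6], [.use 1834 true, .use 1437 true, .use 1020 true, .cancel 7, .use 1834 false]⟩,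
  ⟨[14, 6, 8, 11, 14, 6, 14], [6, 4, 8, 6, 11, 11, 8, 6, 4, 6, 4, 10, 8, 6, 4, 6, 11, 8, 6, 11], [14, 6, 8, 11, 15, 11, 14], [.use 1834 true, .use 1482 false]⟩,
  ⟨[14, 6, 8, 11, 15, 11, 14], [4, 6, 4, 8, 6, 4, 6, 10, 8, 6, 4], [14, 6, 8, 10, 15, 9, 6, 14, 6, 8], [.use 1887 true, .use 1481 false]⟩,
  ⟨[14, 6, 10, 14, 11, 11, 6], [4, 11, 8, 6, 4, 12, 11, 8, 6, 4, 10, 8, 6, 4, 11, 8, 6, 10, 8, 12], [14, 6, 10, 8, 12, 14], [.use 1850 true, .use 630 false]⟩,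
  ⟨[14, 6, 10, 14, 11, 11, 12], [4, 11, 8, 6, 4, 12, 11, 8, 6, 4, 10, 8, 6, 4, 11, 8, 6, 10, 8, 12], [14, 6, 10, 8, 14, 6], [.use 1850 true, .use 1073 false]⟩,
  ⟨[14, 6, 10, 14, 11, 11, 7], [4, 11, 8, 6, 4, 12, 11, 8, 6, 4, 10, 8, 6, 4, 11, 8, 6, 10, 8, 12], [14, 6, 10, 8, 12, 14], [.use 1850 true, .use 1076 false]⟩,
  ⟨[14, 6, 8, 10, 10, 14], [6, 4, 10, 10, 8, 6, 4, 10, 8, 6, 4, 12, 10, 8, 6, 4, 10, 8], [14, 6, 8, 11, 8, 15, 6, 14], [.use 1865 true, .use 698 false]⟩,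
  ⟨[14, 6, 8, 11, 8, 15, 6, 14], [4, 8, 6, 4, 10, 8, 6, 4, 10, 8, 6, 4, 13, 10, 8, 6, 10, 10], [14, 6, 8, 10, 10, 14], [.use 1892 true, .use 61 false]⟩,
  ⟨[14, 6, 10, 8, 13, 15], [4, 8, 6, 4, 11, 8, 6, 4, 11, 8, 6, 4, 6, 10, 8, 6, 10, 10, 8], [14, 6, 8, 11, 5, 15, 10, 14, 11, 15], [.use 1870 true, .use 464 false]⟩,
  ⟨[14, 6, 8, 11, 5, 15, 10, 14, 11, 15], [4, 8, 6, 4, 11, 8, 6, 4, 11, 8, 6, 4, 6, 10, 8, 6, 10, 10, 8], [14, 6, 10, 8, 13, 14], [.use 1894 true, .use 650 false, .use 1331 false]⟩,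
  ⟨[14, 6, 10, 8, 13, 11], [4, 8, 6, 13, 10, 8, 6, 4, 6, 4, 11, 8, 6, 4, 11, 8, 6, 10, 8, 6], [14, 6, 10, 8, 11, 5, 15, 10, 14, 11], [.use 1870 true, .use 1791 false]⟩,
  ⟨[14, 6, 10, 8, 11, 5, 15, 10, 14, 11], [6, 8, 6, 4, 10, 8, 6, 4, 11, 8, 6, 4, 6, 10, 8, 6, 4, 10, 8, 12], [14, 6, 10, 8, 13, 11], [.use 1896 true, .use 86 false]⟩,
  ⟨[14, 6, 10, 8, 10, 10, 15], [4, 8, 6, 4, 13, 10, 8, 6, 4, 6, 11, 8, 6, 4, 11, 8, 6, 10, 8, 6], [14, 6, 10, 8, 13, 11], [.use 1872 true, .use 714 false, .use 1785 false]⟩,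
  ⟨[14, 6, 8, 10, 15, 9, 6, 14, 6, 8, 10], [4, 6, 8, 6, 4, 6, 4, 11, 8, 6, 4], [14, 6, 8, 11, 15, 11, 14, 10], [.use 1888 true, .use 762 false]⟩,
  ⟨[14, 6, 8, 10, 10, 14, 6], [6, 4, 10, 10, 8, 6, 4, 10, 8, 6, 4, 12, 10, 8, 6, 4, 10, 8], [14, 6, 8, 11, 8, 15, 6, 14, 6], [.use 1893 true, .use 699 false]⟩,
  ⟨[14, 6, 10, 8, 13, 14, 11], [8, 6, 4, 10, 8, 6, 4, 11, 13, 11, 8, 6, 4, 10, 8, 6, 4, 10, 8], [14, 6, 10, 8, 11, 14], [.use 1895 true, .use 1836 false]⟩,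
  ⟨[14, 6, 10, 8, 13, 11, 15], [4, 8, 6, 13, 10, 8, 6, 4, 6, 4, 11, 8, 6, 4, 11, 8, 6, 10, 8, 6], [14, 6, 10, 8, 11, 5, 15, 10, 14, 11, 15], [.use 1897 true, .use 809 false]⟩,
  ⟨[14, 6, 10, 14, 10, 10, 6, 4], [8, 6, 4, 10, 8, 6, 4, 10, 8, 6, 4, 11, 8, 6, 4, 10, 8, 6, 11, 8, 10, 10], [14, 6, 10, 14, 10, 10, 6], [.ins 7 11, .use 632 false, .use 1626 true, .rel 8 3 (12, false, 1), .use 632 true, .cancel 7]⟩,
  ⟨[14, 6, 11, 5, 15, 10, 14, 11, 15, 6], [4, 6, 4, 6, 12, 11, 8, 6, 4, 6, 11, 8, 6, 4, 10, 10], [14, 6, 8, 10, 14, 10, 12], [.ins 9 11, .use 1252 false, .use 1628 true, .rel 8 3 (13, false, 1), .use 633 false, .use 1622 false]⟩,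
  ⟨[14, 6, 8, 10, 13, 14, 10, 10, 6], [4, 6, 4, 10, 10, 8, 6, 4, 6, 10, 8, 6, 4, 6, 10, 13], [14, 6, 11, 5, 15, 10, 14, 11, 15], [.use 1137 true, .use 1904 true, .cancel 9]⟩,
  ⟨[14, 6, 11, 5, 15, 10, 14, 11, 15, 7], [4, 6, 4, 6, 12, 11, 8, 6, 4, 6, 11, 8, 6, 4, 10, 10], [14, 6, 8, 10, 14, 10, 12], [.use 1905 true, .use 722 true, .cancel 8, .use 999 false]⟩,
  ⟨[14, 6, 11, 5, 15, 10, 14, 11, 15, 13], [4, 6, 4, 6, 12, 11, 8, 6, 4, 6, 11, 8, 6, 4, 10, 10], [14, 6, 8, 10, 14, 6, 11], [.use 1905 true, .use 1136 false]⟩,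
  ⟨[14, 6, 10, 8, 14, 6, 11], [6, 4, 8, 6, 4, 6, 11, 8, 6, 4, 6, 10, 8, 6, 4, 6, 10, 8, 10, 12], [14, 6, 10, 14, 10, 12], [.ins 6 8, .use 1629 false, .rel 8 2 (14, false, 0), .use 633 false, .use 1622 false, .use 998 false, .use 720 true, .cancel 6, .use 1446 false, .use 1632 false, .use 278 false, .use 53 false, .use 284 true, .cancel 5, .use 223 false, .use 223 true, .cancel 5, .use 1704 false]⟩,
  ⟨[14, 6, 8, 10, 14, 11, 8], [4, 8, 6, 4, 10, 8, 6, 4, 10, 8, 6, 4, 13, 10, 8, 6, 10, 10, 8], [14, 6, 8, 10, 14, 10, 12], [.use 64 true, .use 1634 true, .ins 8 8, .use 959 false, .use 223 true, .ins 5 11, .use 284 false, .use 53 true, .ins 4 8, .use 52 false, .use 1632 true, .use 1446 true, .ins 6 10, .use 720 false, .use 998 true, .use 1622 true, .use 633 true, .rel 8 10 (14, false, 4), .use 633 false, .use 1622 false]⟩,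
  ⟨[14, 6, 10, 8, 13, 15, 10, 10], [4, 6, 8, 6, 4, 6, 10, 8, 6, 4, 6, 12, 11, 8, 6, 4, 6, 11, 8, 6], [14, 6, 8, 10, 14, 11], [.use 1514 true, .use 1909 true, .cancel 6]⟩,
  ⟨[14, 6, 8, 10, 14, 11, 11], [6, 8, 6, 4, 6, 10, 8, 6, 4, 6, 10, 8, 6, 4, 6, 13, 11, 8, 6, 4], [14, 6, 10, 8, 13, 15, 10], [.use 1910 true, .use 751 true, .cancel 7]⟩,
  ⟨[14, 6, 8, 10, 14, 11, 9], [4, 8, 6, 4, 10, 8, 6, 4, 10, 8, 6, 4, 13, 10, 8, 6, 10, 10, 8], [14, 6, 8, 10, 14, 10, 12], [.use 1910 true, .use 878 true, .cancel 9, .use 1513 false]⟩,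
  ⟨[14, 6, 8, 14, 11, 8, 12, 10], [6, 8, 11, 8, 6, 4, 6, 10, 8, 6, 4, 6, 10, 8, 6, 4, 6, 13], [14, 6, 10, 14, 6, 11], [.use 307 true, .use 75 true, .ins 5 8, .use 74 false, .use 1659 true, .use 1037 true, .use 63 true, .ins 5 11, .use 64 false, .use 1910 true, .use 1514 true, .use 1622 true, .use 633 true, .rel 8 9 (14, false, 6), .use 632 true, .cancel 7, .use 1087 false]⟩,
  ⟨[14, 6, 10, 14, 10, 10, 6], [6, 4, 6, 8, 6, 4, 6, 12, 11, 8, 6, 4, 6, 8, 11, 8, 6, 11], [14, 6, 8, 14, 11, 8, 12], [.ins 7 10, .use 1087 false, .use 1913 true, .cancel 7]⟩,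
  ⟨[14, 6, 8, 14, 11, 8, 12, 7], [6, 8, 11, 8, 6, 4, 6, 10, 8, 6, 4, 6, 10, 8, 6, 4, 6, 13], [14, 6, 10, 14, 10, 10], [.use 1914 true, .use 631 true, .cancel 6]⟩,
  ⟨[14, 6, 8, 14, 11, 8, 12, 11], [6, 8, 11, 8, 6, 4, 6, 10, 8, 6, 4, 6, 10, 8, 6, 4, 6, 13], [14, 6, 10, 14, 10, 10, 6, 11], [.use 1914 true, .use 632 false]⟩,
  ⟨[14, 6, 8, 14, 11, 8, 12, 12], [6, 8, 11, 8, 6, 4, 6, 10, 8, 6, 4, 6, 10, 8, 6, 4, 6, 13], [14, 6, 10, 14, 10, 12, 6, 11, 11], [.use 1914 true, .use 1162 true, .cancel 9]⟩,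
  ⟨[14, 6, 8, 14, 11, 8, 12, 6], [6, 8, 11, 8, 6, 4, 6, 10, 8, 6, 4, 6, 10, 8, 6, 4, 6, 13], [14, 6, 10, 14, 10, 10], [.use 1914 true, .use 1163 false]⟩,
  ⟨[14, 6, 8, 14, 11, 8, 12, 14], [6, 11, 8, 6, 4, 6, 12, 11, 8, 6, 4, 6, 10, 8, 6, 4, 6, 11], [14, 6, 10, 14, 6, 11], [.use 1914 true, .use 1616 true, .cancel 6]⟩]

/-- Equations. -/
def part30 : List CFact := [
  ⟨[14, 6, 8, 14, 11, 8, 12, 15], [6, 4, 8, 6, 4, 6, 11, 8, 6, 4, 6, 10, 8, 6, 4, 6, 10, 8, 10, 12], [14, 6, 10, 14, 6, 11], [.use 1914 true, .use 1617 true, .cancel 6]⟩,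
  ⟨[14, 6, 8, 14, 11, 8, 12, 4], [4, 8, 11, 8, 6, 4, 6, 11, 8, 6, 4, 6, 10, 8, 6, 4, 6, 10, 10, 8, 11], [14, 6, 8, 14, 11, 8, 12], [.use 1914 true, .use 1903 false, .use 1914 false]⟩,
  ⟨[14, 6, 8, 14, 11, 8, 12, 5], [4, 8, 11, 8, 6, 4, 6, 11, 8, 6, 4, 6, 10, 8, 6, 4, 6, 10, 10, 8, 11], [14, 6, 8, 14, 11, 8, 12], [.use 1914 true, .use 1903 true, .cancel 7, .use 1914 false]⟩,
  ⟨[14, 6, 10, 13, 14, 11, 6], [4, 6, 10, 8, 6, 4, 6, 4, 8, 6, 12, 10, 8, 6, 4], [14, 6, 8, 14, 11, 11, 15, 10, 10], [.use 1262 true, .ins 6 6, .use 1615 false, .rel 8 3 (18, false, 1), .use 1625 false]⟩,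
  ⟨[14, 6, 8, 14, 11, 11, 14, 10, 10, 6], [11, 8, 6, 4, 6, 4, 8, 6, 10, 8, 6, 4, 6, 10, 8, 13, 11], [14, 6, 10, 13, 14, 11], [.ins 10 6, .use 1587 false, .use 1923 true, .cancel 6]⟩,
  ⟨[14, 6, 10, 13, 14, 11, 7], [4, 6, 10, 8, 6, 4, 6, 4, 8, 6, 12, 10, 8, 6, 4], [14, 6, 8, 14, 11, 11, 15, 10, 10], [.use 1924 true, .use 613 true, .cancel 9, .use 1429 false]⟩,
  ⟨[14, 6, 10, 14, 10, 10, 6, 11, 13], [6, 4, 6, 10, 8, 6, 4, 6, 11, 8, 6, 4, 6, 10, 8, 6, 13, 11], [14, 6, 10, 8, 13, 15, 10], [.rel 8 1 (20, false, 0), .use 632 true, .cancel 7, .use 1914 false, .use 1913 false, .use 1604 true, .cancel 10, .use 1681 false, .use 1911 false]⟩,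
  ⟨[14, 6, 8, 10, 13, 14, 10, 13], [4, 8, 6, 4, 10, 8, 6, 4, 10, 8, 6, 4, 13, 10, 8, 6, 10, 10, 8], [14, 6, 10, 8, 13, 14], [.use 998 true, .use 1622 true, .use 633 true, .rel 8 3 (20, false, 3), .use 1926 false, .use 750 true, .cancel 6, .use 1331 false]⟩,
  ⟨[14, 6, 8, 10, 13, 14, 10], [4, 8, 6, 4, 10, 8, 6, 4, 10, 8, 6, 4, 13, 10, 8, 6, 10, 10, 8], [14, 6, 10, 8, 12, 14], [.ins 7 13, .use 1927 false, .use 322 false]⟩,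
  ⟨[14, 6, 10, 8, 12, 14, 11], [8, 6, 4, 6, 11, 8, 6, 4, 6, 10, 8, 6, 4, 10, 8, 6, 11, 8, 6, 4], [14, 6, 14, 10, 8], [.use 1928 true, .use 720 true, .cancel 6, .use 1446 false, .use 1632 false]⟩,
  ⟨[14, 6, 10, 8, 12, 14, 10], [8, 6, 4, 10, 10, 8, 6, 4, 10, 8, 6, 4, 12, 10, 8, 6, 4, 10, 8], [14, 6, 8, 10, 14, 10, 12], [.use 1928 true, .use 721 false, .use 999 false]⟩,
  ⟨[14, 6, 10, 14, 10, 10, 6, 11, 15], [4, 6, 8, 6, 4, 10, 8, 6, 4, 11, 11, 8, 6, 4, 10, 8, 10, 8], [14, 6, 10, 8, 10, 13], [.rel 8 1 (24, false, 0), .use 1629 true, .cancel 6, .use 430 true, .cancel 6, .use 1461 false, .use 1501 false, .use 1772 false]⟩,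
  ⟨[14, 6, 10, 14, 10, 10, 6, 11], [4, 6, 8, 6, 4, 10, 8, 6, 4, 11, 11, 8, 6, 4, 10, 8, 10, 8], [14, 6, 10, 8, 10, 13, 14], [.ins 8 15, .use 1931 false, .use 118 false]⟩,
  ⟨[14, 6, 10, 8, 10, 13, 14, 10], [6, 8, 6, 4, 10, 8, 6, 11, 8, 6, 4, 6, 4, 10, 8, 6, 4, 10, 8, 12], [14, 6, 8, 14, 11, 8, 12], [.use 1932 true, .use 632 true, .cancel 7, .use 1914 false]⟩,
  ⟨[14, 6, 10, 8, 10, 13, 14, 11], [4, 6, 8, 6, 4, 11, 8, 6, 4, 11, 8, 6, 4, 10, 8, 6, 10, 10, 8], [14, 6, 8, 10, 14, 10, 12], [.use 1932 true, .use 633 false, .use 1622 false]⟩,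
  ⟨[14, 6, 10, 8, 10, 13, 14, 7], [6, 4, 8, 6, 13, 10, 8, 6, 4, 6, 4, 8, 10, 8, 6, 10, 8, 11], [14, 6, 10, 14, 6, 8], [.use 1932 true, .use 1615 true, .cancel 6]⟩,
  ⟨[14, 6, 10, 8, 10, 13, 14, 12], [4, 6, 8, 6, 4, 6, 10, 8, 6, 4, 6, 12, 11, 8, 6, 4, 6, 11, 8, 6], [14, 6, 8, 14, 11, 11, 15, 10, 10], [.use 1932 true, .use 1625 false]⟩,
  ⟨[14, 6, 10, 8, 10, 13, 14, 5], [4, 8, 11, 8, 6, 4, 6, 11, 8, 6, 4, 6, 10, 8, 6, 4, 6, 10, 10, 8, 11], [14, 6, 10, 8, 10, 13, 14], [.use 1932 true, .use 1626 false, .use 1932 false]⟩,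
  ⟨[14, 6, 10, 8, 10, 13, 14, 4], [4, 8, 11, 8, 6, 4, 6, 11, 8, 6, 4, 6, 10, 8, 6, 4, 6, 10, 10, 8, 11], [14, 6, 10, 8, 10, 13, 14], [.use 1932 true, .use 1626 true, .cancel 8, .use 1932 false]⟩,
  ⟨[14, 6, 10, 8, 10, 13, 14, 6], [6, 4, 8, 6, 13, 10, 8, 6, 4, 6, 4, 8, 10, 8, 6, 10, 8, 11], [14, 6, 10, 14, 6, 8], [.use 1932 true, .use 1628 false]⟩,
  ⟨[14, 6, 10, 8, 10, 13, 14, 9], [6, 4, 8, 6, 13, 10, 8, 6, 4, 6, 4, 8, 10, 8, 6, 10, 8, 11], [14, 6, 10, 8, 14, 6], [.use 1932 true, .use 1629 true, .cancel 6]⟩,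
  ⟨[14, 6, 10, 8, 10, 13, 14, 8], [6, 4, 8, 6, 13, 10, 8, 6, 4, 6, 4, 8, 10, 8, 6, 10, 8, 11], [14, 6, 10, 8, 14, 6], [.use 1932 true, .use 1630 false]⟩,
  ⟨[14, 6, 10, 8, 10, 13, 14, 13], [4, 8, 6, 4, 13, 10, 8, 6, 4, 6, 11, 8, 6, 4, 11, 8, 6, 10, 8, 6], [14, 6, 10, 8, 13, 15, 10], [.use 1932 true, .use 1926 false]⟩,
  ⟨[14, 6, 10, 8, 13, 15, 10], [6, 8, 6, 4, 10, 8, 6, 11, 8, 6, 4, 6, 4, 10, 8, 6, 4, 10, 8, 12], [14, 6, 10, 8, 10, 14], [.use 1942 true, .use 314 true, .cancel 6]⟩,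
  ⟨[14, 6, 10, 8, 10, 14, 11], [8, 6, 4, 10, 8, 6, 4, 11, 13, 11, 8, 6, 4, 10, 8, 6, 4, 10, 8], [14, 6, 10, 8, 13, 14], [.use 1943 true, .use 750 true, .cancel 6, .use 1331 false]⟩,
  ⟨[14, 6, 10, 8, 10, 14, 10], [4, 6, 8, 6, 4, 11, 8, 6, 4, 11, 8, 6, 4, 10, 8, 6, 10, 10, 8], [14, 6, 8, 10, 14, 11], [.use 1943 true, .use 751 false, .use 1910 false]⟩,
  ⟨[14, 6, 8, 11, 8, 15, 6, 14, 6, 6], [4, 8, 6, 4, 10, 8, 6, 4, 10, 8, 6, 4, 13, 10, 8, 6, 10, 10], [14, 6, 8, 10, 10, 14], [.rel 9 1 (4, false, 0), .use 699 true, .cancel 8, .use 1893 false]⟩,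
  ⟨[14, 6, 10, 14, 10, 10, 8], [4, 6, 11, 8, 6, 4, 6, 8, 13, 10, 8, 6, 4], [14, 6, 8, 11, 8, 15, 6, 14, 6], [.use 1795 true, .ins 7 9, .use 702 false, .rel 9 2 (5, false, 0)]⟩,
  ⟨[14, 6, 8, 10, 10, 14, 8], [6, 8, 6, 4, 10, 8, 6, 11, 8, 6, 4, 6, 4, 10, 8, 6, 4, 10, 8, 12], [14, 6, 14, 10, 10], [.use 1946 true, .rel 9 2 (9, false, 0), .use 1947 true, .cancel 6, .use 1163 true, .cancel 7, .use 1914 false, .use 307 true, .cancel 6, .use 279 true, .cancel 5]⟩,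
  ⟨[14, 6, 14, 10, 10, 8], [4, 8, 6, 4, 13, 10, 8, 6, 4, 6, 11, 8, 6, 4, 11, 8, 6, 10, 8, 6], [14, 6, 8, 10, 10, 14], [.use 282 true, .use 306 true, .use 1914 true, .use 631 true, .use 1795 true, .ins 7 9, .use 702 false, .rel 9 5 (9, false, 1), .use 699 true, .cancel 8, .use 1893 false]⟩,
  ⟨[14, 6, 8, 11, 8, 15, 6, 14, 6, 13], [0, 10, 8, 6, 4, 11, 8, 6, 4, 10, 8, 6, 4, 10, 8, 10, 8, 13], [14, 6, 14, 10, 8, 7], [.rel 9 1 (18, false, 0), .use 699 true, .cancel 8, .use 1893 false, .use 985 true, .cancel 6, .use 1446 false, .use 1632 false, .use 1124 false]⟩,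
  ⟨[14, 6, 8, 11, 8, 15, 6, 14, 6], [4, 13, 10, 8, 6, 4, 11, 8, 6, 4, 11, 8, 6, 4, 11, 8, 6, 4, 12, 11, 8], [14, 6, 10, 14, 11, 12], [.insRel 9 (18, false, 1), .use 699 true, .cancel 8, .use 1893 false, .use 239 false, .use 62 false, .use 1798 false]⟩,
  ⟨[14, 6, 10, 14, 11, 12, 7], [6, 4, 6, 4, 11, 8, 6, 4, 6, 11, 8, 6, 4, 13, 10], [14, 6, 8, 10, 10, 14], [.use 1951 true, .use 699 true, .cancel 8, .use 1893 false]⟩,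
  ⟨[14, 6, 10, 14, 11, 12, 8], [8, 6, 4, 10, 10, 8, 6, 4, 10, 8, 6, 4, 12, 10, 8, 6, 4, 10, 8], [14, 6, 10, 14, 10, 10], [.use 1951 true, .use 702 true, .cancel 7, .use 1795 false]⟩,
  ⟨[14, 6, 10, 14, 11, 12, 6], [6, 4, 6, 4, 11, 8, 6, 4, 6, 11, 8, 6, 4, 13, 10], [14, 6, 8, 10, 10, 14], [.use 1951 true, .use 1946 false]⟩,
  ⟨[14, 6, 10, 14, 11, 12, 9], [8, 6, 4, 10, 10, 8, 6, 4, 10, 8, 6, 4, 12, 10, 8, 6, 4, 10, 8], [14, 6, 10, 14, 10, 10], [.use 1951 true, .use 1947 true, .cancel 6]⟩,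
  ⟨[14, 6, 10, 14, 11, 12, 13], [6, 4, 8, 6, 4, 6, 10, 8, 6, 4, 13, 10, 8, 6, 10, 8, 10], [14, 6, 14, 10, 8, 7], [.use 1951 true, .use 1950 false]⟩,
  ⟨[14, 6, 14, 10, 8, 7], [6, 10, 8, 6, 4, 10, 8, 6, 4, 10, 8, 6, 4, 12, 11, 8, 6], [14, 6, 10, 14, 11], [.use 1956 true, .use 101 true, .cancel 5]⟩,
  ⟨[14, 6, 10, 14, 11, 6], [6, 4, 8, 6, 4, 6, 10, 8, 6, 4, 13, 10, 8, 6, 10, 8, 10], [14, 6, 14, 10, 8], [.use 1957 true, .use 614 true, .cancel 5]⟩,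
  ⟨[14, 6, 10, 14, 11, 7], [6, 4, 8, 6, 4, 6, 10, 8, 6, 4, 13, 10, 8, 6, 10, 8, 10], [14, 6, 14, 10, 8], [.use 1957 true, .use 1124 true, .cancel 5]⟩,
  ⟨[14, 6, 8, 10, 15, 11, 14, 10, 15], [4, 6, 8, 6, 4, 11, 8, 6, 4, 11, 8, 6, 4, 10, 8, 6, 10, 10, 8], [14, 6, 10, 8], [.insRel 9 (29, false, 5), .use 718 true, .cancel 8, .use 1748 false, .use 433 false, .use 1544 false, .use 1546 false, .use 1681 false, .use 64 true, .cancel 5, .use 690 false, .use 1383 false, .use 12 true, .cancel 3, .use 372 false, .use 1381 false, .use 33 false, .use 460 true, .cancel 7, .use 1834 false, .use 1876 false, .use 1898 false, .use 86 true, .cancel 5, .use 87 false, .use 1064 false, .use 1065 true, .cancel 6, .use 1331 false, .use 1901 false, .use 83 true, .cancel 5, .use 36 true, .cancel 4]⟩,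
  ⟨[14, 6, 10, 8, 14], [6, 4, 8, 6, 4, 6, 11, 8, 6, 4, 6, 10, 8, 6, 4, 6, 10, 8, 10, 12], [14, 6, 10, 14, 10, 12, 6, 11], [.use 1960 true, .use 718 true, .cancel 8, .use 1748 false]⟩,
  ⟨[14, 6, 10, 14, 10, 12, 6, 11], [4, 11, 8, 6, 4, 12, 11, 8, 6, 4, 10, 8, 6, 4, 11, 8, 6, 10, 8, 12], [14, 6, 10, 8, 14], [.use 1961 true, .use 39 false]⟩,
  ⟨[14, 6, 10, 8, 14, 10], [6, 4, 8, 6, 4, 6, 11, 8, 6, 4, 6, 10, 8, 6, 4, 6, 10, 8, 10, 12], [14, 6, 10, 14, 10, 12, 6], [.use 1962 true, .use 432 true, .cancel 7]⟩,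
  ⟨[14, 6, 10, 14, 10, 12, 6], [4, 11, 8, 6, 4, 12, 11, 8, 6, 4, 10, 8, 6, 4, 11, 8, 6, 10, 8, 12], [14, 6, 10, 8, 14, 10], [.use 1963 true, .use 89 false]⟩,
  ⟨[14, 6, 10, 8, 14, 11], [6, 4, 8, 6, 4, 6, 11, 8, 6, 4, 6, 10, 8, 6, 4, 6, 10, 8, 10, 12], [14, 6, 10, 14, 10, 12, 6, 11, 11], [.use 1962 true, .use 433 false]⟩,
  ⟨[14, 6, 10, 14, 10, 12, 6, 11, 11], [4, 11, 8, 6, 4, 12, 11, 8, 6, 4, 10, 8, 6, 4, 11, 8, 6, 10, 8, 12], [14, 6, 10, 8, 14, 11], [.use 1965 true, .use 90 false]⟩,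
  ⟨[14, 6, 10, 8, 14, 10, 7], [6, 4, 8, 6, 4, 6, 11, 8, 6, 4, 6, 10, 8, 6, 4, 6, 10, 8, 10, 12], [14, 6, 10, 14, 10, 12], [.use 1964 true, .use 431 true, .cancel 6]⟩,
  ⟨[14, 6, 10, 8, 14, 10, 13], [6, 4, 8, 6, 4, 6, 11, 8, 6, 4, 6, 10, 8, 6, 4, 6, 10, 8, 10, 12], [14, 6, 10, 14, 6, 11], [.use 1964 true, .use 1093 false]⟩,
  ⟨[14, 6, 10, 8, 14, 10, 6], [6, 4, 8, 6, 4, 6, 11, 8, 6, 4, 6, 10, 8, 6, 4, 6, 10, 8, 10, 12], [14, 6, 10, 14, 10, 12], [.use 1964 true, .use 1094 true, .cancel 6]⟩,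
  ⟨[14, 6, 10, 8, 14, 10, 12], [8, 6, 4, 10, 10, 8, 6, 4, 10, 8, 6, 4, 12, 10, 8, 6, 4, 10, 8], [14, 6, 8, 10, 14, 11], [.use 1964 true, .use 1603 false, .use 1681 false]⟩,
  ⟨[14, 6, 10, 8, 14, 11, 14], [8, 6, 4, 10, 10, 8, 6, 4, 6, 11, 8, 6, 4, 11, 8, 6, 4, 11, 8], [14, 6, 8, 10, 14, 11], [.use 1966 true, .use 434 false, .use 1681 false]⟩,
  ⟨[14, 6, 10, 8, 15, 11, 14], [4, 6, 8, 6, 4, 11, 8, 6, 4, 11, 8, 6, 4, 10, 8, 6, 10, 10, 8], [14, 6, 8, 10, 14, 11], [.use 1369 true, .use 1971 false]⟩,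
  ⟨[14, 6, 10, 8, 14, 11, 13], [8, 6, 4, 10, 8, 6, 4, 11, 13, 11, 8, 6, 4, 10, 8, 6, 4, 10, 8], [14, 6, 8, 14, 11, 8, 12], [.use 1966 true, .use 1162 false, .use 1914 false]⟩,
  ⟨[14, 6, 10, 8, 14, 11, 6], [6, 8, 6, 4, 6, 4, 11, 8, 6, 4, 6, 10, 8, 6, 4, 6, 10, 8, 10, 12], [14, 6, 11, 11, 5, 15, 10, 14, 11, 15], [.use 1966 true, .use 1164 false]⟩,
  ⟨[14, 6, 10, 8, 14, 11, 7], [6, 8, 6, 4, 6, 4, 11, 8, 6, 4, 6, 10, 8, 6, 4, 6, 10, 8, 10, 12], [14, 6, 11, 11, 5, 15, 10, 14, 11, 15], [.use 1966 true, .use 1165 true, .cancel 10]⟩,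
  ⟨[14, 6, 10, 8, 14, 11, 15], [4, 6, 8, 6, 4, 11, 8, 6, 4, 11, 8, 6, 4, 10, 8, 6, 10, 10, 8], [14, 6, 8, 10, 14, 11], [.use 1966 true, .use 1544 false, .use 1546 false, .use 1681 false]⟩,
  ⟨[14, 6, 8, 10, 15, 9, 6, 14, 6, 8], [4, 6, 8, 6, 4, 6, 4, 11, 8, 6, 4], [14, 6, 8, 14, 10], [.insRel 10 (14, false, 0), .use 745 true, .cancel 9, .use 1718 false, .use 1905 false, .use 1252 false, .use 325 false, .use 1618 false, .use 1618 true, .cancel 5, .use 97 false, .use 1087 true, .cancel 7, .use 1914 false, .use 307 true, .cancel 6, .use 75 true, .cancel 5, .use 34 true, .cancel 4, .use 33 false]⟩,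
  ⟨[14, 6, 8, 14, 10, 9], [4, 8, 6, 4, 11, 8, 6, 4, 11, 8, 6, 4, 6, 10, 8, 6, 10, 10, 8, 12], [14, 6, 11, 5, 15, 10, 14, 11, 15], [.use 1977 true, .use 745 true, .cancel 9, .use 1718 false, .use 1905 false]⟩,
  ⟨[14, 6, 11, 5, 15, 10, 14, 11, 15], [6, 8, 6, 4, 10, 8, 6, 4, 11, 8, 6, 4, 6, 10, 8, 6, 4, 10, 8, 13], [14, 6, 8, 14, 10, 8], [.use 1978 true, .use 300 true, .cancel 6]⟩,
  ⟨[14, 6, 8, 14, 10, 8, 14], [6, 8, 6, 4, 10, 8, 6, 11, 8, 6, 4, 6, 4, 10, 8, 6, 4, 10, 8, 12], [14, 6, 11, 8, 13, 10], [.use 1979 true, .use 411 true, .cancel 8, .use 1750 false]⟩,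
  ⟨[14, 6, 8, 14, 10, 8, 11], [6, 10, 8, 6, 4, 10, 8, 6, 4, 10, 8, 6, 4, 12, 11, 8, 6], [14, 6, 10, 14, 6, 8], [.use 1979 true, .use 1252 false]⟩,
  ⟨[14, 6, 8, 14, 10, 8, 10], [4, 6, 8, 6, 4, 11, 8, 6, 4, 11, 8, 6, 4, 10, 8, 6, 13, 10, 8], [14, 6, 10, 14, 11, 11], [.use 1979 true, .use 1610 true, .cancel 6]⟩,
  ⟨[14, 6, 8, 14, 10, 8, 15], [4, 8, 6, 4, 10, 8, 6, 4, 10, 8, 6, 4, 10, 10, 8, 6, 12, 10, 8], [14, 6, 11, 8, 13, 10], [.use 1979 true, .use 1614 false, .use 1750 false]⟩]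

/-- Equations. -/
def part31 : List CFact := [
  ⟨[14, 6, 8, 14, 10, 8, 6], [6, 8, 6, 4, 13, 10, 8, 6, 4, 10, 8, 6, 4, 10, 8, 6, 11, 8, 10], [14, 6, 8, 10, 14, 10, 12], [.use 1979 true, .use 1904 false]⟩,
  ⟨[14, 6, 8, 14, 10, 8, 7], [6, 8, 6, 4, 13, 10, 8, 6, 4, 10, 8, 6, 4, 10, 8, 6, 11, 8, 10], [14, 6, 8, 10, 14, 10, 12], [.use 1979 true, .use 1906 false]⟩,
  ⟨[14, 6, 8, 14, 10, 8, 13], [6, 8, 6, 4, 13, 10, 8, 6, 4, 10, 8, 6, 4, 10, 8, 6, 11, 8, 10], [14, 6, 8, 10, 14, 6, 11], [.use 1979 true, .use 1907 false]⟩,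
  ⟨[14, 6, 14, 11, 8, 11, 11], [6, 8, 6, 4, 10, 8, 6, 4, 10, 8, 6, 4, 10, 8, 6, 11, 8, 10], [14, 6, 8, 10, 14, 6, 11], [.use 1027 true, .use 1986 false]⟩,
  ⟨[14, 6, 8, 10, 14, 6, 11, 10], [11, 8, 6, 4, 11, 8, 6, 4, 6, 11, 8, 6, 4, 10, 8, 6, 10, 8], [14, 6, 14, 11, 8, 11], [.use 1987 true, .use 768 true, .cancel 6]⟩,
  ⟨[14, 6, 14, 11, 8, 11], [6, 8, 6, 4, 10, 8, 6, 4, 10, 8, 6, 4, 10, 8, 6, 11, 8, 10], [14, 6, 8, 10, 14, 6], [.use 1988 true, .use 112 true, .cancel 6]⟩,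
  ⟨[14, 6, 8, 10, 14, 6, 11, 9], [11, 8, 6, 4, 11, 8, 6, 4, 6, 11, 8, 6, 4, 10, 8, 6, 10, 8, 12], [14, 6, 8, 14, 10, 13], [.use 1987 true, .use 769 false]⟩,
  ⟨[14, 6, 8, 10, 14, 6, 11, 8], [11, 8, 6, 4, 11, 8, 6, 4, 6, 11, 8, 6, 4, 10, 8, 6, 10, 8, 12], [14, 6, 8, 14, 10, 13], [.use 1987 true, .use 1028 false]⟩,
  ⟨[14, 6, 8, 10, 14, 6, 10], [11, 8, 6, 4, 11, 8, 6, 4, 6, 11, 8, 6, 4, 10, 8, 6, 10, 8], [14, 6, 14, 11, 8], [.use 1989 true, .use 767 true, .cancel 5]⟩,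
  ⟨[14, 6, 14, 11, 11, 15], [8, 6, 4, 10, 10, 8, 6, 4, 6, 11, 8, 6, 4, 11, 8, 6, 4, 11, 8, 13], [14, 6, 14, 11, 8], [.use 1800 true, .use 1992 false]⟩,
  ⟨[14, 6, 14, 11, 8, 14], [4, 6, 8, 6, 4, 12, 11, 8, 6, 4, 11, 8, 6, 4, 10, 8, 6, 10, 10, 8], [14, 6, 14, 11, 11], [.use 1993 true, .use 598 true, .cancel 5]⟩,
  ⟨[14, 6, 14, 11, 8, 10], [4, 6, 8, 6, 4, 12, 11, 8, 6, 4, 11, 8, 6, 4, 10, 8, 6, 10, 10, 8], [14, 6, 14, 11, 11, 15, 10], [.use 1993 true, .use 599 false]⟩,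
  ⟨[14, 6, 14, 11, 11, 15, 10], [8, 6, 4, 10, 10, 8, 6, 4, 6, 11, 8, 6, 4, 11, 8, 6, 4, 11, 8, 13], [14, 6, 14, 11, 8, 10], [.use 1995 true, .use 109 false]⟩,
  ⟨[14, 6, 14, 11, 8, 12], [4, 6, 8, 6, 4, 11, 8, 6, 10, 8, 6, 4, 6, 11, 8, 6, 4, 6, 10, 8], [14, 6, 10, 14, 10], [.use 1993 true, .use 973 false]⟩,
  ⟨[14, 6, 14, 11, 8, 13], [4, 6, 8, 6, 4, 11, 8, 6, 10, 8, 6, 4, 6, 11, 8, 6, 4, 6, 10, 8], [14, 6, 10, 14, 10, 12], [.use 1993 true, .use 1088 true, .cancel 6]⟩,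
  ⟨[14, 6, 14, 11, 8, 5], [4, 8, 11, 8, 6, 4, 6, 11, 8, 6, 4, 6, 10, 8, 6, 4, 6, 10, 10, 8, 11], [14, 6, 14, 11, 8], [.use 1993 true, .use 1091 false, .use 1345 false, .use 1993 false]⟩,
  ⟨[14, 6, 14, 11, 8, 4], [4, 8, 11, 8, 6, 4, 6, 11, 8, 6, 4, 6, 10, 8, 6, 4, 6, 10, 10, 8, 11], [14, 6, 14, 11, 8], [.use 1993 true, .use 1345 true, .use 1091 true, .cancel 6, .use 1993 false]⟩,
  ⟨[14, 6, 14, 11, 8, 15], [8, 6, 4, 10, 8, 6, 4, 6, 12, 11, 8, 6, 4, 11, 8, 6, 4, 11, 8], [14, 6, 14, 11, 11], [.use 1993 true, .use 1371 false]⟩,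
  ⟨[14, 6, 14, 11, 8, 6], [6, 8, 6, 4, 10, 8, 6, 4, 10, 8, 6, 4, 10, 8, 6, 11, 8, 10], [14, 6, 8, 10, 14, 11], [.use 1993 true, .use 1584 false, .use 1681 false]⟩,
  ⟨[14, 6, 14, 11, 8, 7], [6, 8, 6, 4, 10, 8, 6, 4, 10, 8, 6, 4, 10, 8, 6, 11, 8, 10], [14, 6, 8, 10, 14, 11], [.use 1993 true, .use 1600 true, .cancel 10, .use 1681 false]⟩,
  ⟨[14, 6, 14, 11, 8, 10, 10], [4, 8, 6, 4, 13, 10, 8, 6, 4, 6, 11, 8, 6, 4, 11, 8, 6, 10, 8, 6], [14, 6, 10, 10, 14, 11], [.use 1996 true, .use 600 false, .use 1592 false]⟩,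
  ⟨[14, 6, 14, 11, 8, 10, 4], [4, 8, 11, 8, 6, 4, 6, 11, 8, 6, 4, 6, 10, 8, 6, 4, 6, 10, 10, 8, 11], [14, 6, 14, 11, 8, 10], [.use 1996 true, .use 1602 false, .use 1996 false]⟩,
  ⟨[14, 6, 14, 11, 8, 10, 5], [4, 8, 11, 8, 6, 4, 6, 11, 8, 6, 4, 6, 10, 8, 6, 4, 6, 10, 10, 8, 11], [14, 6, 14, 11, 8, 10], [.use 1996 true, .use 1602 true, .cancel 7, .use 1996 false]⟩,
  ⟨[14, 6, 14, 11, 8, 10, 13], [4, 6, 8, 6, 4, 11, 8, 6, 10, 8, 6, 4, 6, 11, 8, 6, 4, 6, 10, 8], [14, 6, 10, 13, 14, 11], [.use 1996 true, .use 1605 true, .cancel 6]⟩,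
  ⟨[14, 6, 14, 11, 8, 10, 12], [6, 8, 11, 8, 6, 4, 6, 10, 8, 6, 4, 6, 10, 8, 6, 4, 6, 13], [14, 6, 10, 14, 6, 8], [.use 1996 true, .use 1607 false]⟩,
  ⟨[14, 6, 8, 14, 10, 15], [6, 4, 8, 11, 8, 6, 4, 11, 8, 6, 4, 10, 10, 8, 6, 4, 10, 8, 6, 11], [14, 6, 8, 11, 14, 6], [.use 1977 true, .use 747 true, .cancel 6, .use 1434 false]⟩,
  ⟨[14, 6, 8, 14, 10, 10], [], [14, 6, 8, 11, 15, 11, 14, 10], [.use 1977 true, .use 1899 false]⟩,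
  ⟨[14, 6, 8, 11, 15, 11, 14, 10], [], [14, 6, 8, 14, 10, 10], [.use 2010 true, .use 72 false]⟩,
  ⟨[14, 6, 8, 14, 10, 10, 15], [], [14, 6, 8, 11, 15, 11, 14, 10, 15], [.use 2011 true, .use 763 false]⟩,
  ⟨[14, 6, 8, 11, 15, 11, 14, 10, 15, 12], [6, 4, 10, 8, 6, 4, 6, 11, 8, 6, 4, 6, 10, 8, 6, 4, 11, 8, 6, 13], [14, 6, 8, 11, 14, 6], [.rel 9 1 (26, false, 1), .use 763 true, .cancel 8, .use 2011 false, .use 245 true, .cancel 5, .use 2009 false]⟩,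
  ⟨[14, 6, 8, 11, 15, 11, 14, 10, 15], [4, 10, 8, 6, 4, 11, 8, 6, 4, 6, 11, 8, 6, 4, 13, 11, 8, 6], [14, 6, 8, 11, 8, 6], [.ins 9 12, .use 2013 false, .use 1880 false]⟩,
  ⟨[14, 6, 8, 11, 8, 6, 14], [6, 4, 8, 6, 11, 8, 6, 4, 6, 4, 12, 10, 8, 6, 4, 11, 8, 11], [14, 6, 8, 14, 10, 10], [.use 2014 true, .use 763 true, .cancel 8, .use 2011 false]⟩,
  ⟨[14, 6, 8, 15, 11, 15, 10, 14, 5], [4, 8, 11, 8, 6, 4, 6, 11, 8, 6, 4, 6, 10, 8, 6, 4, 6, 10, 10, 8, 11], [14, 6, 8, 15, 11, 15, 10, 14], [.rel 8 1 (12, false, 1), .use 1147 true, .cancel 7, .use 1488 false, .use 1132 false, .use 1488 false, .use 1509 false]⟩,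
  ⟨[14, 6, 8, 15, 11, 15, 10, 14], [8, 6, 4, 10, 8, 6, 4, 6, 12, 11, 8, 6, 4, 11, 8, 6, 4, 11, 8], [14, 6, 10, 8, 14, 10], [.insRel 8 (20, false, 1), .use 1147 true, .cancel 7, .use 1488 false, .use 114 true, .cancel 6, .use 63 true, .cancel 5, .use 64 false, .use 1716 false, .use 1964 false]⟩,
  ⟨[14, 6, 10, 8, 14, 10, 15], [4, 10, 8, 6, 4, 6, 11, 11, 8, 6, 4, 6, 11, 8, 6, 4, 6, 10, 8, 10, 8], [14, 6, 8, 14, 11, 8], [.use 2017 true, .use 775 true, .cancel 7, .use 1486 false, .use 1659 false]⟩,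
  ⟨[14, 6, 10, 8, 14, 10, 10], [8, 6, 4, 10, 10, 8, 6, 4, 10, 8, 6, 4, 12, 10, 8, 6, 4, 10, 8], [14, 6, 8, 10, 14, 10, 13], [.use 2017 true, .use 1147 true, .cancel 7, .use 1488 false]⟩,
  ⟨[14, 6, 10, 8, 14, 10, 5], [4, 8, 11, 8, 6, 4, 6, 11, 8, 6, 4, 6, 10, 8, 6, 4, 6, 10, 10, 8, 11], [14, 6, 10, 8, 14, 10], [.use 2017 true, .use 2016 false, .use 2017 false]⟩,
  ⟨[14, 6, 10, 8, 14, 10, 4], [4, 8, 11, 8, 6, 4, 6, 11, 8, 6, 4, 6, 10, 8, 6, 4, 6, 10, 10, 8, 11], [14, 6, 10, 8, 14, 10], [.use 2017 true, .use 2016 true, .cancel 8, .use 2017 false]⟩,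
  ⟨[14, 6, 10, 8, 11, 5, 15, 11], [0], [14, 6, 8, 14, 11, 8], [.insRel 8 (10, false, 0), .use 804 true, .cancel 7, .use 1055 false, .use 1057 false, .use 1790 false, .use 1895 false, .use 1368 false, .use 1943 false, .use 1945 false, .use 64 true, .cancel 5, .use 63 false, .use 1037 false, .use 1659 false]⟩,
  ⟨[14, 6, 8, 14, 11, 8, 10], [], [14, 6, 10, 8, 11, 14], [.use 2022 true, .use 804 true, .cancel 7, .use 1055 false]⟩,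
  ⟨[14, 6, 8, 14, 11, 8, 10], [], [14, 6, 10, 8, 11, 14], [.use 583 true, .use 2023 false]⟩,
  ⟨[14, 6, 10, 8, 11, 14, 9], [], [14, 6, 14, 11, 8, 10], [.use 2024 true, .use 962 false]⟩,
  ⟨[14, 6, 10, 8, 11, 14, 8], [], [14, 6, 14, 11, 8, 10], [.use 2024 true, .use 1031 true, .cancel 6]⟩,
  ⟨[14, 6, 8, 14, 11, 8, 15], [], [14, 6, 10, 8, 14, 10], [.use 2022 true, .use 805 false]⟩,
  ⟨[14, 6, 8, 15, 11, 14, 10, 15], [8, 6, 4, 10, 8, 6, 4, 6, 12, 11, 8, 6, 4, 11, 8, 6, 4, 11, 8], [14, 6, 10, 8, 14, 10], [.use 1682 true, .use 2027 false]⟩,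
  ⟨[14, 6, 10, 8, 11, 5, 15, 10, 14, 11, 15], [0, 8, 6, 4, 10, 8, 6, 4, 11, 13, 11, 8, 6, 4, 10, 8, 6, 4, 10, 8], [14, 6, 10, 8, 10, 10], [.insRel 11 (21, false, 1), .use 809 true, .cancel 10, .use 1897 false, .use 1519 false, .use 1062 false, .use 1835 false, .use 1872 false]⟩,
  ⟨[14, 6, 10, 8, 10, 10, 14], [8, 6, 4, 10, 8, 6, 4, 11, 13, 11, 8, 6, 4, 10, 8, 6, 4, 10, 8], [14, 6, 10, 8, 13, 11], [.use 2029 true, .use 809 true, .cancel 10, .use 1897 false]⟩,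
  ⟨[14, 6, 10, 8, 10, 8, 5], [4, 8, 11, 8, 6, 4, 6, 11, 8, 6, 4, 6, 10, 8, 6, 4, 6, 10, 10, 8, 11], [14, 6, 10, 8, 10, 8], [.use 1820 true, .use 1467 true, .ins 8 6, .use 643 false, .ins 6 8, .use 275 false, .use 1809 true, .use 105 true, .ins 5 11, .use 105 false, .use 1752 true, .use 361 true, .use 50 true, .ins 4 10, .use 148 false, .ins 4 10, .use 204 false, .use 156 true, .use 8 true, .use 2 true, .use 0 true, .ins 0 10, .use 123 false, .ins 0 10, .use 123 false, .use 121 true, .use 123 true, .use 123 true, .rel 0 19 (30, false, 10), .use 125 true, .cancel 1, .use 2 false, .use 8 false, .use 161 true, .cancel 4, .use 204 true, .cancel 4, .use 148 true, .cancel 4, .use 365 false, .use 1390 false, .use 361 false, .use 1752 false, .use 105 true, .cancel 5, .use 224 true, .cancel 5, .use 911 false, .use 1548 true, .cancel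 5, .use 224 true, .cancel 5, .use 1548 true, .cancel 5, .use 224 false, .use 104 false, .use 1104 true, .cancel 7, .use 1695 false, .use 1305 false, .use 1422 false, .use 1730 false, .use 1776 false, .use 1148 false, .use 1695 false, .use 935 false, .use 1424 false, .use 1726 false, .use 104 true, .cancel 5, .use 105 false, .use 1809 false, .use 275 true, .cancel 6, .use 643 true, .cancel 8, .use 1467 false, .use 1820 false]⟩,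
  ⟨[14, 6, 8, 14, 10, 8, 5], [4, 8, 11, 8, 6, 4, 6, 11, 8, 6, 4, 6, 10, 8, 6, 4, 6, 10, 10, 8, 11], [14, 6, 8, 14, 10, 8], [.use 1979 true, .use 1905 true, .use 1137 true, .use 1912 true, .use 64 true, .ins 5 10, .use 63 false, .use 63 true, .ins 5 11, .use 64 false, .use 1972 true, .use 1369 true, .use 90 true, .ins 5 10, .use 89 false, .use 1964 true, .use 431 true, .ins 6 11, .use 267 false, .use 94 true, .use 41 true, .ins 4 10, .use 204 false, .use 20 true, .use 137 true, .use 2 true, .rel 1 18 (30, false, 11), .use 3 false, .use 131 false, .use 8 false, .use 165 true, .cancel 3, .use 182 false, .use 148 true, .cancel 4, .use 197 false, .use 1364 false, .use 91 false, .use 570 false, .use 1526 false, .use 1793 false, .use 296 true, .cancel 6, .use 993 false, .use 996 false, .use 1444 false, .use 338 true, .cancel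 7, .use 1842 false, .use 338 false, .use 1037 false, .use 1659 false, .use 74 true, .cancel 5, .use 219 true, .cancel 4, .use 1652 false, .use 219 false, .use 74 false, .use 584 false, .use 1645 false, .use 63 true, .cancel 5, .use 64 false, .use 1912 false, .use 1137 false, .use 1905 false, .use 1979 false]⟩,
  ⟨[14, 6, 8, 11, 8, 13, 5], [4, 8, 11, 8, 6, 4, 6, 11, 8, 6, 4, 6, 10, 8, 6, 4, 6, 10, 10, 8, 11], [14, 6, 8, 11, 8, 13], [.ins 6 6, .use 319 false, .ins 6 8, .use 206 false, .use 102 true, .use 45 true, .use 1689 true, .use 545 true, .use 416 true, .use 214 true, .use 330 true, .use 1854 true, .ins 6 6, .use 330 false, .ins 5 8, .use 214 false, .use 1667 true, .use 451 true, .ins 4 10, .use 45 false, .use 45 true, .use 1689 true, .use 545 true, .use 416 true, .use 22 true, .use 6 true, .ins 2 10, .use 5 false,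 .use 174 true, .ins 2 11, .use 10 false, .ins 3 11, .use 173 false, .use 168 true, .use 10 true, .use 3 true, .rel 1 24 (30, false, 13), .use 132 true, .cancel 2, .use 6 false, .use 20 false, .use 402 false, .use 1392 false, .use 375 false, .use 1730 false, .use 1773 false, .use 1818 false, .use 108 true, .cancel 5, .use 1724 false, .use 106 true, .cancel 5, .use 627 false, .use 1420 false, .use 1778 false, .use 51 true, .cancel 4, .use 944 true, .cancel 5, .use 1412 false, .use 1693 false, .use 908 false, .use 1731 false, .use 1098 true, .cancel 5, .use 1667 false, .use 550 true, .cancel 4, .use 1227 false, .use 1385 false, .use 495 false, .use 1412 false, .use 1693 false, .use 102 false, .use 206 true, .cancel 6, .use 319 true, .cancel 6]⟩,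
  ⟨[14, 6, 11, 8, 10, 10, 15], [0, 10, 8, 6, 4, 12, 10, 8, 6, 4, 11, 8, 6, 4, 10, 8, 10, 8], [14, 6, 8, 10, 14, 6, 11], [.ins 6 10, .use 205 false, .use 1863 true, .use 1982 true, .use 1979 true, .use 1804 true, .use 1724 true, .use 48 true, .use 1689 true, .use 545 true, .use 416 true, .use 1385 true, .use 1227 true, .use 505 true, .use 6 true, .use 1321 true, .use 382 true, .use 371 true, .use 387 true, .use 379 true, .rel 2 12 (29, false, 0), .use 374 true, .cancel 5, .use 1353 false, .use 24 false, .use 964 false, .use 1319 false, .use 98 false, .use 970 false, .use 1746 false, .use 112 false]⟩,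
  ⟨[14, 6, 10, 15, 11, 14, 10, 15], [4, 6, 8, 6, 4, 11, 8, 6, 4, 11, 8, 6, 4, 10, 8, 6, 10, 10, 8], [14, 6, 11, 8, 10, 10], [.use 1844 true, .use 2034 true, .cancel 6]⟩,
  ⟨[14, 6, 11, 8, 10, 10, 14], [0, 4, 12, 11, 8, 6, 4, 11, 8, 6, 4, 11, 8, 6, 4, 11, 8, 11, 8, 6, 4, 11], [14, 6, 8, 10, 14, 6, 11], [.use 2035 true, .use 517 true, .cancel 7, .use 1793 false]⟩,
  ⟨[14, 6, 11, 8, 10, 10, 5], [4, 8, 11, 8, 6, 4, 6, 11, 8, 6, 4, 6, 10, 8, 6, 4, 6, 10, 10, 8, 11], [14, 6, 11, 8, 10, 10], [.use 2035 true, .use 1535 false, .use 2035 false]⟩,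
  ⟨[14, 6, 11, 8, 10, 10, 4], [4, 8, 11, 8, 6, 4, 6, 11, 8, 6, 4, 6, 10, 8, 6, 4, 6, 10, 10, 8, 11], [14, 6, 11, 8, 10, 10], [.use 2035 true, .use 1535 true, .cancel 8, .use 2035 false]⟩,
  ⟨[14, 6, 10, 14, 11, 11, 4], [4, 8, 11, 8, 6, 4, 6, 11, 8, 6, 4, 6, 10, 8, 6, 4, 6, 10, 10, 8, 11], [14, 6, 10, 14, 11, 11], [.ins 6 1, .use 1095 false, .use 1858 true, .use 205 true, .use 2035 true, .use 1838 true, .use 112 true, .use 1746 true, .use 1572 true, .use 1370 true, .use 98 true, .use 509 true, .use 24 true, .use 7 true, .rel 2 11 (29, false, 9), .use 6 false, .use 22 false, .use 416 false, .use 545 false, .use 1689 false, .use 428 false, .use 1416 false, .use 1724 false, .use 1779 false, .use 1808 false, .use 1979 false, .use 1982 false]⟩,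
  ⟨[14, 6, 10, 8, 14, 6, 5], [6, 4, 10, 8, 6, 4, 6, 11, 8, 6, 4, 6, 10, 8, 6, 4, 6, 11, 8, 6], [14, 6, 10, 8, 14, 6], [.ins 6 6, .use 324 false, .ins 5 8, .use 198 false, .ins 4 10, .use 43 false, .ins 5 10, .use 98 false, .use 98 true, .use 43 true, .use 18 true, .ins 3 10, .use 16 false, .use 197 true, .ins 4 7, .use 162 false, .use 142 true, .ins 3 11, .use 165 false, .ins 3 15, .use 171 false, .ins 3 10, .use 142 false, .use 173 true, .use 177 true, .use 16 true, .use 5 true, .rel 2 19 (30, false, 10), .use 374 true, .cancel 5, .use 1353 false, .use 23 false, .use 53 false, .use 282 true, .cancel 6, .use 304 true, .cancel 6, .use 247 true, .cancel 6, .use 1038 true, .cancel 7, .use 1511 false, .use 1624 false, .use 1932 false, .use 1933 false, .use 1915 false, .use 1084 false, .use 1086 false, .use 1343 false, .use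 1163 true, .cancel 7, .use 1914 false, .use 1921 false, .use 1918 false, .use 1611 true, .cancel 6, .use 96 true, .cancel 5, .use 42 true, .cancel 4, .use 493 true, .cancel 4, .use 1309 false, .use 42 false, .use 96 false, .use 1611 false, .use 98 true, .cancel 5, .use 43 true, .cancel 4, .use 198 true, .cancel 5, .use 324 true, .cancel 6]⟩,
  ⟨[14, 6, 8, 14, 11, 11, 5], [4, 8, 11, 8, 6, 4, 6, 11, 8, 6, 4, 6, 10, 8, 6, 4, 6, 10, 10, 8, 11], [14, 6, 8, 14, 11, 11], [.ins 6 6, .use 282 false, .use 284 true, .use 1676 true, .use 1376 true, .use 1969 true, .use 2020 true, .use 1964 true, .use 1094 true, .use 1704 true, .ins 5 11, .use 284 false, .use 53 true, .use 23 true, .use 149 true, .use 151 true, .use 1353 true, .ins 5 4, .use 576 false, .ins 3 6, .use 151 false, .ins 4 8, .use 149 false, .ins 3 10, .use 23 false, .ins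 4 10, .use 53 false, .use 53 true, .use 23 true, .use 7 true, .rel 2 21 (30, false, 21), .use 5 false, .use 16 false, .use 183 true, .cancel 3, .use 173 false, .use 142 true, .cancel 3, .use 169 true, .cancel 3, .use 165 true, .cancel 3, .use 142 false, .use 160 false, .use 197 false, .use 16 true, .cancel 3, .use 491 false, .use 1309 false, .use 43 false, .use 98 false, .use 1163 true, .cancel 7, .use 1914 false, .use 1916 false, .use 1932 false, .use 1934 false, .use 1510 false, .use 247 false, .use 304 false, .use 279 true, .cancel 5, .use 956 false, .use 1581 true, .cancel 5, .use 282 true, .cancel 6]⟩,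
  ⟨[14, 6, 10, 8, 10, 14, 6], [12, 11, 8, 6, 4, 10, 8, 6, 4, 11, 8, 6, 4, 6, 10, 8, 6, 13, 10], [14, 6, 14, 11, 8, 10], [.use 1943 true, .use 1368 true, .use 1895 true, .use 1790 true, .use 1057 true, .use 83 true, .use 36 true, .ins 4 10, .use 35 false, .use 308 true, .use 1768 true, .use 1478 true, .use 764 true, .use 70 true, .use 32 true, .use 13 true, .ins 3 10, .use 12 false, .use 228 true, .use 448 true, .use 1379 true, .use 449 true, .use 185 true, .use 1383 true, .ins 5 4, .use 662 false, .ins 4 6, .use 185 false, .use 13 true, .use 4 true, .use 1 true, .use 127 true, .ins 1 6, .use 1 false, .rel 2 23 (30, false, 35), .use 4 false, .use 13 false, .use 30 false, .use 241 true, .cancel 5, .use 688 false, .use 822 false, .use 1649 false, .use 1673 false, .use 2038 false, .use 979 true, .cancel 6, .use 1649 false,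 .use 1669 false, .use 241 false, .use 30 true, .cancel 4, .use 30 false, .use 241 true, .cancel 5, .use 704 true, .cancel 6, .use 1632 false, .use 1631 false, .use 1928 false, .use 1930 false, .use 1137 false, .use 1905 false, .use 1979 false, .use 1981 false, .use 1611 false, .use 970 false, .use 1746 false, .use 1800 false, .use 1993 false, .use 109 false]⟩,
  ⟨[14, 6, 11, 8, 13, 14, 11], [6, 8, 6, 4, 10, 8, 6, 11, 8, 6, 4, 6, 4, 10, 8, 6, 4, 10, 8, 12], [14, 6, 10, 8, 10, 8], [.use 1736 true, .use 1457 true, .use 547 true, .use 1649 true, .ins 6 7, .use 979 false, .ins 6 0, .use 1099 false, .use 2037 true, .use 1674 true, .use 1414 true, .use 1233 true, .use 947 true, .use 1649 true, .use 980 true, .ins 6 10, .use 205 false, .use 77 true, .use 308 true, .use 1355 true, .use 786 true, .ins 5 6, .use 308 false, .ins 5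 8, .use 77 false, .use 205 true, .use 102 true, .use 45 true, .use 19 true, .use 137 true, .ins 2 4, .use 136 false, .rel 2 20 (30, false, 28), .use 137 false, .use 19 false, .use 45 false, .use 102 false, .use 102 true, .cancel 5, .use 45 true, .cancel 4, .use 428 false, .use 1416 false, .use 1723 false, .use 375 false, .use 1730 false, .use 1149 true, .cancel 7, .use 1695 false, .use 921 false, .use 1720 false, .use 1724 false, .use 1804 false, .use 1979 false, .use 1982 false, .use 100 true, .cancel 5, .use 1959 false, .use 1618 true, .cancel 5, .use 97 false, .use 1616 false, .use 1914 false, .use 1913 false, .use 97 true, .cancel 5, .use 42 true, .cancel 4, .use 44 false, .use 100 false, .use 1859 false]⟩,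
  ⟨[14, 6, 8, 14, 10, 10, 8], [4, 8, 6, 4, 10, 8, 6, 4, 10, 8, 6, 4, 10, 10, 8, 6, 12, 10, 8], [14, 6, 10, 13, 14, 10], [.use 72 true, .use 33 true, .use 1381 true, .use 372 true, .rel 3 4 (27, false, 3), .use 12 false, .use 26 false, .use 237 false, .use 1701 false, .use 1818 false, .use 1851 false, .use 1777 false, .use 95 true, .cancel 5, .use 94 false]⟩,
  ⟨[14, 6, 8, 14, 10, 10, 9], [4, 8, 6, 4, 10, 8, 6, 4, 10, 8, 6, 4, 10, 10, 8, 6, 12, 10, 8], [14, 6, 10, 13, 14, 10], [.use 72 true, .use 33 true, .use 14 true, .rel 3 4 (27, false, 9), .use 12 false, .use 26 false, .use 236 true, .cancel 6, .use 1701 false, .use 1818 false, .use 1851 false, .use 1774 false, .use 95 true, .cancel 5, .use 94 false]⟩,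
  ⟨[14, 6, 8, 14, 10, 4], [4, 8, 11, 8, 6, 4, 6, 11, 8, 6, 4, 6, 10, 8, 6, 4, 6, 10, 10, 8, 11], [14, 6, 8, 14, 10], [.use 879 true, .use 1884 true, .use 1834 true, .use 735 true, .use 1396 true, .use 709 true, .use 13 true, .rel 3 6 (28, false, 4), .use 14 false, .use 33 false]⟩,
  ⟨[14, 6, 10, 8, 10, 14, 14], [4, 10, 8, 6, 4, 6, 11, 11, 8, 6, 4, 6, 11, 8, 6, 4, 6, 10, 8, 10, 8], [14, 6, 10, 8, 10], [.use 1943 true, .use 1368 true, .use 1331 true, .use 650 true, .use 207 true, .use 1826 true, .use 738 true, .use 70 true, .use 1396 true, .use 709 true, .use 13 true, .use 1349 true, .use 447 true, .use 390 true, .rel 3 10 (29, false, 0), .use 372 false, .use 1381 false, .use 34 false, .use 1033 false, .use 1444 false, .use 1037 false, .use 1659 false, .use 1682 false, .use 2028 false, .use 89 true, .cancel 5, .use 792 false,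 .use 1192 false, .use 1323 false, .use 35 false]⟩]

/-- Equations. -/
def part32 : List CFact := [
  ⟨[14, 6, 10, 8, 10, 14, 4], [4, 8, 11, 8, 6, 4, 6, 11, 8, 6, 4, 6, 10, 8, 6, 4, 6, 10, 10, 8, 11], [14, 6, 10, 8, 10, 14], [.use 1050 true, .use 81 true, .use 35 true, .ins 4 14, .use 39 false, .ins 5 10, .use 89 false, .use 2017 true, .use 1685 true, .use 1659 true, .use 1037 true, .use 712 true, .use 34 true, .use 14 true, .rel 3 11 (29, false, 9), .use 13 false, .use 32 false, .use 70 false, .use 776 false, .use 1480 false, .use 1826 false, .use 207 false, .use 87 false, .use 1368 false, .use 1943 false]⟩,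
  ⟨[14, 6, 10, 8, 10, 4], [4, 8, 11, 8, 6, 4, 6, 11, 8, 6, 4, 6, 10, 8, 6, 4, 6, 10, 10, 8, 11], [14, 6, 10, 8, 10], [.use 881 true, .use 2047 true, .use 1943 true, .use 1368 true, .use 1331 true, .use 650 true, .use 207 true, .use 1826 true, .use 738 true, .use 70 true, .use 1396 true, .use 709 true, .use 13 true, .rel 3 10 (29, false, 10), .use 372 false, .use 1381 false, .use 34 false, .use 1033 false, .use 1444 false, .use 1037 false, .use 1659 false, .use 1682 false, .use 2028 false, .use 89 true, .cancel 5, .use 792 false, .use 1192 false, .use 1323 false, .use 35 false]⟩,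
  ⟨[14, 6, 8, 10, 8, 6, 5], [4, 6, 4, 6, 11, 8, 6, 4, 6, 8, 11, 8, 6, 4, 6, 8, 10, 10], [14, 6, 8, 10, 8, 6], [.ins 6 6, .use 293 false, .ins 5 8, .use 229 false, .use 12 true, .ins 3 11, .use 13 false, .ins 4 11, .use 30 false, .use 1822 true, .use 1438 true, .use 299 true, .use 1885 true, .ins 6 6, .use 299 false, .use 1781 true, .use 788 true, .use 30 true, .use 13 true, .ins 3 11, .use 13 false, .ins 4 11, .use 30 false, .use 1822 true, .use 1441 true, .ins 5 10, .use 66 false, .ins 6 10, .use 318 false, .use 347 true, .use 66 true, .ins 5 11, .use 67 false, .use 1826 true, .use 738 true, .use 1740 true, .use 501 true, .use 36 true, .use 191 true, .ins 4 11, .use 36 false, .use 1768 true, .use 1478 true, .use 764 true, .use 1873 true, .use 67 true, .ins 5 10, .use 66 false, .use 348 true, .use 318 true, .use 66 true,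 .use 1762 true, .use 1440 true, .use 469 true, .use 30 true, .use 13 true, .use 144 true, .rel 3 37 (30, false, 0), .use 390 false, .use 447 false, .use 1349 false, .use 144 true, .cancel 3, .use 447 false, .use 1349 false, .use 144 false, .use 12 false, .use 229 true, .cancel 5, .use 293 true, .cancel 6]⟩,
  ⟨[14, 6, 8, 11, 8, 11, 13, 5], [4, 8, 11, 8, 6, 4, 6, 11, 8, 6, 4, 6, 10, 8, 6, 4, 6, 10, 10, 8, 11], [14, 6, 8, 11, 8, 11, 13], [.use 355 true, .ins 7 8, .use 351 false, .use 67 true, .ins 5 10, .use 66 false, .use 66 true, .ins 5 11, .use 67 false, .use 1826 true, .use 738 true, .use 1740 true, .use 501 true, .use 36 true, .use 191 true, .ins 4 11, .use 36 false, .use 1768 true, .use 1478 true, .use 764 true, .use 1873 true, .use 67 true, .ins 5 10, .use 66 false, .use 348 true, .use 318 true, .use 66 true, .use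 1762 true, .use 1440 true, .use 469 true, .use 30 true, .use 13 true, .use 144 true, .rel 3 23 (30, false, 6), .use 13 false, .use 30 false, .use 398 false, .use 1762 false, .use 66 false, .use 318 false, .use 347 true, .cancel 6, .use 1004 false, .use 1766 false, .use 348 true, .cancel 6, .use 1829 false, .use 348 false, .use 318 false, .use 1828 false, .use 108 true, .cancel 5, .use 915 true, .cancel 5, .use 1416 false, .use 108 false, .use 1501 false, .use 1772 false, .use 318 true, .cancel 6, .use 66 true, .cancel 5, .use 67 false, .use 351 true, .cancel 7, .use 355 false]⟩,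
  ⟨[14, 6, 14, 11, 8, 10, 6], [6, 4, 8, 13, 10, 8, 6, 4, 11, 8, 6, 4, 11, 8, 6, 10, 8, 11, 12], [14, 6, 10, 8, 10, 14], [.use 109 true, .use 1993 true, .use 1800 true, .use 1746 true, .use 1572 true, .use 1370 true, .use 1611 true, .use 1981 true, .use 1979 true, .use 1905 true, .use 1000 true, .ins 7 0, .use 1131 false, .use 1490 true, .ins 7 4, .use 1133 false, .use 1984 true, .use 2032 true, .use 1979 true, .use 1905 true, .use 1137 true, .use 1934 true, .use 1932 true, .use 1629 true, .use 88 true, .use 1313 true, .use 886 true, .ins 5 6, .use 88 false, .use 1940 true, .use 1932 true, .use 1624 true, .use 1511 true, .use 1930 true, .use 1928 true, .use 1631 true, .use 52 true, .use 277 true, .use 1404 true, .use 766 true, .ins 5 6, .use 277 false, .ins 4 8, .use 52 false, .use 1929 true, .use 1928 true, .use 998 true,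 .use 1930 true, .use 1928 true, .use 1631 true, .use 1632 true, .use 1446 true, .use 719 true, .ins 5 10, .use 241 false, .use 30 true, .use 185 true, .use 12 true, .rel 3 35 (30, false, 17), .use 13 false, .use 709 false, .use 1396 false, .use 70 false, .use 764 false, .use 1478 false, .use 1768 false, .use 248 true, .cancel 5, .use 35 true, .cancel 4, .use 36 false, .use 1388 false, .use 1057 false, .use 1790 false, .use 1895 false, .use 1368 false, .use 1943 false]⟩,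
  ⟨[14, 6, 8, 10, 10, 5], [4, 8, 11, 8, 6, 4, 6, 11, 8, 6, 4, 6, 10, 8, 6, 4, 6, 10, 10, 8, 11], [14, 6, 8, 10, 10], [.ins 5 6, .use 230 false, .use 1822 true, .use 1432 true, .ins 5 10, .use 70 false, .use 1740 true, .use 501 true, .use 1768 true, .use 1478 true, .use 764 true, .use 70 true, .use 32 true, .use 13 true, .rel 3 9 (30, false, 20), .use 12 false, .use 228 true, .cancel 4, .use 30 false, .use 241 true, .cancel 5, .use 704 true, .cancel 6, .use 1632 false, .use 1631 false, .use 1928 false, .use 1930 false, .use 1137 false, .use 1905 false, .use 1979 false, .use 1981 false, .use 1611 false, .use 970 false, .use 1746 false, .use 1800 false, .use 1993 false, .use 109 false, .use 2042 true, .cancel 6, .use 1944 false, .use 1901 false, .use 83 true, .cancel 5, .use 36 true, .cancel 4, .use 35 false, .use 308 true,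 .cancel 5, .use 785 true, .cancel 5, .use 882 true, .cancel 6, .use 1355 false, .use 248 true, .cancel 5, .use 2049 false, .use 248 false, .use 36 true, .cancel 4, .use 15 true, .cancel 3, .use 174 true, .cancel 2, .use 135 true, .cancel 2, .use 174 false, .use 15 false, .use 36 false, .use 501 false, .use 1740 false, .use 70 true, .cancel 5, .use 1432 false, .use 1822 false, .use 230 true, .cancel 5]⟩,
  ⟨[14, 6, 8, 11, 8, 6, 5], [4, 8, 6, 4, 6, 11, 8, 6, 4, 6, 8, 10, 8, 10, 8, 6, 4, 6, 8, 11], [14, 6, 8, 11, 8, 6], [.ins 6 6, .use 297 false, .ins 5 8, .use 240 false, .use 13 true, .ins 3 10, .use 12 false, .use 12 true, .rel 3 6 (30, false, 23), .use 13 false, .use 709 false, .use 1396 false, .use 70 false, .use 764 false, .use 1478 false, .use 1768 false, .use 248 true, .cancel 5, .use 35 true, .cancel 4, .use 36 false,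 .use 1388 false, .use 1057 false, .use 1790 false, .use 1895 false, .use 1368 false, .use 1943 false, .use 2052 true, .cancel 6, .use 109 true, .cancel 5, .use 767 false, .use 1989 false, .use 1799 false, .use 1611 true, .cancel 6, .use 1252 true, .cancel 9, .use 1979 false, .use 1985 false, .use 998 false, .use 1928 false, .use 1929 false, .use 1638 false, .use 241 false, .use 30 true, .cancel 4, .use 185 true, .cancel 4, .use 659 false, .use 674 false, .use 661 false, .use 1383 false, .use 228 true, .cancel 4, .use 723 false, .use 1379 false, .use 228 false, .use 26 false, .use 236 true, .cancel 6, .use 329 true, .cancel 6, .use 1806 false, .use 329 false, .use 236 false, .use 26 true, .cancel 4, .use 12 true, .cancel 3, .use 13 false, .use 240 true, .cancel 5, .use 297 true, .cancel 6]⟩,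
  ⟨[14, 6, 14, 11, 8, 10, 14], [4, 10, 8, 6, 4, 6, 11, 11, 8, 6, 4, 6, 11, 8, 6, 4, 6, 10, 8, 10, 8], [14, 6, 8, 10, 8, 11], [.use 109 true, .use 1993 true, .use 598 true, .use 56 true, .ins 4 15, .use 509 false, .use 43 true, .use 1309 true, .use 491 true, .rel 3 7 (29, false, 3), .use 16 false, .use 635 false, .use 1210 false, .use 1327 false, .use 827 true, .cancel 4, .use 1364 false, .use 92 false, .use 1157 false, .use 1418 false, .use 1752 false, .use 105 true, .cancel 5, .use 619 false, .use 1726 false, .use 104 true, .cancel 5, .use 934 false, .use 1424 false, .use 1726 false, .use 231 false]⟩,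
  ⟨[14, 6, 8, 10, 8, 11, 14], [], [14, 6, 14, 11, 8, 10], [.use 231 true, .use 1726 true, .use 619 true, .ins 5 10, .use 104 false, .use 1726 true, .use 1424 true, .use 934 true, .ins 5 11, .use 105 false, .use 1752 true, .use 943 true, .use 92 true, .use 40 true, .use 16 true, .rel 3 10 (29, false, 4), .use 18 false, .use 43 false, .use 904 true, .cancel 7, .use 1319 false, .use 902 true, .cancel 5, .use 967 false, .use 1341 false, .use 56 false, .use 777 false, .use 1345 false, .use 1993 false, .use 109 false]⟩,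
  ⟨[14, 6, 8, 10, 8, 11, 4], [4, 8, 11, 8, 6, 4, 6, 11, 8, 6, 4, 6, 10, 8, 6, 4, 6, 10, 10, 8, 11], [14, 6, 8, 10, 8, 11], [.ins 6 1, .use 975 false, .use 2055 true, .use 109 true, .use 1993 true, .use 598 true, .use 56 true, .ins 4 15, .use 509 false, .use 43 true, .use 1309 true, .use 491 true, .rel 3 9 (29, false, 11), .use 16 false, .use 1364 false, .use 92 false, .use 1157 false, .use 1418 false, .use 1752 false, .use 105 true, .cancel 5, .use 619 false, .use 1726 false, .use 104 true, .cancel 5, .use 934 false, .use 1424 false, .use 1726 false, .use 231 false]⟩,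
  ⟨[14, 6, 10, 10, 14, 4], [4, 8, 11, 8, 6, 4, 6, 11, 8, 6, 4, 6, 10, 8, 6, 4, 6, 10, 10, 8, 11], [14, 6, 10, 10, 14], [.use 891 true, .use 40 true, .use 16 true, .rel 3 4 (29, false, 16), .use 18 false, .use 43 false, .use 967 false, .use 1341 false, .use 56 false, .use 777 false, .use 1345 false, .use 1993 false, .use 109 false, .use 2056 true, .cancel 6, .use 231 true, .cancel 6, .use 1753 false, .use 104 false, .use 705 false, .use 1760 false, .use 105 false, .use 1810 false, .use 92 true, .cancel 5]⟩,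
  ⟨[14, 6, 14, 11, 11, 9], [4, 6, 8, 6, 4, 11, 8, 6, 4, 11, 8, 6, 4, 10, 8, 6, 13, 10, 8], [14, 6, 10, 14, 10], [.use 56 true, .use 24 true, .ins 3 10, .use 23 false, .use 23 true, .rel 3 5 (14, false, 3), .use 149 true, .cancel 4, .use 33 false, .use 71 false, .use 1981 false, .use 1611 false, .use 98 true, .cancel 5]⟩,
  ⟨[14, 6, 8, 10, 10, 14, 11, 8], [], [14, 6, 10, 10, 14, 11], [.use 110 true, .ins 6 8, .use 1948 false, .use 53 true, .use 23 true, .rel 3 5 (14, false, 9), .use 24 false, .use 55 false, .use 109 false, .use 2004 false, .use 92 true, .cancel 5, .use 92 false]⟩,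
  ⟨[14, 6, 8, 14, 11, 11, 15, 10, 10], [12], [14, 6, 8, 10, 10, 14, 11], [.use 1593 true, .use 2060 true, .cancel 7]⟩,
  ⟨[14, 6, 8, 10, 10, 14, 11, 11], [13], [14, 6, 8, 14, 11, 11, 15, 10], [.use 2061 true, .use 596 true, .cancel 8]⟩,
  ⟨[14, 6, 8, 10, 10, 14, 11, 9], [], [14, 6, 10, 10, 14, 11], [.use 2061 true, .use 770 true, .cancel 10, .use 1592 false]⟩,
  ⟨[14, 6, 8, 10, 10, 14, 11, 6], [4, 6, 10, 8, 6, 4, 6, 4, 12, 10, 8, 6, 4, 6, 10], [14, 6, 10, 13, 14, 11], [.use 2061 true, .use 1476 false, .use 1924 false]⟩,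
  ⟨[14, 6, 8, 10, 10, 14, 11, 4], [4, 8, 11, 8, 6, 4, 6, 11, 8, 6, 4, 6, 10, 8, 6, 4, 6, 10, 10, 8, 11], [14, 6, 8, 10, 10, 14, 11], [.use 2061 true, .use 1585 false, .use 2061 false]⟩,
  ⟨[14, 6, 8, 10, 10, 14, 11, 5], [4, 8, 11, 8, 6, 4, 6, 11, 8, 6, 4, 6, 10, 8, 6, 4, 6, 10, 10, 8, 11], [14, 6, 8, 10, 10, 14, 11], [.use 2061 true, .use 1585 true, .cancel 9, .use 2061 false]⟩,
  ⟨[14, 6, 8, 10, 10, 14, 11, 13], [8, 6, 4, 10, 8, 6, 4, 6, 12, 11, 8, 6, 4, 11, 8, 6, 4, 11, 8], [14, 6, 10, 8, 10, 13, 14], [.use 2061 true, .use 1586 true, .cancel 8, .use 1624 false, .use 1932 false]⟩,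
  ⟨[14, 6, 8, 10, 10, 14, 11, 7], [4, 6, 10, 8, 6, 4, 6, 4, 12, 10, 8, 6, 4, 6, 10], [14, 6, 10, 13, 14, 11], [.use 2061 true, .use 1587 true, .cancel 10, .use 1924 false]⟩,
  ⟨[14, 6, 10, 14, 10, 9], [8, 6, 4, 10, 8, 6, 4, 6, 12, 11, 8, 6, 4, 11, 8, 6, 4, 11, 8], [14, 6, 14, 11, 11], [.ins 5 10, .use 98 false, .use 1611 true, .use 1981 true, .use 1979 true, .ins 9 11, .use 1252 false, .use 96 true, .ins 5 10, .use 1618 false, .ins 5 8, .use 278 false, .use 23 true, .rel 3 9 (14, false, 10), .use 24 false, .use 56 false]⟩,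
  ⟨[14, 6, 10, 8, 11, 12, 14], [4, 6, 8, 6, 4, 11, 8, 6, 4, 11, 8, 6, 4, 10, 8, 6, 10, 10, 8], [14, 6, 8, 14, 11, 11, 15, 10], [.use 252 true, .use 84 true, .use 195 true, .use 16 true, .use 5 true, .ins 2 14, .use 7 false, .rel 3 7 (27, false, 3), .use 23 false, .use 53 false, .use 1949 false, .use 110 false, .use 2062 false]⟩,
  ⟨[14, 6, 8, 14, 11, 11, 15, 10, 14], [4, 6, 8, 6, 4, 11, 8, 6, 4, 11, 8, 6, 4, 10, 8, 6, 10, 10, 8], [14, 6, 10, 8, 11, 12], [.use 2062 true, .use 110 true, .use 1949 true, .use 53 true, .use 23 true, .rel 3 6 (27, false, 4), .use 396 false, .use 1321 false, .use 5 false, .use 16 false, .use 195 false, .use 84 false, .use 252 false]⟩,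
  ⟨[14, 6, 10, 13, 14, 6, 8], [4, 8, 6, 4, 6, 8, 12, 11, 8, 6, 4, 6, 11, 8, 6, 4, 11], [14, 6, 10, 13, 14, 11], [.use 93 true, .use 41 true, .ins 4 7, .use 184 false, .use 171 true, .use 130 true, .rel 3 6 (25, false, 1), .use 161 true, .cancel 4, .use 402 false, .use 1392 false, .use 1305 false, .use 1422 false, .use 1730 false, .use 1774 false]⟩,
  ⟨[14, 6, 8, 14, 11, 11, 15, 10, 6], [4, 6, 4, 8, 6, 4, 6, 11, 8, 6, 4, 6, 8, 13, 10], [14, 6, 10, 13, 14], [.ins 8 14, .use 2071 false, .use 336 true, .use 1730 true, .use 1422 true, .ins 6 7, .use 1304 false, .use 49 true, .use 156 true, .rel 3 6 (25, false, 3), .use 169 false, .use 172 true, .cancel 3, .use 182 false, .use 500 true, .cancel 5, .use 1315 false]⟩,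
  ⟨[14, 6, 8, 14, 11, 11, 15, 10], [4, 6, 4, 8, 6, 4, 6, 11, 8, 6, 4, 6, 8, 13, 10], [14, 6, 10, 13, 14, 6], [.ins 8 6, .use 2073 false, .use 265 false]⟩,
  ⟨[14, 6, 10, 13, 14, 6, 11], [4, 6, 10, 8, 6, 4, 6, 4, 10, 10, 8, 6, 4, 11, 8], [14, 6, 8, 10, 14, 10, 13], [.use 2074 true, .use 595 true, .cancel 7, .use 1042 false]⟩,
  ⟨[14, 6, 10, 13, 14, 6, 10], [6, 4, 6, 4, 11, 8, 6, 4, 6, 11, 8, 6, 4, 13, 10], [14, 6, 8, 10, 10, 14, 11], [.use 2074 true, .use 596 false, .use 2061 false]⟩,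
  ⟨[14, 6, 10, 13, 14, 6, 0], [0], [14, 6, 10, 13, 14, 6], [.use 2074 true, .use 1170 false, .use 2074 false]⟩,
  ⟨[14, 6, 10, 13, 14, 6, 1], [0], [14, 6, 10, 13, 14, 6], [.use 2074 true, .use 1170 true, .cancel 8, .use 2074 false]⟩,
  ⟨[14, 6, 10, 13, 14, 6, 5], [8, 6, 4, 10, 8, 6, 4, 10, 8, 6, 4, 11, 8, 6, 4, 10, 8, 6, 11, 8, 10, 10], [14, 6, 10, 13, 14, 6], [.use 2074 true, .use 1171 true, .cancel 8, .use 1475 false, .use 2074 false]⟩,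
  ⟨[14, 6, 10, 13, 14, 6, 4], [8, 6, 4, 10, 8, 6, 4, 10, 8, 6, 4, 11, 8, 6, 4, 10, 8, 6, 11, 8, 10, 10], [14, 6, 10, 13, 14, 6], [.use 2074 true, .use 1475 true, .use 1171 false, .use 2074 false]⟩,
  ⟨[14, 6, 10, 13, 14, 6, 15], [6, 4, 6, 8, 6, 4, 6, 12, 11, 8, 6, 4, 6, 8, 11, 8, 6, 11], [14, 6, 10, 8, 11, 12], [.use 2074 true, .use 2070 true, .cancel 6]⟩,
  ⟨[14, 6, 10, 13, 14, 6, 14], [4, 8, 6, 4, 13, 10, 8, 6, 4, 10, 8, 6, 4, 6, 11, 8, 6, 11, 8, 13], [14, 6, 10, 8, 11, 12], [.use 2074 true, .use 2071 false]⟩,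
  ⟨[14, 6, 10, 8, 10, 13, 14, 14], [4, 10, 8, 6, 4, 6, 11, 11, 8, 6, 4, 6, 11, 8, 6, 4, 6, 10, 8, 10, 8], [14, 6, 10, 8, 10, 13], [.use 1932 true, .use 1916 true, .use 1914 true, .ins 7 10, .use 1087 false, .use 263 true, .use 43 true, .ins 4 11, .use 44 false, .ins 5 15, .use 842 false, .use 1837 true, .use 112 true, .use 62 true, .ins 5 11, .use 64 false, .use 1945 true, .use 81 true, .ins 5 10, .use 78 false, .use 1876 true, .use 69 true, .use 1877 true, .use 1834 true, .use 1832 true, .use 783 true, .use 1872 true, .use 1835 true, .use 86 true, .use 207 true, .use 350 true, .use 1062 true, .use 1519 true, .use 323 true, .use 1875 true, .ins 6 6, .use 323 false, .use 86 true, .ins 5 9, .use 196 false, .ins 4 7, .use 184 false, .use 181 true, .rel 3 31 (30, false, 36), .use 184 true, .cancel 4, .use 196 true, .cancel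 5, .use 86 false, .use 344 false, .use 340 true, .cancel 6, .use 1828 false, .use 108 true, .cancel 5, .use 915 true, .cancel 5, .use 1416 false, .use 108 false, .use 1501 false, .use 1772 false, .use 340 false, .use 344 true, .cancel 6, .use 344 false, .use 340 true, .cancel 6]⟩,
  ⟨[14, 6, 8, 10, 8, 6, 10], [0, 4, 11, 8, 6, 4, 10, 8, 6, 4, 13, 11, 8, 6, 4, 11, 8, 6, 10, 8, 6], [14, 6, 11, 13, 14], [.use 333 true, .ins 5 8, .use 229 false, .rel 4 3 (14, false, 7), .use 26 false, .use 238 true, .cancel 5, .use 188 false, .use 188 true, .cancel 5, .use 243 false, .use 313 true, .cancel 6, .use 359 true, .cancel 6, .use 1809 false]⟩,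
  ⟨[14, 6, 8, 10, 10, 15], [4, 10, 8, 6, 4, 6, 11, 11, 8, 6, 4, 6, 11, 8, 6, 4, 6, 10, 8, 10, 8], [14, 6, 8, 10, 10, 14], [.use 186 true, .rel 4 2 (26, false, 3), .use 691 false, .use 1410 false, .use 239 true, .cancel 6]⟩,
  ⟨[14, 6, 8, 14, 10, 13, 14], [6, 8, 6, 4, 6, 10, 8, 6, 4, 6, 10, 8, 6, 4, 6, 13, 11, 8, 6, 4], [14, 6, 10, 8, 12, 11], [.ins 6 10, .use 304 false, .use 75 true, .use 303 true, .use 1659 true, .use 1037 true, .use 63 true, .use 1410 true, .use 691 true, .rel 4 7 (27, false, 3), .use 26 false, .use 238 true, .cancel 5, .use 244 true, .cancel 6, .use 255 false, .use 84 false]⟩,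
  ⟨[14, 6, 10, 8, 12, 11, 14], [8, 6, 4, 10, 10, 8, 6, 4, 10, 8, 6, 4, 12, 10, 8, 6, 4, 10, 8], [14, 6, 8, 14, 10, 13], [.use 84 true, .use 255 true, .ins 6 9, .use 244 false, .ins 5 11, .use 238 false, .use 26 true, .rel 4 6 (27, false, 4), .use 28 false, .use 63 false, .use 1037 false, .use 1659 false, .use 303 false, .use 75 false, .use 304 true, .cancel 6]⟩,
  ⟨[14, 6, 10, 8, 14, 11, 11], [8, 6, 4, 10, 10, 8, 6, 4, 6, 11, 8, 6, 4, 11, 8, 6, 4, 11, 8], [14, 6, 8, 10, 10, 14], [.use 1966 true, .use 1709 true, .use 64 true, .use 1410 true, .use 691 true, .rel 4 4 (28, false, 3), .use 26 false, .use 2053 false, .use 860 true, .cancel 5, .use 61 false]⟩,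
  ⟨[14, 6, 8, 14, 10, 10, 14], [0, 11, 8, 6, 4, 6, 10, 8, 6, 4, 10, 8, 6, 4, 13, 10, 8, 6, 4, 11], [14, 6, 8, 11, 8, 6], [.use 291 true, .use 2001 true, .use 55 true, .use 220 true, .use 1977 true, .use 1481 true, .use 69 true, .use 1396 true, .use 709 true, .rel 4 8 (25, false, 2), .use 240 true, .cancel 5, .use 297 true, .cancel 6]⟩,
  ⟨[14, 6, 8, 10, 14, 6, 8, 15], [6, 4, 10, 8, 6, 4, 6, 11, 8, 6, 4, 10, 8, 10, 8], [14, 6, 10, 14, 11, 12], [.use 111 true, .use 62 true, .use 28 true, .use 228 true, .rel 4 5 (25, false, 3), .use 32 false, .use 1432 false, .use 1822 false, .use 230 true, .cancel 5, .use 2085 false, .use 1946 true, .cancel 9, .use 1951 false]⟩,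
  ⟨[14, 6, 11, 11, 5, 15, 10, 14, 11, 15], [0, 6, 13, 11, 8, 6, 4, 6, 11, 8, 6, 10, 8, 6], [14, 6, 8, 10, 14, 6, 8], [.use 1568 true, .use 2090 true, .cancel 7]⟩,
  ⟨[14, 6, 8, 10, 14, 6, 8, 14], [6, 8, 6, 10, 8, 6, 4, 6, 10, 8, 6, 11], [14, 6, 10, 14, 11, 12], [.use 2091 true, .use 565 true, .cancel 9, .use 927 false]⟩,
  ⟨[14, 6, 8, 10, 14, 6, 8, 12], [6, 8, 6, 10, 8, 6, 4, 6, 10, 8, 6, 11], [14, 6, 10, 10, 14, 10], [.use 2091 true, .use 1097 false]⟩,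
  ⟨[14, 6, 8, 10, 14, 6, 8, 13], [6, 8, 6, 10, 8, 6, 4, 6, 10, 8, 6, 11, 12], [14, 6, 10, 14, 10, 10], [.use 2091 true, .use 1155 true, .cancel 6]⟩,
  ⟨[14, 6, 8, 10, 14, 6, 8, 1], [0], [14, 6, 8, 10, 14, 6, 8], [.use 2091 true, .use 1156 false, .use 2091 false]⟩,
  ⟨[14, 6, 8, 10, 14, 6, 8, 0], [0], [14, 6, 8, 10, 14, 6, 8], [.use 2091 true, .use 1156 true, .cancel 10, .use 2091 false]⟩,
  ⟨[14, 6, 8, 10, 14, 6, 8, 7], [4, 11, 11, 8, 6, 4, 6, 11, 8, 6, 4, 11, 8, 6, 11], [14, 6, 10, 8, 14, 11], [.use 2091 true, .use 1164 true, .cancel 9, .use 1966 false]⟩,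
  ⟨[14, 6, 8, 10, 14, 6, 8, 6], [4, 11, 11, 8, 6, 4, 6, 11, 8, 6, 4, 11, 8, 6, 11], [14, 6, 10, 8, 14, 11], [.use 2091 true, .use 1165 false, .use 1966 false]⟩,
  ⟨[14, 6, 8, 10, 14, 6, 8, 4], [6, 4, 8, 10, 8, 6, 4, 10, 8, 6, 4, 11, 8, 6, 4, 6, 10, 8, 6, 10, 8, 10], [14, 6, 8, 10, 14, 6, 8], [.use 2091 true, .use 1566 false, .use 2091 false]⟩,
  ⟨[14, 6, 8, 10, 14, 6, 8, 5], [6, 4, 8, 10, 8, 6, 4, 10, 8, 6, 4, 11, 8, 6, 4, 6, 10, 8, 6, 10, 8, 10], [14, 6, 8, 10, 14, 6, 8], [.use 2091 true, .use 1566 true, .cancel 10, .use 2091 false]⟩,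
  ⟨[14, 6, 8, 14, 10, 10, 4], [4, 8, 11, 8, 6, 4, 6, 11, 8, 6, 4, 6, 10, 8, 6, 4, 6, 10, 10, 8, 11], [14, 6, 8, 14, 10, 10], [.use 1025 true, .use 2015 true, .use 340 true, .ins 6 14, .use 118 false, .use 1932 true, .use 1916 true, .use 1914 true, .use 1617 true, .use 1913 true, .use 1914 true, .use 1616 true, .use 97 true, .use 1770 true, .use 66 true, .use 1762 true, .use 398 true, .use 30 true, .rel 4 14 (29, false, 6), .use 709 false, .use 1396 false, .use 735 false, .use 1834 false, .use 1481 false, .use 1977 false, .use 72 false]⟩,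
  ⟨[14, 6, 10, 8, 10, 14, 9], [4, 6, 8, 6, 4, 11, 8, 6, 4, 11, 8, 6, 4, 10, 8, 6, 10, 10, 8], [14, 6, 10, 14, 11, 11], [.use 1943 true, .use 1368 true, .use 1895 true, .use 1790 true, .use 1057 true, .use 2024 true, .use 583 true, .ins 6 8, .use 303 false, .use 34 true, .rel 4 6 (14, false, 6), .use 33 false, .use 72 false, .use 72 true, .cancel 5, .use 300 true, .cancel 6, .use 1982 false]⟩,
  ⟨[14, 6, 8, 14, 11, 13, 9], [4, 8, 6, 4, 10, 8, 6, 4, 10, 8, 6, 4, 10, 10, 8, 6, 12, 10, 8], [14, 6, 10, 8, 14, 11], [.ins 6 11, .use 302 false, .use 72 true, .use 33 true, .rel 4 4 (14, false, 8), .use 149 false, .use 23 false, .use 53 false, .use 284 true, .cancel 5, .use 284 false, .use 1948 true, .cancel 6, .use 2088 true, .cancel 6]⟩,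
  ⟨[14, 6, 8, 10, 14, 6, 8, 10], [6, 8, 6, 10, 8, 6, 4, 6, 10, 8, 6, 11, 12], [14, 6, 10, 14, 11, 12], [.use 2091 true, .use 1568 true, .use 268 true, .use 95 true, .ins 5 7, .use 265 false, .use 2074 true, .use 1044 true, .use 2019 true, .use 2017 true, .use 1685 true, .use 2022 true, .use 1056 true, .use 1901 true, .use 1847 true, .use 1596 true, .use 2004 true, .use 109 true, .use 1993 true, .use 1345 true, .use 777 true, .use 56 true, .use 24 true, .use 218 true, .rel 4 17 (30, false, 0), .use 590 false, .use 455 true, .cancel 4, .use 1381 false, .use 151 true, .cancel 3, .use 397 true, .cancel 5, .use 1353 false, .use 151 false, .use 33 false, .use 300 true, .cancel 6, .use 1985 false, .use 1134 false, .use 1490 false, .use 1000 false, .use 1905 false, .use 1979 false, .use 300 false, .use 33 true, .cancel 4, .use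 34 false, .use 75 false, .use 306 true, .cancel 7, .use 1915 false, .use 1086 false, .use 1343 false, .use 631 false, .use 1914 false, .use 306 false, .use 75 true, .cancel 5, .use 34 true, .cancel 4, .use 34 false, .use 75 false, .use 594 false, .use 1042 false, .use 1044 false, .use 2074 false, .use 2076 false, .use 2068 false, .use 268 false]⟩,
  ⟨[14, 6, 10, 14, 6, 11, 5], [8, 6, 4, 10, 8, 6, 4, 10, 8, 6, 4, 11, 8, 6, 4, 10, 8, 6, 11, 8, 10, 10], [14, 6, 10, 14, 6, 11], [.ins 6 6, .use 326 false, .use 2059 true, .use 56 true, .use 24 true, .ins 3 11, .use 24 false, .ins 4 11, .use 56 false, .use 1994 true, .ins 5 10, .use 109 false, .use 1996 true, .use 1594 true, .use 1816 true, .use 1075 true, .use 1895 true, .use 1790 true, .use 1057 true, .use 2024 true, .use 583 true, .use 2022 true, .ins 8 15, .use 805 false,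 .use 2017 true, .use 1509 true, .use 2075 true, .use 93 true, .ins 5 11, .use 95 false, .ins 6 11, .use 268 false, .use 2092 true, .ins 7 10, .use 2104 false, .use 268 true, .use 2064 true, .use 2076 true, .use 2074 true, .use 1044 true, .use 1488 true, .use 610 true, .use 75 true, .use 34 true, .rel 4 28 (30, false, 1), .use 151 true, .cancel 3, .use 574 false, .use 587 false, .use 397 true, .cancel 5, .use 1353 false, .use 218 true, .cancel 4, .use 455 true, .cancel 4, .use 1381 false, .use 218 false, .use 23 false, .use 278 true, .cancel 5, .use 614 false, .use 1957 false, .use 906 true, .cancel 5, .use 1317 false, .use 1958 false, .use 278 false, .use 23 true, .cancel 3, .use 24 false, .use 56 false, .use 2059 false, .use 326 true, .cancel 6]⟩,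
  ⟨[14, 6, 8, 11, 8, 11, 8, 14], [8, 6, 4, 10, 10, 8, 6, 4, 6, 11, 8, 6, 4, 11, 8, 6, 4, 11, 8], [14, 6, 8, 11, 8, 11, 13], [.ins 7 10, .use 352 false, .ins 7 10, .use 349 false, .use 312 true, .ins 6 11, .use 313 false, .ins 6 11, .use 255 false, .use 1359 true, .ins 9 15, .use 1276 false, .use 1928 true, .use 998 true, .use 1934 true, .use 1932 true, .use 1615 true, .ins 6 11, .use 1611 false, .use 98 true, .use 1319 true, .use 964 true, .use 24 true, .ins 3 10, .use 23 false, .use 277 true, .use 765 true, .use 1404 true, .use 766 true, .use 219 true, .use 1653 true, .ins 4 6, .use 219 false, .use 34 true, .use 150 true, .use 218 true, .use 1381 true, .ins 4 4, .use 579 false, .ins 4 6, .use 218 false, .ins 3 8, .use 150 false, .rel 4 27 (30, false, 34), .use 34 false, .use 75 false, .use 304 true, .cancel 6, .use 1028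 true, .cancel 7, .use 1987 false, .use 296 true, .cancel 6, .use 996 false, .use 1444 false, .use 296 false, .use 1991 false, .use 304 false, .use 75 true, .cancel 5, .use 75 false, .use 304 true, .cancel 6, .use 2087 true, .cancel 6, .use 84 true, .cancel 5, .use 255 true, .cancel 6, .use 342 false, .use 252 false, .use 349 true, .cancel 7]⟩,
  ⟨[14, 6, 10, 8, 10, 14, 8], [4, 6, 8, 6, 4, 11, 8, 6, 4, 11, 8, 6, 4, 10, 8, 6, 10, 10, 8], [14, 6, 10, 14, 11, 11], [.use 1943 true, .use 1368 true, .use 1895 true, .use 1790 true, .use 1057 true, .use 1388 true, .use 36 true, .rel 4 5 (27, false, 2), .use 35 false, .use 77 false, .use 205 true, .cancel 6, .use 102 true, .cancel 5, .use 1734 false, .use 1252 true, .cancel 9, .use 1979 false, .use 1982 false]⟩,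
  ⟨[14, 6, 8, 10, 14, 10, 13, 8], [6, 4, 8, 6, 4, 6, 11, 8, 6, 4, 6, 10, 8, 6, 4, 6, 10, 8, 10, 12], [14, 6, 10, 14, 6, 11], [.use 2019 true, .use 89 true, .use 1313 true, .use 440 true, .rel 4 4 (27, false, 3), .use 35 false, .use 78 false, .use 357 false, .use 344 false, .use 340 true, .cancel 6, .use 2083 true, .cancel 7, .use 1933 false, .use 1913 false]⟩,
  ⟨[14, 6, 8, 10, 14, 10, 13, 9], [6, 4, 8, 6, 4, 6, 11, 8, 6, 4, 6, 10, 8, 6, 4, 6, 10, 8, 10, 12], [14, 6, 10, 14, 6, 11], [.use 2019 true, .use 89 true, .use 39 true, .rel 4 4 (27, false, 9), .use 35 false, .use 78 false, .use 356 true, .cancel 6, .use 344 false, .use 340 true, .cancel 6, .use 118 false, .use 1933 false, .use 1913 false]⟩,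
  ⟨[14, 6, 10, 8, 11, 14, 4], [4, 8, 11, 8, 6, 4, 6, 11, 8, 6, 4, 6, 10, 8, 6, 4, 6, 10, 10, 8, 11], [14, 6, 10, 8, 11, 14], [.use 1058 true, .use 1388 true, .use 36 true, .rel 4 4 (28, false, 6), .use 39 false, .use 89 false, .use 805 true, .cancel 8, .use 2022 false, .use 583 false, .use 2024 false]⟩,
  ⟨[14, 6, 10, 13, 14, 10, 6], [4, 6, 10, 8, 6, 4, 6, 4, 10, 10, 8, 6, 4, 11, 8], [14, 6, 8, 10, 14, 10, 13], [.use 94 true, .ins 5 11, .use 95 false, .use 1774 true, .use 1851 true, .use 1818 true, .use 1701 true, .use 329 true, .ins 6 0, .use 1108 false, .use 1805 true, .ins 6 7, .use 332 false, .use 1697 true, .use 332 true, .use 1724 true, .use 215 true, .use 1667 true, .use 909 true, .use 1732 true, .use 1693 true, .use 1412 true, .ins 5 6, .use 944 false, .ins 4 8, .use 215 false, .use 1691 true, .ins 6 11, .use 536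 false, .use 106 true, .ins 5 11, .use 256 false, .use 237 true, .use 234 true, .use 1400 true, .use 728 true, .ins 5 6, .use 234 false, .ins 5 8, .use 237 false, .use 256 true, .ins 5 10, .use 106 false, .use 106 true, .ins 5 11, .use 256 false, .use 1672 true, .use 1580 true, .use 284 true, .ins 5 10, .use 223 false, .ins 5 7, .use 281 false, .ins 6 11, .use 302 false, .use 72 true, .use 1977 true, .use 1481 true, .use 1834 true, .use 735 true, .ins 5 10, .use 70 false, .use 1740 true, .use 1047 true, .use 78 true, .use 35 true, .rel 4 42 (30, false, 10), .use 440 false, .use 1313 false, .use 89 false, .use 2019 false]⟩]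

/-- Equations. -/
def part33 : List CFact := [
  ⟨[14, 6, 8, 10, 10, 14, 5], [4, 8, 11, 8, 6, 4, 6, 11, 8, 6, 4, 6, 10, 8, 6, 4, 6, 10, 10, 8, 11], [14, 6, 8, 10, 10, 14], [.use 1952 true, .use 1951 true, .use 1845 true, .use 1611 true, .use 1981 true, .use 1979 true, .ins 9 11, .use 1252 false, .ins 6 11, .use 1611 false, .use 1795 true, .use 1495 true, .use 1989 true, .use 767 true, .ins 5 10, .use 109 false, .use 2042 true, .use 1943 true, .use 1368 true, .use 1895 true, .use 1790 true, .use 1057 true, .use 83 true, .use 36 true, .rel 4 15 (30, false, 14), .use 35 false, .use 308 true, .cancel 5, .use 501 false, .use 1740 false, .use 70 true, .cancel 5, .use 32 true, .cancel 4, .use 13 true, .cancel 3, .use 12 false, .use 228 true, .cancel 4, .use 30 false, .use 241 true, .cancel 5, .use 704 true, .cancel 6, .use 1632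 false, .use 1631 false, .use 1928 false, .use 1930 false, .use 1137 false, .use 1905 false, .use 1979 false, .use 1024 false, .use 2032 true, .cancel 6, .use 1985 false, .use 1134 false, .use 1490 false, .use 1000 false, .use 1905 false, .use 1979 false, .use 1982 false, .use 2107 true, .cancel 6, .use 2052 true, .cancel 6, .use 2005 false, .use 2052 false, .use 2107 false, .use 1610 false, .use 1979 false, .use 1981 false, .use 1611 false, .use 1845 false, .use 1951 false, .use 1952 false]⟩,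
  ⟨[14, 6, 8, 14, 11, 13, 5], [4, 8, 11, 8, 6, 4, 6, 11, 8, 6, 4, 6, 10, 8, 6, 4, 6, 10, 10, 8, 11], [14, 6, 8, 14, 11, 13], [.ins 6 7, .use 283 false, .use 1663 true, .use 283 true, .ins 6 10, .use 247 false, .use 1991 true, .use 296 true, .use 1444 true, .ins 6 4, .use 995 false, .ins 6 6, .use 296 false, .use 1987 true, .ins 7 8, .use 1028 false, .use 247 true, .ins 6 11, .use 302 false, .use 72 true, .use 300 true, .use 1979 true, .use 1905 true, .use 1000 true, .use 1490 true, .ins 7 4, .use 1133 false, .use 1985 true, .ins 6 8, .use 300 false, .ins 5 10, .use 72 false, .use 302 true, .ins 6 11, .use 302 false, .use 72 true, .use 1977 true, .use 1481 true, .use 1834 true, .use 735 true, .ins 5 10, .use 70 false, .use 1740 true, .use 1047 true, .use 78 true, .use 35 true, .rel 4 28 (30, false, 16), .use 440 false,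 .use 1313 false, .use 89 false, .use 2019 false, .use 2111 true, .cancel 6, .use 94 true, .cancel 5, .use 95 false, .use 900 false, .use 1730 false, .use 1773 false, .use 1818 false, .use 1856 false, .use 329 true, .cancel 6, .use 106 true, .cancel 5, .use 256 false, .use 1702 false, .use 284 true, .cancel 5, .use 223 false, .use 281 false, .use 1032 true, .cancel 6]⟩,
  ⟨[14, 6, 10, 8, 10, 10, 5], [4, 8, 11, 8, 6, 4, 6, 11, 8, 6, 4, 6, 10, 8, 6, 4, 6, 10, 10, 8, 11], [14, 6, 10, 8, 10, 10], [.use 1788 true, .use 1431 true, .ins 6 4, .use 1021 false, .use 1740 true, .ins 6 6, .use 1141 false, .use 1876 true, .use 1834 true, .use 1832 true, .ins 7 9, .use 832 false, .ins 6 7, .use 332 false, .use 1697 true, .use 332 true, .use 1878 true, .use 1834 true, .use 1832 true, .use 783 true, .use 78 true, .use 35 true, .use 15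 true, .use 174 true, .use 135 true, .ins 2 6, .use 174 false, .ins 3 8, .use 15 false, .ins 4 10, .use 35 false, .ins 5 10, .use 78 false, .use 78 true, .use 35 true, .rel 4 22 (30, false, 22), .use 440 false, .use 1313 false, .use 89 false, .use 2019 false, .use 2111 true, .cancel 6, .use 94 true, .cancel 5, .use 95 false, .use 900 false, .use 1730 false, .use 1773 false, .use 1818 false, .use 1856 false, .use 329 true, .cancel 6, .use 106 true, .cancel 5, .use 256 false, .use 1702 false, .use 284 true, .cancel 5, .use 223 false, .use 281 false, .use 302 false, .use 72 true, .cancel 5, .use 2009 false, .use 1877 false, .use 70 false, .use 1786 false, .use 1046 false]⟩,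
  ⟨[14, 6, 10, 13, 14, 10, 7], [4, 6, 10, 8, 6, 4, 6, 4, 10, 10, 8, 6, 4, 11, 8], [14, 6, 8, 10, 14, 10, 13], [.use 94 true, .ins 5 11, .use 95 false, .use 1777 true, .use 1851 true, .use 1818 true, .use 1701 true, .use 332 true, .use 106 true, .ins 5 11, .use 256 false, .use 1672 true, .use 1271 true, .use 284 true, .ins 5 10, .use 223 false, .use 223 true, .ins 5 11, .use 284 false, .use 1948 true, .use 1954 true, .ins 6 5, .use 1569 false, .use 1951 true, .ins 9 6, .use 1946 false, .ins 6 8, .use 1948 false, .use 284 true, .ins 5 10, .use 223 false, .ins 5 10, .use 287 false, .ins 5 9, .use 2059 false, .use 326 true, .ins 6 5, .use 2105 false, .ins 6 6, .use 326 false, .use 2059 true, .use 287 true, .ins 5 7, .use 281 false, .ins 6 5, .use 2113 false, .use 281 true, .use 1664 true, .ins 5 1, .use 957 false, .use 283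 true, .ins 6 11, .use 302 false, .use 72 true, .use 1884 true, .use 1834 true, .use 735 true, .ins 5 10, .use 70 false, .use 1740 true, .ins 6 6, .use 1141 false, .use 78 true, .use 35 true, .rel 4 42 (30, true, 36), .use 39 false, .use 89 false, .use 2019 false]⟩,
  ⟨[14, 6, 8, 14, 10, 13, 4], [4, 8, 11, 8, 6, 4, 6, 11, 8, 6, 4, 6, 10, 8, 6, 4, 6, 10, 10, 8, 11], [14, 6, 8, 14, 10, 13], [.use 290 true, .use 1676 true, .use 1375 true, .ins 6 11, .use 267 false, .ins 6 7, .use 2115 false, .use 1488 true, .ins 7 5, .use 1135 false, .use 2115 true, .use 1337 true, .use 1083 true, .use 1081 true, .ins 6 6, .use 2111 false, .use 2019 true, .use 89 true, .use 1313 true, .use 440 true, .rel 4 13 (30, true, 41), .use 35 false, .use 78 false, .use 1047 false, .use 1740 false, .use 70 true, .cancel 5, .use 735 false, .use 1834 false,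 .use 1481 false, .use 1977 false, .use 72 false, .use 302 true, .cancel 6, .use 281 true, .cancel 5, .use 223 true, .cancel 5, .use 284 false, .use 1580 false, .use 1672 false, .use 256 true, .cancel 5, .use 106 false, .use 329 false, .use 1701 false, .use 1818 false, .use 1851 false, .use 1774 false, .use 95 true, .cancel 5, .use 94 false, .use 94 true, .cancel 5, .use 95 false, .use 2072 true, .cancel 6, .use 93 true, .cancel 5, .use 899 true, .cancel 5, .use 1315 false, .use 93 false, .use 2072 false, .use 95 true, .cancel 5, .use 94 false, .use 267 true, .cancel 6, .use 1375 false, .use 1676 false, .use 290 false]⟩,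
  ⟨[14, 6, 10, 10, 14, 6], [6, 4, 6, 8, 6, 4, 6, 11, 11, 8, 6, 4, 6, 10, 8, 6, 10, 13], [14, 6, 10, 8, 11, 14], [.use 1364 true, .rel 4 2 (25, false, 2), .use 194 true, .cancel 5, .use 226 true, .cancel 5, .use 640 false, .use 1335 false, .use 630 true, .cancel 8, .use 1850 false, .use 1863 false, .use 77 true, .cancel 5, .use 308 true, .cancel 5, .use 1388 false]⟩,
  ⟨[14, 6, 8, 10, 8, 11, 6], [0, 4, 11, 8, 6, 4, 10, 8, 6, 4, 13, 11, 8, 6, 4, 11, 8, 6, 10, 8, 6], [14, 6, 11, 13, 14], [.ins 6 14, .use 2056 false, .use 2026 true, .use 2117 true, .use 40 true, .rel 4 5 (25, false, 4), .use 183 true, .cancel 3, .use 168 false, .use 164 false, .use 160 false, .use 365 false, .use 1390 false]⟩,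
  ⟨[14, 6, 8, 10, 14, 6, 8, 11], [4, 11, 11, 8, 6, 4, 6, 11, 8, 6, 4, 11, 8, 6, 11], [14, 6, 10, 8, 14, 6], [.ins 7 10, .use 2104 false, .use 1951 true, .use 1947 true, .use 98 true, .use 43 true, .use 1309 true, .use 491 true, .ins 3 10, .use 16 false, .rel 4 7 (27, false, 2), .use 197 true, .cancel 4, .use 213 true, .cancel 5, .use 256 false, .use 1701 false, .use 1818 false, .use 442 true, .cancel 6, .use 1329 false]⟩,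
  ⟨[14, 6, 10, 13, 14, 10, 15], [4, 8, 6, 4, 10, 8, 6, 4, 10, 8, 6, 4, 13, 10, 8, 6, 10, 8, 10, 13], [14, 6, 8, 10, 8, 6], [.use 267 true, .use 1347 true, .use 1168 true, .ins 5 11, .use 284 false, .use 1702 true, .use 256 true, .use 1465 true, .ins 6 11, .use 2043 false, .use 1859 true, .use 100 true, .ins 5 15, .use 842 false, .use 91 true, .use 1364 true, .rel 4 13 (29, false, 3), .use 197 true, .cancel 4, .use 538 false, .use 1361 false, .use 537 false, .use 365 false, .use 1390 false, .use 2084 true, .cancel 6]⟩,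
  ⟨[14, 6, 8, 10, 8, 6, 15], [0, 4, 11, 8, 6, 4, 10, 8, 6, 4, 13, 11, 8, 6, 4, 11, 8, 6, 10, 8, 6], [14, 6, 10, 13, 14, 10], [.ins 6 10, .use 2084 false, .use 50 true, .ins 4 11, .use 197 false, .rel 4 4 (29, false, 4), .use 40 false, .use 91 false, .use 1567 true, .cancel 6, .use 1078 true, .cancel 6, .use 1524 false, .use 100 false, .use 1863 false, .use 2043 true, .cancel 6, .use 107 true, .cancel 5, .use 256 false, .use 1696 false, .use 284 true, .cancel 5, .use 971 true, .cancel 6, .use 267 false]⟩,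
  ⟨[14, 6, 10, 8, 12, 11, 5], [4, 8, 11, 8, 6, 4, 6, 11, 8, 6, 4, 6, 10, 8, 6, 4, 6, 10, 10, 8, 11], [14, 6, 10, 8, 12, 11], [.use 319 true, .use 2033 true, .ins 6 6, .use 319 false, .use 84 true, .use 195 true, .use 183 true, .use 176 true, .ins 3 6, .use 183 false, .rel 4 9 (30, false, 35), .use 195 false, .use 84 false, .use 252 false, .use 349 true, .cancel 7, .use 870 false, .use 1740 false, .use 1786 false, .use 2114 true, .cancel 6, .use 1047 false, .use 1740 false, .use 1783 false, .use 349 false, .use 252 true, .cancel 6, .use 252 false, .use 349 true, .cancel 7, .use 2106 true, .cancel 7, .use 352 false, .use 349 false, .use 312 true, .cancel 6, .use 313 false, .use 255 false, .use 640 false, .use 1335 false, .use 1930 false, .use 1511 false, .use 1624 false, .use 1932 false, .use 1935 false, .use 1611 false,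 .use 98 true, .cancel 5, .use 967 false, .use 1341 false, .use 24 true, .cancel 3, .use 23 false, .use 277 true, .cancel 5, .use 75 false, .use 304 true, .cancel 6, .use 2087 true, .cancel 6, .use 84 true, .cancel 5, .use 255 true, .cancel 6, .use 342 false, .use 1059 true, .cancel 6]⟩,
  ⟨[14, 6, 10, 8, 14, 6, 0], [0], [14, 6, 10, 8, 14, 6], [.use 1500 true, .use 1818 true, .use 1773 true, .use 1730 true, .use 900 true, .use 95 true, .use 41 true, .rel 4 6 (29, false, 13), .use 148 true, .cancel 4, .use 50 false, .use 361 false, .use 1752 false, .use 1814 false, .use 1594 false, .use 1996 false, .use 2055 false, .use 59 true, .cancel 5, .use 695 true, .cancel 6, .use 1647 false, .use 223 true, .cancel 5, .use 1168 false, .use 1347 false, .use 1908 true, .cancel 6, .use 2040 false]⟩,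
  ⟨[14, 6, 10, 14, 11, 8], [8, 6, 4, 10, 10, 8, 6, 4, 6, 11, 8, 6, 4, 11, 8, 6, 4, 11, 8], [14, 6, 10, 10, 14, 10], [.use 44 true, .rel 4 2 (14, false, 1), .use 199 false, .use 90 false, .use 2088 false, .use 110 false, .use 2060 false, .use 92 true, .cancel 5, .use 91 false, .use 570 false, .use 1526 false, .use 1793 false, .use 1837 false]⟩,
  ⟨[14, 6, 8, 10, 14, 10, 9], [], [14, 6, 10, 8, 14, 10], [.use 63 true, .ins 5 11, .use 64 false, .use 1945 true, .ins 6 8, .use 2107 false, .use 100 true, .use 44 true, .ins 4 10, .use 43 false, .use 43 true, .rel 4 9 (14, false, 3), .use 198 true, .cancel 5, .use 89 false]⟩,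
  ⟨[14, 6, 10, 10, 14, 10, 8], [4, 6, 8, 6, 4, 11, 8, 6, 4, 11, 8, 6, 4, 10, 8, 6, 10, 10, 8], [14, 6, 10, 14, 11], [.use 1837 true, .use 1987 true, .ins 7 8, .use 1028 false, .use 247 true, .ins 6 11, .use 302 false, .use 72 true, .ins 5 8, .use 71 false, .use 1979 true, .use 1610 true, .use 100 true, .use 44 true, .rel 4 10 (14, false, 4), .use 44 false]⟩,
  ⟨[14, 6, 10, 13, 14, 6, 9], [4, 8, 6, 4, 6, 8, 12, 11, 8, 6, 4, 6, 11, 8, 6, 4, 11], [14, 6, 10, 13, 14, 11], [.use 2074 true, .use 1044 true, .use 2019 true, .use 89 true, .ins 5 8, .use 198 false, .rel 4 5 (14, false, 7), .use 43 false, .use 98 false, .use 1611 true, .cancel 6, .use 1611 false, .use 1845 false, .use 1951 false, .use 268 true, .cancel 6]⟩,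
  ⟨[14, 6, 10, 14, 6, 13], [6, 4, 6, 8, 6, 4, 6, 12, 11, 8, 6, 4, 6, 8, 11, 8, 6, 11], [14, 6, 10, 8, 11, 14], [.use 42 true, .rel 4 2 (18, false, 3), .use 200 true, .cancel 5, .use 2117 false]⟩,
  ⟨[14, 6, 10, 8, 11, 14, 6], [6, 8, 11, 8, 6, 4, 6, 10, 8, 6, 4, 6, 10, 8, 6, 4, 6, 12], [14, 6, 10, 10, 14], [.use 2128 true, .ins 5 6, .use 262 false, .rel 4 3 (18, true, 0), .use 200 true, .cancel 5]⟩,
  ⟨[14, 6, 10, 14, 6, 11, 1], [0], [14, 6, 10, 14, 6, 11], [.use 2105 true, .use 263 true, .use 1319 true, .ins 7 4, .use 904 false, .ins 5 6, .use 263 false, .use 97 true, .use 325 true, .use 1939 true, .use 1937 true, .use 1932 true, .ins 8 6, .use 1628 false, .ins 6 8, .use 325 false, .ins 5 11, .use 97 false, .use 1913 true, .use 1933 true, .use 1932 true, .use 1629 true, .use 88 true, .use 1313 true, .use 886 true, .ins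 5 6, .use 88 false, .use 1940 true, .use 1932 true, .use 1916 true, .use 1914 true, .ins 7 10, .use 1087 false, .use 1913 true, .use 1933 true, .use 118 true, .ins 6 10, .use 340 false, .use 344 true, .use 323 true, .ins 6 11, .use 207 false, .ins 5 11, .use 86 false, .use 2030 true, .use 1876 true, .use 1834 true, .use 735 true, .use 299 true, .use 1834 true, .use 1832 true, .use 783 true, .use 78 true, .use 2047 true, .use 1943 true, .use 1911 true, .use 64 true, .use 295 true, .ins 6 11, .use 112 false, .use 1793 true, .use 1526 true, .use 570 true, .use 1523 true, .use 1338 true, .use 44 true, .rel 4 43 (30, false, 2), .use 43 false, .use 326 true, .cancel 6]⟩,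
  ⟨[14, 6, 10, 8, 10, 12, 5], [4, 8, 11, 8, 6, 4, 6, 11, 8, 6, 4, 6, 10, 8, 6, 4, 6, 10, 10, 8, 11], [14, 6, 10, 8, 10, 12], [.ins 6 6, .use 312 false, .ins 6 8, .use 335 false, .use 1730 true, .use 375 true, .use 1723 true, .use 1691 true, .ins 6 11, .use 536 false, .use 1879 true, .use 69 true, .use 1396 true, .ins 5 4, .use 826 false, .ins 5 6, .use 69 false, .use 1834 true, .use 1832 true, .ins 7 8, .use 983 false, .use 1724 true, .use 1720 true, .use 921 true, .use 1723 true, .use 1691 true, .ins 6 11, .use 536 false, .use 1980 true, .use 1979 true, .use 1610 true, .use 100 true, .use 1957 true, .use 1124 true, .use 1618 true, .ins 5 11, .use 97 false, .use 1919 true, .use 1914 true, .ins 7 10, .use 1087 false, .use 97 true, .use 42 true, .rel 4 25 (30, false, 12), .use 44 false, .use 100 false, .use 1859 false, .use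 2043 true, .cancel 6, .use 1778 false, .use 1673 false, .use 102 true, .cancel 5, .use 45 true, .cancel 4, .use 428 false, .use 1416 false, .use 1723 false, .use 375 false, .use 1730 false, .use 1149 true, .cancel 7, .use 1695 false, .use 930 false, .use 931 true, .cancel 5, .use 1392 false, .use 1305 false, .use 1422 false, .use 1730 false, .use 1776 false, .use 1148 false, .use 1695 false, .use 375 false, .use 1730 false, .use 335 true, .cancel 6, .use 312 true, .cancel 6]⟩,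
  ⟨[14, 6, 10, 8, 10, 12, 14], [4, 6, 8, 6, 4, 11, 8, 6, 4, 11, 8, 6, 4, 10, 8, 6, 13, 10, 8], [14, 6, 8, 10, 10, 14, 11], [.ins 6 10, .use 320 false, .ins 7 10, .use 352 false, .ins 7 7, .use 354 false, .use 320 true, .ins 6 11, .use 313 false, .use 1824 true, .use 1442 true, .ins 5 10, .use 188 false, .ins 5 10, .use 241 false, .use 230 true, .use 26 true, .use 12 true, .use 1349 true, .use 454 true, .ins 4 10, .use 33 false, .ins 5 10, .use 72 false, .use 291 true, .use 287 true, .use 223 true, .use 971 true, .use 1908 true, .use 2119 true, .use 2091 true, .use 1974 true, .use 1067 true, .use 1333 true, .use 1069 true, .use 2098 true, .use 2100 true, .use 2091 true, .use 1975 true, .use 90 true, .use 199 true, .use 262 true, .use 1517 true, .ins 5 6, .use 262 false, .rel 4 32 (30, false, 35), .use 199 false, .use 90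 false, .use 2088 false, .use 110 false, .use 2063 false, .use 1599 false, .use 1847 false, .use 1065 true, .cancel 6, .use 1331 false, .use 1075 false, .use 1816 false, .use 1595 false, .use 2061 false, .use 110 true, .cancel 6, .use 2088 true, .cancel 6, .use 2088 false, .use 110 false]⟩,
  ⟨[14, 6, 8, 11, 8, 11, 13, 14], [8, 6, 4, 10, 10, 8, 6, 4, 6, 11, 8, 6, 4, 11, 8, 6, 4, 11, 8], [14, 6, 8, 11, 8, 11, 8], [.ins 7 10, .use 349 false, .use 252 true, .ins 6 9, .use 343 false, .use 102 true, .use 45 true, .rel 4 6 (27, false, 4), .use 48 false, .use 1723 false, .use 375 false, .use 1730 false, .use 336 false, .use 349 true, .cancel 7, .use 352 true, .cancel 7]⟩,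
  ⟨[14, 6, 10, 10, 14, 10, 6], [6, 4, 6, 8, 6, 4, 6, 11, 11, 8, 6, 4, 6, 10, 8, 6, 10, 13], [14, 6, 8, 14, 11, 8], [.use 91 true, .ins 5 11, .use 92 false, .use 1810 true, .use 105 true, .ins 5 10, .use 104 false, .use 360 true, .use 1102 true, .use 1812 true, .use 328 true, .use 1758 true, .ins 6 6, .use 328 false, .use 105 true, .use 212 true, .use 156 true, .ins 3 4, .use 155 false, .ins 3 6, .use 156 false, .rel 4 17 (30, false, 35), .use 212 false, .use 105 false, .use 1809 false, .use 2084 true, .cancel 6, .use 294 true, .cancel 6, .use 65 true, .cancel 5, .use 1001 false, .use 1398 false, .use 65 false, .use 294 false, .use 2084 false, .use 361 false, .use 1752 false, .use 1809 false, .use 2084 true, .cancel 6, .use 2121 false, .use 267 true, .cancel 6, .use 1908 true, .cancel 6, .use 88 true, .cancel 5, .use 90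 false, .use 2088 false, .use 61 true, .cancel 5, .use 238 true, .cancel 5, .use 188 false, .use 233 false, .use 238 false, .use 26 true, .cancel 4, .use 691 false, .use 1410 false, .use 63 false, .use 1037 false, .use 1659 false]⟩,
  ⟨[14, 6, 11, 13, 14, 6], [0, 6, 8, 6, 4, 10, 8, 6, 4, 11, 8, 6, 4, 11, 8, 6, 4, 12, 10, 8, 10], [14, 6, 8, 10, 8, 11], [.use 1390 true, .use 365 true, .rel 4 2 (25, false, 2), .use 210 false, .use 225 true, .cancel 5, .use 627 false, .use 1420 false, .use 643 true, .cancel 8, .use 1467 false, .use 1820 false, .use 1858 false, .use 2107 true, .cancel 6, .use 2052 true, .cancel 6, .use 2056 true, .cancel 6]⟩,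
  ⟨[14, 6, 8, 14, 11, 8, 6], [6, 8, 11, 8, 6, 4, 6, 10, 8, 6, 4, 6, 10, 8, 6, 4, 6, 12], [14, 6, 10, 10, 14, 10], [.use 74 true, .use 219 true, .rel 4 3 (9, false, 0), .use 278 true, .cancel 5, .use 614 false, .use 1957 false, .use 2126 true, .cancel 6]⟩,
  ⟨[14, 6, 8, 10, 14, 10, 8], [], [14, 6, 10, 8, 14, 10], [.use 338 true, .use 2036 true, .use 1674 true, .use 1414 true, .use 1268 true, .rel 4 5 (25, false, 2), .use 278 true, .cancel 5, .use 614 false, .use 1957 false, .use 842 false, .use 2136 true, .cancel 6, .use 1685 false, .use 2017 false]⟩,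
  ⟨[14, 6, 10, 8, 11, 12, 5], [4, 8, 11, 8, 6, 4, 6, 11, 8, 6, 4, 6, 10, 8, 6, 4, 6, 10, 10, 8, 11], [14, 6, 10, 8, 11, 12], [.use 312 true, .use 2131 true, .ins 6 6, .use 312 false, .use 252 true, .ins 6 9, .use 343 false, .use 1674 true, .use 1414 true, .use 1233 true, .use 947 true, .use 1649 true, .use 980 true, .use 343 true, .ins 6 11, .use 252 false, .use 349 true, .use 352 true, .use 115 true, .use 350 true, .use 1519 true, .ins 6 6, .use 350 false, .ins 6 8, .use 115 false, .ins 7 10, .use 352 false, .ins 7 10, .use 349 false, .use 349 true, .use 352 true, .use 2133 true, .ins 7 10, .use 349 false, .use 252 true, .use 319 true, .ins 6 11, .use 255 false, .ins 5 11, .use 84 false, .use 2086 true, .ins 6 10, .use 304 false, .use 75 true, .use 219 true, .rel 4 32 (30, false, 12), .use 23 true, .cancel 3, .use 24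 false, .use 509 false, .use 98 false, .use 1611 true, .cancel 6, .use 1628 true, .cancel 8, .use 1932 false, .use 1934 false, .use 998 false, .use 1928 false, .use 85 true, .cancel 5, .use 255 true, .cancel 6, .use 313 true, .cancel 6, .use 311 true, .cancel 6, .use 1052 false]⟩,
  ⟨[14, 6, 8, 14, 11, 13, 8], [4, 8, 6, 4, 10, 8, 6, 4, 10, 8, 6, 4, 10, 10, 8, 6, 12, 10, 8], [14, 6, 10, 8, 14, 11], [.ins 6 7, .use 283 false, .use 1647 true, .use 1564 true, .rel 5 3 (25, false, 4), .use 293 true, .cancel 6, .use 2120 true, .cancel 6, .use 2044 true, .cancel 6, .use 291 true, .cancel 5, .use 598 false, .use 1993 false, .use 2003 false, .use 1496 false, .use 1713 false, .use 1966 false]⟩,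
  ⟨[14, 6, 10, 8, 10, 12, 15], [8, 6, 4, 10, 10, 8, 6, 4, 6, 11, 8, 6, 4, 11, 8, 6, 4, 11, 8, 13], [14, 6, 8, 10, 10, 14, 11], [.ins 6 10, .use 320 false, .use 2133 true, .use 352 true, .ins 7 14, .use 2106 false, .ins 7 10, .use 349 false, .use 2082 true, .use 2074 true, .use 1044 true, .use 1042 true, .use 594 true, .use 75 true, .ins 5 15, .use 712 false, .use 63 true, .use 1410 true, .use 691 true, .ins 4 10, .use 26 false, .ins 5 5, .use 2053 false, .use 860 true, .rel 5 16 (29, false, 0), .use 2085 false, .use 110 false]⟩,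
  ⟨[14, 6, 10, 8, 14, 11, 12], [8, 6, 4, 10, 8, 6, 4, 11, 13, 11, 8, 6, 4, 10, 8, 6, 4, 10, 8], [14, 6, 8, 14, 11, 8], [.ins 6 11, .use 2088 false, .ins 6 12, .use 239 false, .rel 5 3 (20, false, 0), .use 63 false, .use 1037 false, .use 1659 false]⟩,
  ⟨[14, 6, 10, 8, 10, 14, 13], [4, 6, 8, 6, 4, 11, 8, 6, 4, 11, 8, 6, 4, 10, 8, 6, 13, 10, 8], [14, 6, 8, 10, 10, 14, 11], [.use 1943 true, .use 1911 true, .use 64 true, .rel 5 3 (20, false, 3), .use 239 true, .cancel 6, .use 110 false]⟩,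
  ⟨[14, 6, 8, 14, 10, 8, 12], [4, 6, 8, 6, 4, 11, 8, 6, 4, 11, 8, 6, 4, 10, 8, 6, 13, 10, 8], [14, 6, 10, 13, 14, 10], [.ins 6 8, .use 300 false, .rel 5 2 (19, false, 1), .use 245 false, .use 2045 false]⟩,
  ⟨[14, 6, 10, 13, 14, 6, 12], [6, 4, 6, 8, 6, 4, 6, 12, 11, 8, 6, 4, 6, 8, 11, 8, 6, 11], [14, 6, 10, 8, 11, 14], [.use 2074 true, .use 2070 true, .use 82 true, .rel 5 3 (26, false, 1), .use 83 false]⟩,
  ⟨[14, 6, 5], [4, 8, 11, 8, 6, 4, 6, 11, 8, 6, 4, 6, 10, 8, 6, 4, 6, 10, 10, 8, 11], [14, 6], [.use 367 false, .use 1321 false]⟩,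
  ⟨[14, 6, 4], [4, 8, 11, 8, 6, 4, 6, 11, 8, 6, 4, 6, 10, 8, 6, 4, 6, 10, 10, 8, 11], [14, 6], [.use 371 false, .use 382 false, .use 1321 false]⟩,
  ⟨[14, 6, 15], [4, 10, 8, 6, 4, 6, 11, 11, 8, 6, 4, 6, 11, 8, 6, 4, 6, 10, 8, 10, 8], [14, 6, 14], [.use 374 true, .cancel 5, .use 1353 false]⟩,
  ⟨[14, 6, 0], [0], [14, 6], [.use 379 false, .use 387 false]⟩,
  ⟨[14, 6, 1], [0], [14, 6], [.use 380 true, .cancel 3, .use 387 false]⟩,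
  ⟨[14, 6, 8, 15], [4, 10, 8, 6, 4, 6, 11, 11, 8, 6, 4, 6, 11, 8, 6, 4, 6, 10, 8, 10, 8], [14, 6, 8, 14], [.use 372 false, .use 1381 false]⟩,
  ⟨[14, 6, 8, 1], [0], [14, 6, 8], [.use 385 true, .cancel 4, .use 389 false]⟩,
  ⟨[14, 6, 8, 5], [4, 8, 11, 8, 6, 4, 6, 11, 8, 6, 4, 6, 10, 8, 6, 4, 6, 10, 10, 8, 11], [14, 6, 8], [.use 392 true, .cancel 4, .use 1349 false]⟩,
  ⟨[14, 6, 8, 4], [4, 8, 11, 8, 6, 4, 6, 11, 8, 6, 4, 6, 10, 8, 6, 4, 6, 10, 10, 8, 11], [14, 6, 8], [.use 447 false, .use 1349 false]⟩,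
  ⟨[14, 6, 10, 5], [4, 8, 11, 8, 6, 4, 6, 11, 8, 6, 4, 6, 10, 8, 6, 4, 6, 10, 10, 8, 11], [14, 6, 10], [.use 435 false, .use 1188 false, .use 1311 false]⟩,
  ⟨[14, 6, 10, 4], [4, 8, 11, 8, 6, 4, 6, 11, 8, 6, 4, 6, 10, 8, 6, 4, 6, 10, 10, 8, 11], [14, 6, 10], [.use 439 false, .use 475 false, .use 1188 false, .use 1311 false]⟩,
  ⟨[14, 6, 10, 0], [0], [14, 6, 10], [.use 472 false, .use 480 false]⟩,
  ⟨[14, 6, 10, 1], [0], [14, 6, 10], [.use 473 true, .cancel 4, .use 480 false]⟩,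
  ⟨[14, 6, 10, 15], [4, 10, 8, 6, 4, 6, 11, 11, 8, 6, 4, 6, 11, 8, 6, 4, 6, 10, 8, 10, 8], [14, 6, 10, 14], [.use 491 false, .use 1309 false]⟩,
  ⟨[14, 6, 11, 5], [4, 8, 11, 8, 6, 4, 6, 11, 8, 6, 4, 6, 10, 8, 6, 4, 6, 10, 10, 8, 11], [14, 6, 11], [.use 394 false, .use 1351 false]⟩,
  ⟨[14, 6, 11, 4], [4, 8, 11, 8, 6, 4, 6, 11, 8, 6, 4, 6, 10, 8, 6, 4, 6, 10, 10, 8, 11], [14, 6, 11], [.use 427 true, .cancel 7, .use 527 false, .use 1351 false]⟩,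
  ⟨[14, 6, 11, 15], [4, 10, 8, 6, 4, 6, 11, 11, 8, 6, 4, 6, 11, 8, 6, 4, 6, 10, 8, 10, 8], [14, 6, 11, 14], [.use 505 false, .use 1227 false, .use 1385 false]⟩,
  ⟨[14, 6, 14, 14], [4, 10, 8, 6, 4, 6, 11, 11, 8, 6, 4, 6, 11, 8, 6, 4, 6, 10, 8, 10, 8], [14, 6], [.use 396 false, .use 1321 false]⟩,
  ⟨[14, 6, 14, 4], [4, 8, 11, 8, 6, 4, 6, 11, 8, 6, 4, 6, 10, 8, 6, 4, 6, 10, 10, 8, 11], [14, 6, 14], [.use 397 true, .cancel 5, .use 1353 false]⟩,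
  ⟨[14, 6, 14, 0], [0], [14, 6, 14], [.use 574 false, .use 587 false]⟩,
  ⟨[14, 6, 14, 1], [0], [14, 6, 14], [.use 575 true, .cancel 4, .use 587 false]⟩,
  ⟨[14, 6, 14, 5], [4, 8, 11, 8, 6, 4, 6, 11, 8, 6, 4, 6, 10, 8, 6, 4, 6, 10, 10, 8, 11], [14, 6, 14], [.use 576 true, .cancel 5, .use 1353 false]⟩,
  ⟨[14, 6, 8, 10, 0], [0], [14, 6, 8, 10], [.use 659 false, .use 674 false]⟩,
  ⟨[14, 6, 8, 10, 1], [0], [14, 6, 8, 10], [.use 660 true, .cancel 5, .use 674 false]⟩,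
  ⟨[14, 6, 8, 10, 4], [4, 8, 11, 8, 6, 4, 6, 11, 8, 6, 4, 6, 10, 8, 6, 4, 6, 10, 10, 8, 11], [14, 6, 8, 10], [.use 661 false, .use 1383 false]⟩,
  ⟨[14, 6, 8, 10, 5], [4, 8, 11, 8, 6, 4, 6, 11, 8, 6, 4, 6, 10, 8, 6, 4, 6, 10, 10, 8, 11], [14, 6, 8, 10], [.use 662 true, .cancel 5, .use 1383 false]⟩,
  ⟨[14, 6, 8, 10, 15], [4, 10, 8, 6, 4, 6, 11, 11, 8, 6, 4, 6, 11, 8, 6, 4, 6, 10, 8, 10, 8], [14, 6, 8, 10, 14], [.use 691 false, .use 1410 false]⟩,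
  ⟨[14, 6, 8, 11, 5], [4, 8, 11, 8, 6, 4, 6, 11, 8, 6, 4, 6, 10, 8, 6, 4, 6, 10, 10, 8, 11], [14, 6, 8, 11], [.use 449 false, .use 1379 false]⟩,
  ⟨[14, 6, 8, 11, 15], [4, 10, 8, 6, 4, 6, 11, 11, 8, 6, 4, 6, 11, 8, 6, 4, 6, 10, 8, 10, 8], [14, 6, 8, 11, 14], [.use 709 false, .use 1396 false]⟩,
  ⟨[14, 6, 8, 11, 4], [4, 8, 11, 8, 6, 4, 6, 11, 8, 6, 4, 6, 10, 8, 6, 4, 6, 10, 10, 8, 11], [14, 6, 8, 11], [.use 723 false, .use 1379 false]⟩,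
  ⟨[14, 6, 8, 14, 14], [4, 10, 8, 6, 4, 6, 11, 11, 8, 6, 4, 6, 11, 8, 6, 4, 6, 10, 8, 10, 8], [14, 6, 8], [.use 454 false, .use 1349 false]⟩]

/-- Equations. -/
def part34 : List CFact := [
  ⟨[14, 6, 8, 14, 4], [4, 8, 11, 8, 6, 4, 6, 11, 8, 6, 4, 6, 10, 8, 6, 4, 6, 10, 10, 8, 11], [14, 6, 8, 14], [.use 455 true, .cancel 4, .use 1381 false]⟩,
  ⟨[14, 6, 8, 14, 1], [0], [14, 6, 8, 14], [.use 578 true, .cancel 5, .use 589 false]⟩,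
  ⟨[14, 6, 8, 14, 5], [4, 8, 11, 8, 6, 4, 6, 11, 8, 6, 4, 6, 10, 8, 6, 4, 6, 10, 10, 8, 11], [14, 6, 8, 14], [.use 579 true, .cancel 4, .use 1381 false]⟩,
  ⟨[14, 6, 10, 8, 15], [4, 10, 8, 6, 4, 6, 11, 11, 8, 6, 4, 6, 11, 8, 6, 4, 6, 10, 8, 10, 8], [14, 6, 10, 8, 14], [.use 440 false, .use 1313 false]⟩,
  ⟨[14, 6, 10, 8, 1], [0], [14, 6, 10, 8], [.use 478 true, .cancel 5, .use 482 false]⟩,
  ⟨[14, 6, 10, 8, 5], [4, 8, 11, 8, 6, 4, 6, 11, 8, 6, 4, 6, 10, 8, 6, 4, 6, 10, 10, 8, 11], [14, 6, 10, 8], [.use 485 true, .cancel 5, .use 1192 false, .use 1323 false]⟩,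
  ⟨[14, 6, 10, 8, 4], [4, 8, 11, 8, 6, 4, 6, 11, 8, 6, 4, 6, 10, 8, 6, 4, 6, 10, 10, 8, 11], [14, 6, 10, 8], [.use 781 false, .use 1192 false, .use 1323 false]⟩,
  ⟨[14, 6, 10, 10, 5], [4, 8, 11, 8, 6, 4, 6, 11, 8, 6, 4, 6, 10, 8, 6, 4, 6, 10, 10, 8, 11], [14, 6, 10, 10], [.use 635 false, .use 1210 false, .use 1327 false]⟩,
  ⟨[14, 6, 10, 10, 4], [4, 8, 11, 8, 6, 4, 6, 11, 8, 6, 4, 6, 10, 8, 6, 4, 6, 10, 10, 8, 11], [14, 6, 10, 10], [.use 639 false, .use 830 false, .use 1210 false, .use 1327 false]⟩,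
  ⟨[14, 6, 10, 13, 5], [4, 8, 11, 8, 6, 4, 6, 11, 8, 6, 4, 6, 10, 8, 6, 4, 6, 10, 10, 8, 11], [14, 6, 10, 13], [.use 488 false, .use 1325 false]⟩,
  ⟨[14, 6, 10, 13, 15], [4, 10, 8, 6, 4, 6, 11, 11, 8, 6, 4, 6, 11, 8, 6, 4, 6, 10, 8, 10, 8], [14, 6, 10, 13, 14], [.use 500 true, .cancel 5, .use 1315 false]⟩,
  ⟨[14, 6, 10, 13, 4], [4, 8, 11, 8, 6, 4, 6, 11, 8, 6, 4, 6, 10, 8, 6, 4, 6, 10, 10, 8, 11], [14, 6, 10, 13], [.use 649 true, .cancel 8, .use 835 false, .use 1325 false]⟩,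
  ⟨[14, 6, 10, 14, 14], [4, 10, 8, 6, 4, 6, 11, 11, 8, 6, 4, 6, 11, 8, 6, 4, 6, 10, 8, 10, 8], [14, 6, 10], [.use 490 false, .use 1188 false, .use 1311 false]⟩,
  ⟨[14, 6, 10, 14, 4], [4, 8, 11, 8, 6, 4, 6, 11, 8, 6, 4, 6, 10, 8, 6, 4, 6, 10, 10, 8, 11], [14, 6, 10, 14], [.use 493 true, .cancel 4, .use 1309 false]⟩,
  ⟨[14, 6, 10, 14, 5], [4, 8, 11, 8, 6, 4, 6, 11, 8, 6, 4, 6, 10, 8, 6, 4, 6, 10, 10, 8, 11], [14, 6, 10, 14], [.use 837 false, .use 1309 false]⟩,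
  ⟨[14, 6, 11, 8, 15], [4, 10, 8, 6, 4, 6, 11, 11, 8, 6, 4, 6, 11, 8, 6, 4, 6, 10, 8, 10, 8], [14, 6, 11, 8, 14], [.use 428 false, .use 1416 false]⟩,
  ⟨[14, 6, 11, 8, 11], [4, 6, 8, 6, 4, 6, 10, 8, 6, 4, 6, 12, 11, 8, 6, 4, 6, 11, 8, 6], [14, 6, 11, 14], [.use 451 false, .use 1667 false]⟩,
  ⟨[14, 6, 11, 8, 5], [4, 8, 11, 8, 6, 4, 6, 11, 8, 6, 4, 6, 10, 8, 6, 4, 6, 10, 10, 8, 11], [14, 6, 11, 8], [.use 530 true, .cancel 5, .use 1387 false]⟩,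
  ⟨[14, 6, 11, 8, 4], [4, 8, 11, 8, 6, 4, 6, 11, 8, 6, 4, 6, 10, 8, 6, 4, 6, 10, 10, 8, 11], [14, 6, 11, 8], [.use 907 false, .use 1387 false]⟩,
  ⟨[14, 6, 11, 11, 15], [4, 10, 8, 6, 4, 6, 11, 11, 8, 6, 4, 6, 11, 8, 6, 4, 6, 10, 8, 10, 8], [14, 6, 11, 11, 14], [.use 402 false, .use 1392 false]⟩,
  ⟨[14, 6, 11, 11, 5], [4, 8, 11, 8, 6, 4, 6, 11, 8, 6, 4, 6, 10, 8, 6, 4, 6, 10, 10, 8, 11], [14, 6, 11, 11], [.use 532 false, .use 1363 false]⟩,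
  ⟨[14, 6, 11, 11, 4], [4, 8, 11, 8, 6, 4, 6, 11, 8, 6, 4, 6, 10, 8, 6, 4, 6, 10, 10, 8, 11], [14, 6, 11, 11], [.use 618 true, .cancel 8, .use 844 false, .use 1363 false]⟩,
  ⟨[14, 6, 11, 13, 15], [4, 10, 8, 6, 4, 6, 11, 11, 8, 6, 4, 6, 11, 8, 6, 4, 6, 10, 8, 10, 8], [14, 6, 11, 13, 14], [.use 365 false, .use 1390 false]⟩,
  ⟨[14, 6, 11, 13, 5], [4, 8, 11, 8, 6, 4, 6, 11, 8, 6, 4, 6, 10, 8, 6, 4, 6, 10, 10, 8, 11], [14, 6, 11, 13], [.use 538 false, .use 1361 false]⟩,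
  ⟨[14, 6, 11, 13, 4], [4, 8, 11, 8, 6, 4, 6, 11, 8, 6, 4, 6, 10, 8, 6, 4, 6, 10, 10, 8, 11], [14, 6, 11, 13], [.use 626 true, .cancel 8, .use 848 false, .use 1361 false]⟩,
  ⟨[14, 6, 11, 14, 10], [6, 8, 6, 4, 6, 10, 8, 6, 4, 6, 10, 8, 6, 4, 6, 13, 11, 8, 6, 4], [14, 6, 11, 8], [.use 416 false, .use 545 false, .use 1689 false]⟩,
  ⟨[14, 6, 11, 14, 6], [6, 8, 6, 4, 10, 8, 6, 11, 8, 6, 4, 6, 4, 10, 8, 6, 4, 11, 8, 13, 10], [14, 6, 11, 8, 10], [.use 495 false, .use 1412 false, .use 1693 false]⟩,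
  ⟨[14, 6, 11, 14, 14], [4, 10, 8, 6, 4, 6, 11, 11, 8, 6, 4, 6, 11, 8, 6, 4, 6, 10, 8, 10, 8], [14, 6, 11], [.use 540 false, .use 1351 false]⟩,
  ⟨[14, 6, 11, 14, 4], [4, 8, 11, 8, 6, 4, 6, 11, 8, 6, 4, 6, 10, 8, 6, 4, 6, 10, 10, 8, 11], [14, 6, 11, 14], [.use 550 true, .cancel 4, .use 1227 false, .use 1385 false]⟩,
  ⟨[14, 6, 11, 14, 5], [4, 8, 11, 8, 6, 4, 6, 11, 8, 6, 4, 6, 10, 8, 6, 4, 6, 10, 10, 8, 11], [14, 6, 11, 14], [.use 820 true, .cancel 4, .use 1227 false, .use 1385 false]⟩,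
  ⟨[14, 6, 11, 14, 7], [6, 8, 6, 4, 10, 8, 6, 11, 8, 6, 4, 6, 4, 10, 8, 6, 4, 11, 8, 13, 10], [14, 6, 11, 8, 10], [.use 944 true, .cancel 5, .use 1412 false, .use 1693 false]⟩,
  ⟨[14, 6, 14, 10, 14], [], [14, 6, 11, 14, 11], [.use 407 true, .cancel 6, .use 543 false]⟩,
  ⟨[14, 6, 14, 10, 15], [4, 10, 8, 6, 4, 6, 11, 11, 8, 6, 4, 6, 11, 8, 6, 4, 6, 10, 8, 10, 8], [14, 6, 11, 14, 11], [.use 1268 false, .use 1414 false]⟩,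
  ⟨[14, 6, 14, 11, 1], [0], [14, 6, 14, 11], [.use 580 false, .use 592 false]⟩,
  ⟨[14, 6, 14, 11, 5], [4, 8, 11, 8, 6, 4, 6, 11, 8, 6, 4, 6, 10, 8, 6, 4, 6, 10, 10, 8, 11], [14, 6, 14, 11], [.use 582 false, .use 1341 false]⟩,
  ⟨[14, 6, 14, 11, 4], [4, 8, 11, 8, 6, 4, 6, 11, 8, 6, 4, 6, 10, 8, 6, 4, 6, 10, 10, 8, 11], [14, 6, 14, 11], [.use 854 true, .cancel 6, .use 1341 false]⟩,
  ⟨[14, 6, 14, 11, 14], [4, 10, 8, 6, 4, 6, 11, 11, 8, 6, 4, 6, 11, 8, 6, 4, 6, 10, 8, 10, 8], [14, 6, 10, 14, 10], [.use 964 false, .use 1319 false]⟩,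
  ⟨[14, 6, 8, 10, 8, 1], [0], [14, 6, 8, 10, 8], [.use 664 true, .cancel 6, .use 676 false]⟩,
  ⟨[14, 6, 8, 10, 8, 5], [4, 8, 11, 8, 6, 4, 6, 11, 8, 6, 4, 6, 10, 8, 6, 4, 6, 10, 10, 8, 11], [14, 6, 8, 10, 8], [.use 673 true, .cancel 6, .use 1406 false]⟩,
  ⟨[14, 6, 8, 10, 8, 13], [4, 8, 6, 4, 13, 10, 8, 6, 4, 6, 11, 8, 6, 4, 11, 8, 6, 10, 8, 6], [14, 6, 11, 14, 11], [.use 689 true, .cancel 6, .use 822 false, .use 1649 false]⟩,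
  ⟨[14, 6, 8, 10, 8, 15], [4, 8, 6, 4, 13, 10, 8, 6, 4, 6, 11, 8, 6, 4, 11, 8, 6, 10, 8, 6], [14, 6, 14, 10, 13], [.use 695 true, .cancel 6, .use 1647 false]⟩,
  ⟨[14, 6, 8, 10, 8, 4], [4, 8, 11, 8, 6, 4, 6, 11, 8, 6, 4, 6, 10, 8, 6, 4, 6, 10, 10, 8, 11], [14, 6, 8, 10, 8], [.use 974 false, .use 1406 false]⟩,
  ⟨[14, 6, 8, 10, 8, 14], [8, 6, 4, 10, 8, 6, 4, 11, 13, 11, 8, 6, 4, 10, 8, 6, 4, 10, 8], [14, 6, 14, 10, 13], [.use 1564 false, .use 1647 false]⟩,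
  ⟨[14, 6, 8, 10, 13, 8], [4, 8, 6, 4, 13, 10, 8, 6, 4, 6, 11, 8, 6, 4, 11, 8, 6, 10, 8, 6], [14, 6, 11, 14, 11], [.use 453 true, .cancel 6, .use 1649 false]⟩,
  ⟨[14, 6, 8, 10, 13, 5], [4, 8, 11, 8, 6, 4, 6, 11, 8, 6, 4, 6, 10, 8, 6, 4, 6, 10, 10, 8, 11], [14, 6, 8, 10, 13], [.use 686 false, .use 1408 false]⟩,
  ⟨[14, 6, 8, 10, 13, 9], [4, 8, 6, 4, 13, 10, 8, 6, 4, 6, 11, 8, 6, 4, 11, 8, 6, 10, 8, 6], [14, 6, 11, 14, 11], [.use 688 false, .use 822 false, .use 1649 false]⟩,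
  ⟨[14, 6, 8, 10, 13, 15], [4, 8, 6, 4, 13, 10, 8, 6, 4, 6, 11, 8, 6, 4, 11, 8, 6, 10, 8, 6], [14, 6, 14, 10, 8], [.use 704 true, .cancel 6, .use 1632 false]⟩,
  ⟨[14, 6, 8, 10, 13, 14], [8, 6, 4, 10, 8, 6, 4, 11, 13, 11, 8, 6, 4, 10, 8, 6, 4, 10, 8], [14, 6, 14, 10, 8], [.use 719 false, .use 1446 false, .use 1632 false]⟩,
  ⟨[14, 6, 8, 10, 13, 4], [4, 8, 11, 8, 6, 4, 6, 11, 8, 6, 4, 6, 10, 8, 6, 4, 6, 10, 10, 8, 11], [14, 6, 8, 10, 13], [.use 861 true, .cancel 6, .use 1408 false]⟩,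
  ⟨[14, 6, 8, 10, 14, 14], [4, 10, 8, 6, 4, 6, 11, 11, 8, 6, 4, 6, 11, 8, 6, 4, 6, 10, 8, 10, 8], [14, 6, 8, 10], [.use 690 false, .use 1383 false]⟩,
  ⟨[14, 6, 8, 10, 14, 4], [4, 8, 11, 8, 6, 4, 6, 11, 8, 6, 4, 6, 10, 8, 6, 4, 6, 10, 10, 8, 11], [14, 6, 8, 10, 14], [.use 693 true, .cancel 5, .use 1410 false]⟩,
  ⟨[14, 6, 8, 10, 14, 5], [4, 8, 11, 8, 6, 4, 6, 11, 8, 6, 4, 6, 10, 8, 6, 4, 6, 10, 10, 8, 11], [14, 6, 8, 10, 14], [.use 862 false, .use 1410 false]⟩,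
  ⟨[14, 6, 8, 10, 14, 12], [8, 6, 4, 10, 8, 6, 4, 11, 13, 11, 8, 6, 4, 10, 8, 6, 4, 10, 8], [14, 6, 14, 10, 8], [.use 868 false, .use 1446 false, .use 1632 false]⟩,
  ⟨[14, 6, 8, 10, 14, 9], [8, 6, 4, 10, 8, 6, 4, 11, 13, 11, 8, 6, 4, 10, 8, 6, 4, 10, 8], [14, 6, 14, 10, 13], [.use 1447 false, .use 1647 false]⟩,
  ⟨[14, 6, 8, 10, 14, 8], [8, 6, 4, 10, 8, 6, 4, 11, 13, 11, 8, 6, 4, 10, 8, 6, 4, 10, 8], [14, 6, 14, 10, 13], [.use 1452 false, .use 1647 false]⟩,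
  ⟨[14, 6, 8, 11, 8, 15], [4, 8, 6, 4, 10, 8, 6, 4, 10, 8, 6, 4, 13, 10, 8, 6, 10, 10, 8], [14, 6, 8, 11, 11], [.use 696 false, .use 1822 false]⟩,
  ⟨[14, 6, 8, 11, 8, 5], [4, 8, 11, 8, 6, 4, 6, 11, 8, 6, 4, 6, 10, 8, 6, 4, 6, 10, 10, 8, 11], [14, 6, 8, 11, 8], [.use 726 true, .cancel 6, .use 1398 false]⟩,
  ⟨[14, 6, 8, 11, 8, 12], [4, 8, 6, 4, 10, 8, 6, 4, 6, 11, 8, 6, 4, 11, 8, 6, 10, 8, 6], [14, 6, 8, 11, 14], [.use 872 false, .use 1781 false]⟩,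
  ⟨[14, 6, 8, 11, 8, 4], [4, 8, 11, 8, 6, 4, 6, 11, 8, 6, 4, 6, 10, 8, 6, 4, 6, 10, 10, 8, 11], [14, 6, 8, 11, 8], [.use 1001 false, .use 1398 false]⟩,
  ⟨[14, 6, 8, 11, 8, 14], [6, 8, 6, 4, 6, 10, 8, 6, 4, 6, 10, 8, 6, 4, 6, 13, 11, 8, 6, 4], [14, 6, 8, 11, 11], [.use 1441 false, .use 1822 false]⟩,
  ⟨[14, 6, 8, 11, 11, 15], [4, 6, 8, 6, 4, 6, 10, 8, 6, 4, 6, 12, 11, 8, 6, 4, 6, 11, 8, 6], [14, 6, 8, 11, 8], [.use 398 false, .use 1762 false]⟩,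
  ⟨[14, 6, 8, 11, 11, 14], [8, 6, 4, 10, 10, 8, 6, 4, 10, 8, 6, 4, 12, 10, 8, 6, 4, 10, 8], [14, 6, 8, 11, 8], [.use 469 false, .use 1440 false, .use 1762 false]⟩,
  ⟨[14, 6, 8, 11, 11, 8], [4, 6, 8, 6, 4, 6, 10, 8, 6, 4, 6, 12, 11, 8, 6, 4, 6, 11, 8, 6], [14, 6, 8, 11, 14], [.use 684 true, .cancel 7, .use 1781 false]⟩,
  ⟨[14, 6, 8, 11, 11, 5], [4, 8, 11, 8, 6, 4, 6, 11, 8, 6, 4, 6, 10, 8, 6, 4, 6, 10, 10, 8, 11], [14, 6, 8, 11, 11], [.use 728 false, .use 1400 false]⟩]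

/-- Equations. -/
def part35 : List CFact := [
  ⟨[14, 6, 8, 11, 11, 9], [4, 6, 8, 6, 4, 6, 10, 8, 6, 4, 6, 12, 11, 8, 6, 4, 6, 11, 8, 6], [14, 6, 8, 11, 14], [.use 788 false, .use 1781 false]⟩,
  ⟨[14, 6, 8, 11, 11, 4], [4, 8, 11, 8, 6, 4, 6, 11, 8, 6, 4, 6, 10, 8, 6, 4, 6, 10, 10, 8, 11], [14, 6, 8, 11, 11], [.use 869 true, .cancel 6, .use 1400 false]⟩,
  ⟨[14, 6, 8, 11, 13, 5], [4, 8, 11, 8, 6, 4, 6, 11, 8, 6, 4, 6, 10, 8, 6, 4, 6, 10, 10, 8, 11], [14, 6, 8, 11, 13], [.use 731 false, .use 1402 false]⟩,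
  ⟨[14, 6, 8, 11, 13, 15], [4, 8, 6, 4, 10, 8, 6, 4, 6, 11, 8, 6, 4, 11, 8, 6, 10, 8, 6], [14, 6, 8, 11, 8, 13], [.use 749 true, .cancel 6, .use 1824 false]⟩,
  ⟨[14, 6, 8, 11, 13, 4], [4, 8, 11, 8, 6, 4, 6, 11, 8, 6, 4, 6, 10, 8, 6, 4, 6, 10, 10, 8, 11], [14, 6, 8, 11, 13], [.use 871 true, .cancel 6, .use 1402 false]⟩,
  ⟨[14, 6, 8, 11, 13, 14], [6, 8, 6, 4, 10, 8, 6, 11, 8, 6, 4, 6, 4, 10, 8, 6, 4, 10, 8], [14, 6, 8, 11, 8, 13], [.use 1442 false, .use 1824 false]⟩,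
  ⟨[14, 6, 8, 11, 14, 14], [4, 10, 8, 6, 4, 6, 11, 11, 8, 6, 4, 6, 11, 8, 6, 4, 6, 10, 8, 10, 8], [14, 6, 8, 11], [.use 733 false, .use 1379 false]⟩,
  ⟨[14, 6, 8, 11, 14, 11], [8, 10, 8, 6, 4, 10, 8, 6, 4, 10, 8, 6, 4, 6, 11, 8, 6, 10, 8, 11], [14, 6, 8, 11, 14, 6], [.use 735 false, .use 1834 false]⟩,
  ⟨[14, 6, 8, 11, 14, 4], [4, 8, 11, 8, 6, 4, 6, 11, 8, 6, 4, 6, 10, 8, 6, 4, 6, 10, 10, 8, 11], [14, 6, 8, 11, 14], [.use 740 true, .cancel 5, .use 1396 false]⟩,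
  ⟨[14, 6, 8, 11, 14, 5], [4, 8, 11, 8, 6, 4, 6, 11, 8, 6, 4, 6, 10, 8, 6, 4, 6, 10, 10, 8, 11], [14, 6, 8, 11, 14], [.use 826 true, .cancel 5, .use 1396 false]⟩,
  ⟨[14, 6, 8, 11, 14, 13], [6, 8, 6, 4, 10, 8, 6, 11, 8, 6, 4, 6, 4, 10, 8, 6, 4, 10, 8], [14, 6, 8, 11, 8], [.use 876 true, .cancel 6, .use 1440 false, .use 1762 false]⟩,
  ⟨[14, 6, 8, 11, 14, 9], [6, 8, 6, 4, 6, 10, 8, 6, 4, 6, 10, 8, 6, 4, 6, 13, 11, 8, 6, 4], [14, 6, 8, 11, 11], [.use 1432 false, .use 1822 false]⟩,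
  ⟨[14, 6, 8, 11, 14, 12], [6, 8, 6, 4, 10, 8, 6, 11, 8, 6, 4, 6, 4, 10, 8, 6, 4, 10, 8], [14, 6, 8, 11, 8, 13], [.use 1435 false, .use 1824 false]⟩,
  ⟨[14, 6, 8, 11, 14, 8], [6, 8, 6, 4, 6, 10, 8, 6, 4, 6, 10, 8, 6, 4, 6, 13, 11, 8, 6, 4], [14, 6, 8, 11, 11], [.use 1438 false, .use 1822 false]⟩,
  ⟨[14, 6, 8, 14, 10, 14], [8, 10, 8, 6, 4, 10, 8, 6, 4, 10, 8, 6, 4, 6, 11, 8, 6, 10, 8, 11], [14, 6, 8, 11, 14, 6], [.use 460 true, .cancel 7, .use 1834 false]⟩,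
  ⟨[14, 6, 8, 14, 11, 5], [4, 8, 11, 8, 6, 4, 6, 11, 8, 6, 4, 6, 10, 8, 6, 4, 6, 10, 10, 8, 11], [14, 6, 8, 14, 11], [.use 766 false, .use 1404 false]⟩,
  ⟨[14, 6, 8, 14, 11, 4], [4, 8, 11, 8, 6, 4, 6, 11, 8, 6, 4, 6, 10, 8, 6, 4, 6, 10, 10, 8, 11], [14, 6, 8, 14, 11], [.use 880 true, .cancel 5, .use 1404 false]⟩,
  ⟨[14, 6, 8, 14, 11, 14], [4, 10, 8, 6, 4, 6, 11, 11, 8, 6, 4, 6, 11, 8, 6, 4, 6, 10, 8, 10, 8], [14, 6, 8, 10, 14, 10], [.use 1033 false, .use 1444 false]⟩,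
  ⟨[14, 6, 10, 8, 11, 11], [4, 6, 8, 6, 4, 6, 10, 8, 6, 4, 6, 12, 11, 8, 6, 4, 6, 11, 8, 6], [14, 6, 8, 11, 14, 10], [.use 501 false, .use 1740 false]⟩,
  ⟨[14, 6, 10, 8, 11, 5], [4, 8, 11, 8, 6, 4, 6, 11, 8, 6, 4, 6, 10, 8, 6, 4, 6, 10, 10, 8, 11], [14, 6, 10, 8, 11], [.use 786 false, .use 1355 false]⟩,
  ⟨[14, 6, 10, 8, 11, 4], [4, 8, 11, 8, 6, 4, 6, 11, 8, 6, 4, 6, 10, 8, 6, 4, 6, 10, 10, 8, 11], [14, 6, 10, 8, 11], [.use 882 true, .cancel 6, .use 1355 false]⟩,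
  ⟨[14, 6, 10, 8, 12, 15], [4, 10, 8, 6, 4, 6, 11, 11, 8, 6, 4, 6, 11, 8, 6, 4, 6, 10, 8, 10, 8], [14, 6, 10, 8, 12, 14], [.use 640 false, .use 1335 false]⟩,
  ⟨[14, 6, 10, 8, 12, 4], [4, 8, 11, 8, 6, 4, 6, 11, 8, 6, 4, 6, 10, 8, 6, 4, 6, 10, 10, 8, 11], [14, 6, 10, 8, 12], [.use 1274 false, .use 1359 false]⟩,
  ⟨[14, 6, 10, 8, 12, 5], [4, 8, 11, 8, 6, 4, 6, 11, 8, 6, 4, 6, 10, 8, 6, 4, 6, 10, 10, 8, 11], [14, 6, 10, 8, 12], [.use 1275 true, .cancel 9, .use 1359 false]⟩,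
  ⟨[14, 6, 10, 8, 13, 15], [4, 10, 8, 6, 4, 6, 11, 11, 8, 6, 4, 6, 11, 8, 6, 4, 6, 10, 8, 10, 8], [14, 6, 10, 8, 13, 14], [.use 650 false, .use 1331 false]⟩,
  ⟨[14, 6, 10, 8, 13, 5], [4, 8, 11, 8, 6, 4, 6, 11, 8, 6, 4, 6, 10, 8, 6, 4, 6, 10, 10, 8, 11], [14, 6, 10, 8, 13], [.use 790 false, .use 1357 false]⟩,
  ⟨[14, 6, 10, 8, 13, 4], [4, 8, 11, 8, 6, 4, 6, 11, 8, 6, 4, 6, 10, 8, 6, 4, 6, 10, 10, 8, 11], [14, 6, 10, 8, 13], [.use 884 true, .cancel 6, .use 1357 false]⟩,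
  ⟨[14, 6, 10, 8, 14, 14], [4, 10, 8, 6, 4, 6, 11, 11, 8, 6, 4, 6, 11, 8, 6, 4, 6, 10, 8, 10, 8], [14, 6, 10, 8], [.use 792 false, .use 1192 false, .use 1323 false]⟩,
  ⟨[14, 6, 10, 8, 14, 4], [4, 8, 11, 8, 6, 4, 6, 11, 8, 6, 4, 6, 10, 8, 6, 4, 6, 10, 10, 8, 11], [14, 6, 10, 8, 14], [.use 794 true, .cancel 5, .use 1313 false]⟩,
  ⟨[14, 6, 10, 8, 14, 5], [4, 8, 11, 8, 6, 4, 6, 11, 8, 6, 4, 6, 10, 8, 6, 4, 6, 10, 10, 8, 11], [14, 6, 10, 8, 14], [.use 886 false, .use 1313 false]⟩,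
  ⟨[14, 6, 10, 10, 14, 14], [4, 10, 8, 6, 4, 6, 11, 11, 8, 6, 4, 6, 11, 8, 6, 4, 6, 10, 8, 10, 8], [14, 6, 10, 10], [.use 890 false, .use 1210 false, .use 1327 false]⟩,
  ⟨[14, 6, 10, 13, 14, 14], [4, 10, 8, 6, 4, 6, 11, 11, 8, 6, 4, 6, 11, 8, 6, 4, 6, 10, 8, 10, 8], [14, 6, 10, 13], [.use 894 false, .use 1325 false]⟩,
  ⟨[14, 6, 10, 13, 14, 4], [4, 8, 11, 8, 6, 4, 6, 11, 8, 6, 4, 6, 10, 8, 6, 4, 6, 10, 10, 8, 11], [14, 6, 10, 13, 14], [.use 898 true, .cancel 5, .use 1315 false]⟩,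
  ⟨[14, 6, 10, 13, 14, 5], [4, 8, 11, 8, 6, 4, 6, 11, 8, 6, 4, 6, 10, 8, 6, 4, 6, 10, 10, 8, 11], [14, 6, 10, 13, 14], [.use 899 true, .cancel 5, .use 1315 false]⟩,
  ⟨[14, 6, 10, 14, 6, 15], [6, 4, 8, 6, 4, 6, 10, 8, 6, 4, 13, 10, 8, 6, 10, 8, 10], [14, 6, 8, 11, 8, 10], [.use 1261 true, .cancel 9, .use 1454 false, .use 1655 false, .use 1728 false]⟩,
  ⟨[14, 6, 10, 14, 6, 14], [4, 8, 6, 4, 13, 10, 8, 6, 4, 10, 8, 6, 4, 6, 11, 8, 6, 11, 8], [14, 6, 8, 11, 8, 10], [.use 1306 false, .use 1655 false, .use 1728 false]⟩,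
  ⟨[14, 6, 10, 14, 10, 5], [4, 8, 11, 8, 6, 4, 6, 11, 8, 6, 4, 6, 10, 8, 6, 4, 6, 10, 10, 8, 11], [14, 6, 10, 14, 10], [.use 904 true, .cancel 7, .use 1319 false]⟩,
  ⟨[14, 6, 10, 14, 10, 4], [4, 8, 11, 8, 6, 4, 6, 11, 8, 6, 4, 6, 10, 8, 6, 4, 6, 10, 10, 8, 11], [14, 6, 10, 14, 10], [.use 905 false, .use 1319 false]⟩,
  ⟨[14, 6, 10, 14, 10, 15], [4, 10, 8, 6, 4, 6, 11, 11, 8, 6, 4, 6, 11, 8, 6, 4, 6, 10, 8, 10, 8], [14, 6, 14, 11], [.use 967 false, .use 1341 false]⟩,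
  ⟨[14, 6, 10, 14, 10, 13], [8, 6, 4, 6, 11, 8, 6, 4, 6, 10, 8, 6, 4, 10, 8, 6, 11, 8, 6, 4], [14, 6, 14, 11, 8], [.use 973 true, .cancel 6, .use 1993 false]⟩,
  ⟨[14, 6, 10, 14, 11, 5], [4, 8, 11, 8, 6, 4, 6, 11, 8, 6, 4, 6, 10, 8, 6, 4, 6, 10, 10, 8, 11], [14, 6, 10, 14, 11], [.use 903 false, .use 1317 false]⟩,
  ⟨[14, 6, 10, 14, 11, 4], [4, 8, 11, 8, 6, 4, 6, 11, 8, 6, 4, 6, 10, 8, 6, 4, 6, 10, 10, 8, 11], [14, 6, 10, 14, 11], [.use 906 true, .cancel 5, .use 1317 false]⟩,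
  ⟨[14, 6, 10, 14, 11, 14], [4, 10, 8, 6, 4, 6, 11, 11, 8, 6, 4, 6, 11, 8, 6, 4, 6, 10, 8, 10, 8], [14, 6, 10, 10, 14, 10], [.use 1338 false, .use 1523 false]⟩,
  ⟨[14, 6, 10, 14, 11, 13], [4, 6, 10, 8, 6, 4, 6, 4, 10, 10, 8, 6, 4, 11, 8], [14, 6, 8, 10, 14, 6], [.use 1339 false, .use 1572 false, .use 1746 false]⟩,
  ⟨[14, 6, 11, 8, 10, 6], [4, 6, 10, 8, 6, 4, 6, 13, 11, 8, 6, 4, 6, 11, 8, 6, 4, 6, 10, 8, 13], [14, 6, 11, 14], [.use 909 false, .use 1667 false]⟩,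
  ⟨[14, 6, 11, 8, 10, 7], [4, 6, 10, 8, 6, 4, 6, 13, 11, 8, 6, 4, 6, 11, 8, 6, 4, 6, 10, 8, 13], [14, 6, 11, 14], [.use 1098 true, .cancel 5, .use 1667 false]⟩,
  ⟨[14, 6, 11, 8, 12, 15], [4, 8, 6, 4, 10, 8, 6, 4, 10, 8, 6, 4, 10, 10, 8, 6, 12, 10, 8], [14, 6, 11, 8, 12, 10], [.use 619 false, .use 1726 false]⟩,
  ⟨[14, 6, 11, 8, 12, 14], [6, 8, 6, 4, 10, 8, 6, 11, 8, 6, 4, 6, 4, 10, 8, 6, 4, 10, 8, 12], [14, 6, 11, 8, 12, 10], [.use 934 false, .use 1424 false, .use 1726 false]⟩,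
  ⟨[14, 6, 11, 8, 13, 15], [4, 10, 8, 6, 4, 6, 11, 11, 8, 6, 4, 6, 11, 8, 6, 4, 6, 10, 8, 10, 8], [14, 6, 11, 8, 13, 14], [.use 627 false, .use 1420 false]⟩,
  ⟨[14, 6, 11, 8, 14, 14], [4, 10, 8, 6, 4, 6, 11, 11, 8, 6, 4, 6, 11, 8, 6, 4, 6, 10, 8, 10, 8], [14, 6, 11, 8], [.use 913 false, .use 1387 false]⟩,
  ⟨[14, 6, 11, 8, 14, 4], [4, 8, 11, 8, 6, 4, 6, 11, 8, 6, 4, 6, 10, 8, 6, 4, 6, 10, 10, 8, 11], [14, 6, 11, 8, 14], [.use 915 true, .cancel 5, .use 1416 false]⟩,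
  ⟨[14, 6, 11, 8, 14, 5], [4, 8, 11, 8, 6, 4, 6, 11, 8, 6, 4, 6, 10, 8, 6, 4, 6, 10, 10, 8, 11], [14, 6, 11, 8, 14], [.use 916 false, .use 1416 false]⟩,
  ⟨[14, 6, 11, 8, 14, 13], [6, 8, 6, 4, 10, 8, 6, 11, 8, 6, 4, 6, 4, 10, 8, 6, 4, 10, 8, 12], [14, 6, 11, 8, 12, 10], [.use 951 true, .cancel 9, .use 1424 false, .use 1726 false]⟩,
  ⟨[14, 6, 11, 11, 14, 10], [8, 6, 4, 10, 10, 8, 6, 4, 6, 11, 8, 6, 4, 11, 8, 6, 4, 11, 8], [14, 6, 11, 8, 10, 13], [.use 375 false, .use 1730 false]⟩,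
  ⟨[14, 6, 11, 11, 14, 9], [8, 6, 4, 10, 10, 8, 6, 4, 6, 11, 8, 6, 4, 11, 8, 6, 4, 11, 8, 13], [14, 6, 11, 8, 12, 10], [.use 654 false, .use 1424 false, .use 1726 false]⟩,
  ⟨[14, 6, 11, 11, 14, 14], [4, 10, 8, 6, 4, 6, 11, 11, 8, 6, 4, 6, 11, 8, 6, 4, 6, 10, 8, 10, 8], [14, 6, 11, 11], [.use 919 false, .use 1363 false]⟩,
  ⟨[14, 6, 11, 11, 14, 11], [6, 8, 6, 4, 6, 10, 8, 6, 4, 6, 10, 8, 6, 4, 6, 13, 11, 8, 6, 4], [14, 6, 11, 8, 14], [.use 921 false, .use 1720 false]⟩,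
  ⟨[14, 6, 11, 11, 14, 4], [4, 8, 11, 8, 6, 4, 6, 11, 8, 6, 4, 6, 10, 8, 6, 4, 6, 10, 10, 8, 11], [14, 6, 11, 11, 14], [.use 931 true, .cancel 5, .use 1392 false]⟩,
  ⟨[14, 6, 11, 11, 14, 5], [4, 8, 11, 8, 6, 4, 6, 11, 8, 6, 4, 6, 10, 8, 6, 4, 6, 10, 10, 8, 11], [14, 6, 11, 11, 14], [.use 932 true, .cancel 5, .use 1392 false]⟩,
  ⟨[14, 6, 11, 11, 14, 8], [8, 6, 4, 10, 10, 8, 6, 4, 6, 11, 8, 6, 4, 11, 8, 6, 4, 11, 8, 13], [14, 6, 11, 8, 12, 10], [.use 935 false, .use 1424 false, .use 1726 false]⟩,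
  ⟨[14, 6, 11, 11, 14, 6], [4, 6, 4, 10, 8, 6, 4, 10, 8, 6, 4, 10, 8, 6, 4, 10, 8, 6, 11, 11, 8], [14, 6, 11, 8, 10, 13], [.use 1304 true, .cancel 6, .use 1422 false, .use 1730 false]⟩,
  ⟨[14, 6, 11, 11, 14, 7], [4, 6, 4, 10, 8, 6, 4, 10, 8, 6, 4, 10, 8, 6, 4, 10, 8, 6, 11, 11, 8], [14, 6, 11, 8, 10, 13], [.use 1305 false, .use 1422 false, .use 1730 false]⟩,
  ⟨[14, 6, 11, 13, 14, 10], [6, 8, 6, 4, 6, 10, 8, 6, 4, 6, 10, 8, 6, 4, 6, 13, 11, 8, 6, 4], [14, 6, 11, 8, 12, 11], [.use 361 false, .use 1752 false]⟩,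
  ⟨[14, 6, 11, 13, 14, 14], [4, 10, 8, 6, 4, 6, 11, 11, 8, 6, 4, 6, 11, 8, 6, 4, 6, 10, 8, 10, 8], [14, 6, 11, 13], [.use 937 false, .use 1361 false]⟩]

/-- Equations. -/
def part36 : List CFact := [
  ⟨[14, 6, 11, 13, 14, 4], [4, 8, 11, 8, 6, 4, 6, 11, 8, 6, 4, 6, 10, 8, 6, 4, 6, 10, 10, 8, 11], [14, 6, 11, 13, 14], [.use 940 true, .cancel 5, .use 1390 false]⟩,
  ⟨[14, 6, 11, 13, 14, 5], [4, 8, 11, 8, 6, 4, 6, 11, 8, 6, 4, 6, 10, 8, 6, 4, 6, 10, 10, 8, 11], [14, 6, 11, 13, 14], [.use 941 true, .cancel 5, .use 1390 false]⟩,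
  ⟨[14, 6, 11, 14, 11, 11], [8, 6, 4, 10, 8, 6, 4, 6, 12, 11, 8, 6, 4, 11, 8, 6, 4, 11, 8], [14, 6, 11, 8, 13, 14], [.use 547 false, .use 1457 false, .use 1736 false]⟩,
  ⟨[14, 6, 11, 14, 11, 5], [4, 8, 11, 8, 6, 4, 6, 11, 8, 6, 4, 6, 10, 8, 6, 4, 6, 10, 10, 8, 11], [14, 6, 11, 14, 11], [.use 947 false, .use 1233 false, .use 1414 false]⟩,
  ⟨[14, 6, 11, 14, 11, 4], [4, 8, 11, 8, 6, 4, 6, 11, 8, 6, 4, 6, 10, 8, 6, 4, 6, 10, 10, 8, 11], [14, 6, 11, 14, 11], [.use 950 true, .cancel 5, .use 1233 false, .use 1414 false]⟩,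
  ⟨[14, 6, 11, 14, 11, 13], [6, 8, 6, 4, 10, 8, 6, 11, 8, 6, 4, 6, 4, 10, 8, 6, 4, 10, 8, 12], [14, 6, 8, 10, 8, 12], [.use 1459 false, .use 1672 false]⟩,
  ⟨[14, 6, 14, 10, 8, 7], [6, 10, 8, 6, 4, 10, 8, 6, 4, 10, 8, 6, 4, 12, 11, 8, 6], [14, 6, 10, 14, 11], [.use 614 false, .use 1957 false]⟩,
  ⟨[14, 6, 14, 10, 8, 13], [4, 8, 6, 4, 10, 8, 6, 4, 10, 8, 6, 4, 10, 10, 8, 6, 12, 10, 8], [14, 6, 8, 10, 14], [.use 958 false, .use 1634 false]⟩,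
  ⟨[14, 6, 14, 10, 8, 6], [6, 10, 8, 6, 4, 10, 8, 6, 4, 10, 8, 6, 4, 12, 11, 8, 6], [14, 6, 10, 14, 11], [.use 1124 false, .use 1957 false]⟩,
  ⟨[14, 6, 14, 10, 8, 10], [4, 6, 8, 6, 4, 11, 8, 6, 10, 8, 6, 4, 6, 11, 8, 6, 4, 6, 10, 8], [14, 6, 10, 8, 12, 14], [.use 1631 false, .use 1928 false]⟩,
  ⟨[14, 6, 14, 10, 10, 15], [4, 6, 8, 6, 4, 11, 8, 6, 10, 8, 6, 4, 6, 11, 8, 6, 4, 6, 10, 8], [14, 6, 8, 10, 8, 12], [.use 1271 false, .use 1672 false]⟩,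
  ⟨[14, 6, 14, 10, 10, 14], [8, 6, 4, 6, 11, 8, 6, 4, 6, 10, 8, 6, 4, 10, 8, 6, 11, 8, 6, 4], [14, 6, 8, 10, 8, 12], [.use 1580 false, .use 1672 false]⟩,
  ⟨[14, 6, 14, 10, 13, 8], [4, 8, 6, 4, 10, 8, 6, 4, 10, 8, 6, 4, 10, 10, 8, 6, 12, 10, 8], [14, 6, 8, 10, 14], [.use 586 true, .cancel 8, .use 1634 false]⟩,
  ⟨[14, 6, 14, 10, 13, 9], [4, 8, 6, 4, 10, 8, 6, 4, 10, 8, 6, 4, 10, 10, 8, 6, 12, 10, 8], [14, 6, 8, 10, 14], [.use 959 true, .cancel 8, .use 1634 false]⟩,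
  ⟨[14, 6, 14, 11, 8, 11], [6, 8, 6, 4, 10, 8, 6, 4, 10, 8, 6, 4, 10, 8, 6, 11, 8, 10], [14, 6, 8, 10, 14, 6], [.use 767 false, .use 1989 false]⟩,
  ⟨[14, 6, 14, 11, 11, 15], [8, 6, 4, 10, 10, 8, 6, 4, 6, 11, 8, 6, 4, 11, 8, 6, 4, 11, 8, 13], [14, 6, 14, 11, 8], [.use 598 false, .use 1993 false]⟩,
  ⟨[14, 6, 14, 11, 11, 14], [4, 6, 8, 6, 4, 11, 8, 6, 4, 11, 8, 6, 4, 10, 8, 6, 13, 10, 8], [14, 6, 14, 11, 8], [.use 777 false, .use 1345 false, .use 1993 false]⟩,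
  ⟨[14, 6, 14, 11, 13, 14], [4, 10, 8, 6, 4, 6, 11, 11, 8, 6, 4, 6, 11, 8, 6, 4, 6, 10, 8, 10, 8], [14, 6, 10, 14, 10, 12], [.use 1168 false, .use 1347 false]⟩,
  ⟨[14, 6, 8, 10, 8, 12, 12], [4, 8, 6, 4, 13, 10, 8, 6, 4, 6, 11, 8, 6, 4, 11, 8, 6, 10, 8, 6], [14, 6, 11, 14, 11], [.use 912 true, .cancel 6, .use 1649 false]⟩,
  ⟨[14, 6, 8, 10, 8, 12, 11], [0, 4, 11, 11, 8, 6, 4, 11, 8, 6, 4, 11, 8, 6, 4, 11, 8, 6, 10, 8, 6], [14, 6, 11, 8, 14, 6], [.use 1701 false, .use 1818 false]⟩,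
  ⟨[14, 6, 8, 10, 10, 14, 13], [6, 8, 6, 4, 10, 8, 6, 11, 8, 6, 4, 6, 4, 10, 8, 6, 4, 10, 8], [14, 6, 14, 10, 8], [.use 985 true, .cancel 6, .use 1446 false, .use 1632 false]⟩,
  ⟨[14, 6, 8, 10, 10, 14, 6], [4, 6, 10, 8, 6, 4, 6, 4, 12, 10, 8, 6, 4, 6, 10], [14, 6, 10, 14, 11, 12], [.use 1900 false, .use 1951 false]⟩,
  ⟨[14, 6, 8, 10, 10, 14, 7], [4, 6, 10, 8, 6, 4, 6, 4, 12, 10, 8, 6, 4, 6, 10], [14, 6, 10, 14, 11, 12], [.use 1946 true, .cancel 9, .use 1951 false]⟩,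
  ⟨[14, 6, 8, 10, 14, 6, 14], [6, 4, 11, 8, 6, 4, 6, 11, 8, 6, 4, 6, 8, 11, 8, 12], [14, 6, 10, 14, 10, 10], [.use 1495 false, .use 1795 false]⟩,
  ⟨[14, 6, 8, 10, 14, 6, 10], [11, 8, 6, 4, 11, 8, 6, 4, 6, 11, 8, 6, 4, 10, 8, 6, 10, 8], [14, 6, 14, 11, 8], [.use 1800 false, .use 1993 false]⟩,
  ⟨[14, 6, 8, 10, 14, 10, 5], [4, 8, 11, 8, 6, 4, 6, 11, 8, 6, 4, 6, 10, 8, 6, 4, 6, 10, 10, 8, 11], [14, 6, 8, 10, 14, 10], [.use 995 true, .cancel 6, .use 1444 false]⟩,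
  ⟨[14, 6, 8, 10, 14, 10, 4], [4, 8, 11, 8, 6, 4, 6, 11, 8, 6, 4, 6, 10, 8, 6, 4, 6, 10, 10, 8, 11], [14, 6, 8, 10, 14, 10], [.use 996 false, .use 1444 false]⟩,
  ⟨[14, 6, 8, 10, 14, 10, 15], [4, 10, 8, 6, 4, 6, 11, 11, 8, 6, 4, 6, 11, 8, 6, 4, 6, 10, 8, 10, 8], [14, 6, 8, 14, 11], [.use 1036 false, .use 1404 false]⟩,
  ⟨[14, 6, 8, 10, 14, 10, 10], [8, 6, 4, 10, 8, 6, 4, 6, 12, 11, 8, 6, 4, 11, 8, 6, 4, 11, 8], [14, 6, 8, 14, 11, 8], [.use 1037 false, .use 1659 false]⟩,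
  ⟨[14, 6, 8, 10, 14, 11, 5], [4, 8, 11, 8, 6, 4, 6, 11, 8, 6, 4, 6, 10, 8, 6, 4, 6, 10, 10, 8, 11], [14, 6, 8, 10, 14, 11], [.use 994 false, .use 1451 false]⟩,
  ⟨[14, 6, 8, 10, 14, 11, 4], [4, 8, 11, 8, 6, 4, 6, 11, 8, 6, 4, 6, 10, 8, 6, 4, 6, 10, 10, 8, 11], [14, 6, 8, 10, 14, 11], [.use 997 true, .cancel 6, .use 1451 false]⟩,
  ⟨[14, 6, 8, 10, 14, 11, 12], [4, 6, 10, 10, 8, 6, 4, 6, 4, 10, 8, 6, 4, 6, 10], [14, 6, 10, 14, 6, 11], [.use 1138 true, .cancel 10, .use 1657 false]⟩,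
  ⟨[14, 6, 8, 10, 14, 11, 14], [8, 6, 4, 10, 10, 8, 6, 4, 6, 11, 8, 6, 4, 11, 8, 6, 4, 11, 8], [14, 6, 10, 8, 14, 11], [.use 1496 false, .use 1713 false, .use 1966 false]⟩,
  ⟨[14, 6, 8, 10, 14, 11, 15], [4, 6, 8, 6, 4, 11, 8, 6, 4, 11, 8, 6, 4, 10, 8, 6, 10, 10, 8], [14, 6, 10, 8, 14, 11], [.use 1709 false, .use 1966 false]⟩,
  ⟨[14, 6, 8, 10, 14, 11, 7], [11, 8, 6, 4, 11, 8, 6, 4, 6, 11, 8, 6, 4, 10, 8, 6, 10, 8], [14, 6, 14, 11, 8], [.use 1714 false, .use 1993 false]⟩,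
  ⟨[14, 6, 8, 10, 14, 11, 6], [11, 8, 6, 4, 11, 8, 6, 4, 6, 11, 8, 6, 4, 10, 8, 6, 10, 8], [14, 6, 14, 11, 8], [.use 1715 false, .use 1993 false]⟩,
  ⟨[14, 6, 8, 10, 14, 11, 13], [4, 8, 6, 4, 10, 8, 6, 4, 10, 8, 6, 4, 13, 10, 8, 6, 10, 10, 8], [14, 6, 10, 8, 14, 10], [.use 1716 false, .use 1964 false]⟩,
  ⟨[14, 6, 8, 10, 14, 11, 11], [8, 6, 4, 10, 10, 8, 6, 4, 6, 11, 8, 6, 4, 11, 8, 6, 4, 11, 8], [14, 6, 10, 8, 10, 14], [.use 1911 false, .use 1943 false]⟩,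
  ⟨[14, 6, 8, 11, 8, 6, 12], [4, 8, 6, 4, 10, 8, 6, 4, 6, 11, 8, 6, 4, 11, 8, 6, 10, 8, 6], [14, 6, 8, 11, 14, 6], [.use 1007 false, .use 1832 false, .use 1834 false]⟩,
  ⟨[14, 6, 8, 11, 8, 13, 13], [4, 8, 6, 4, 10, 8, 6, 4, 6, 11, 8, 6, 4, 11, 8, 6, 10, 8, 6], [14, 6, 8, 11, 14], [.use 1005 true, .cancel 7, .use 1781 false]⟩,
  ⟨[14, 6, 8, 11, 14, 6, 14], [6, 4, 8, 6, 11, 11, 8, 6, 4, 6, 4, 10, 8, 6, 4, 6, 11, 8, 6, 11], [14, 6, 8, 14, 10], [.use 1481 false, .use 1977 false]⟩,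
  ⟨[14, 6, 8, 11, 14, 10, 14], [8, 6, 4, 10, 10, 8, 6, 4, 10, 8, 6, 4, 12, 10, 8, 6, 4, 10, 8], [14, 6, 8, 11, 8, 11], [.use 738 false, .use 1826 false]⟩,
  ⟨[14, 6, 8, 11, 14, 10, 10], [6, 8, 6, 4, 6, 10, 8, 6, 4, 6, 10, 8, 6, 4, 6, 13, 11, 8, 6, 4], [14, 6, 10, 8, 11], [.use 764 false, .use 1478 false, .use 1768 false]⟩,
  ⟨[14, 6, 8, 11, 14, 10, 15], [4, 6, 8, 6, 4, 6, 10, 8, 6, 4, 6, 12, 11, 8, 6, 4, 6, 11, 8, 6], [14, 6, 8, 11, 8, 11], [.use 776 false, .use 1480 false, .use 1826 false]⟩,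
  ⟨[14, 6, 8, 11, 14, 10, 5], [4, 8, 11, 8, 6, 4, 6, 11, 8, 6, 4, 6, 10, 8, 6, 4, 6, 10, 10, 8, 11], [14, 6, 8, 11, 14, 10], [.use 1021 true, .cancel 6, .use 1431 false]⟩,
  ⟨[14, 6, 8, 11, 14, 10, 4], [4, 8, 11, 8, 6, 4, 6, 11, 8, 6, 4, 6, 10, 8, 6, 4, 6, 10, 10, 8, 11], [14, 6, 8, 11, 14, 10], [.use 1022 false, .use 1431 false]⟩,
  ⟨[14, 6, 8, 11, 14, 10, 13], [6, 8, 6, 4, 6, 10, 8, 6, 4, 6, 10, 8, 6, 4, 6, 13, 11, 8, 6, 4], [14, 6, 10, 8, 13, 11], [.use 1145 true, .cancel 9, .use 1785 false]⟩,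
  ⟨[14, 6, 8, 14, 10, 8, 13], [6, 8, 6, 4, 13, 10, 8, 6, 4, 10, 8, 6, 4, 10, 8, 6, 11, 8, 10], [14, 6, 8, 10, 14, 6, 11], [.use 1027 false, .use 1987 false]⟩,
  ⟨[14, 6, 8, 14, 10, 10, 15], [4, 10, 8, 6, 4, 11, 8, 6, 4, 6, 11, 8, 6, 4, 13, 11, 8, 6], [14, 6, 8, 11, 8, 6], [.use 2012 false, .use 2014 false]⟩,
  ⟨[14, 6, 8, 14, 10, 13, 8], [6, 8, 6, 4, 13, 10, 8, 6, 4, 10, 8, 6, 4, 10, 8, 6, 11, 8, 10], [14, 6, 8, 10, 14, 6, 11], [.use 769 true, .cancel 7, .use 1987 false]⟩,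
  ⟨[14, 6, 8, 14, 10, 13, 9], [6, 8, 6, 4, 13, 10, 8, 6, 4, 10, 8, 6, 4, 10, 8, 6, 11, 8, 10], [14, 6, 8, 10, 14, 6, 11], [.use 1028 true, .cancel 7, .use 1987 false]⟩,
  ⟨[14, 6, 8, 14, 11, 8, 10], [], [14, 6, 10, 8, 11, 14], [.use 583 false, .use 2024 false]⟩,
  ⟨[14, 6, 8, 14, 11, 8, 11], [4, 6, 8, 6, 4, 11, 8, 6, 4, 11, 8, 6, 4, 10, 8, 6, 13, 10, 8], [14, 6, 8, 10, 14, 10], [.use 584 false, .use 1645 false]⟩,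
  ⟨[14, 6, 8, 14, 11, 8, 15], [], [14, 6, 10, 8, 14, 10], [.use 1682 false, .use 2028 false]⟩,
  ⟨[14, 6, 8, 14, 11, 8, 14], [4, 10, 8, 6, 4, 6, 11, 11, 8, 6, 4, 6, 11, 8, 6, 4, 6, 10, 8, 10, 8], [14, 6, 10, 8, 14, 10], [.use 1685 false, .use 2017 false]⟩,
  ⟨[14, 6, 8, 14, 11, 11, 15], [13], [14, 6, 8, 10, 14, 10, 13], [.use 594 false, .use 1042 false]⟩,
  ⟨[14, 6, 8, 14, 11, 11, 14], [10, 8, 6, 4, 6, 4, 13, 10, 8, 6, 4, 6, 10, 8, 6, 4, 6, 10, 10, 8, 11], [14, 6, 8, 10, 14, 10, 13], [.use 610 false, .use 1488 false]⟩,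
  ⟨[14, 6, 8, 14, 11, 13, 14], [4, 10, 8, 6, 4, 6, 11, 11, 8, 6, 4, 6, 11, 8, 6, 4, 6, 10, 8, 10, 8], [14, 6, 8, 10, 14, 10, 12], [.use 644 false, .use 1490 false]⟩,
  ⟨[14, 6, 10, 8, 10, 10, 10], [4, 6, 4, 6, 10, 8, 6, 4, 11, 11, 8, 6, 4, 10, 8, 6, 10, 8, 11, 12], [14, 6, 8, 11, 14, 6], [.use 783 false, .use 1832 false, .use 1834 false]⟩,
  ⟨[14, 6, 10, 8, 10, 10, 6], [4, 6, 4, 6, 10, 8, 6, 4, 11, 11, 8, 6, 4, 10, 8, 6, 10, 8, 11, 12], [14, 6, 8, 11, 14, 10], [.use 1047 false, .use 1740 false]⟩,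
  ⟨[14, 6, 10, 8, 10, 10, 7], [4, 6, 4, 6, 10, 8, 6, 4, 11, 11, 8, 6, 4, 10, 8, 6, 10, 8, 11, 12], [14, 6, 8, 11, 14, 10], [.use 1141 true, .cancel 6, .use 1740 false]⟩,
  ⟨[14, 6, 10, 8, 11, 12, 14], [6, 8, 11, 8, 6, 4, 6, 10, 8, 6, 4, 6, 10, 8, 6, 4, 6, 13], [14, 6, 10, 13, 14, 6], [.use 2070 false, .use 2074 false]⟩,
  ⟨[14, 6, 10, 8, 11, 12, 15], [6, 4, 8, 6, 4, 6, 8, 10, 8, 6, 4, 6, 10, 8, 6, 4, 6, 11, 8, 13], [14, 6, 10, 13, 14, 6], [.use 2071 true, .cancel 8, .use 2074 false]⟩,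
  ⟨[14, 6, 10, 8, 11, 14, 14], [4, 10, 8, 6, 4, 6, 11, 11, 8, 6, 4, 6, 11, 8, 6, 4, 6, 10, 8, 10, 8], [14, 6, 10, 8, 11], [.use 1054 false, .use 1355 false]⟩]

/-- Equations. -/
def part37 : List CFact := [
  ⟨[14, 6, 10, 8, 11, 14, 11], [], [14, 6, 8, 14, 11, 8], [.use 1056 false, .use 2022 false]⟩,
  ⟨[14, 6, 10, 8, 11, 14, 10], [4, 8, 6, 4, 10, 8, 6, 4, 10, 8, 6, 4, 10, 10, 8, 6, 12, 10, 8], [14, 6, 10, 8, 13, 14], [.use 1057 false, .use 1790 false, .use 1895 false]⟩,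
  ⟨[14, 6, 10, 8, 12, 11, 13], [4, 6, 4, 6, 10, 8, 6, 4, 11, 11, 8, 6, 4, 10, 8, 6, 10, 8, 11, 12], [14, 6, 8, 11, 14, 6], [.use 1060 false, .use 1832 false, .use 1834 false]⟩,
  ⟨[14, 6, 10, 8, 12, 14, 7], [6, 4, 8, 6, 4, 6, 11, 8, 6, 4, 6, 10, 8, 6, 4, 6, 10, 8, 10, 12], [14, 6, 10, 14, 11, 11], [.use 630 true, .cancel 8, .use 1850 false]⟩,
  ⟨[14, 6, 10, 8, 12, 14, 5], [4, 8, 11, 8, 6, 4, 6, 11, 8, 6, 4, 6, 10, 8, 6, 4, 6, 10, 10, 8, 11], [14, 6, 10, 8, 12, 14], [.use 1071 false, .use 1335 false]⟩,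
  ⟨[14, 6, 10, 8, 12, 14, 4], [4, 8, 11, 8, 6, 4, 6, 11, 8, 6, 4, 6, 10, 8, 6, 4, 6, 10, 10, 8, 11], [14, 6, 10, 8, 12, 14], [.use 1072 true, .cancel 6, .use 1335 false]⟩,
  ⟨[14, 6, 10, 8, 12, 14, 6], [6, 4, 8, 6, 4, 6, 11, 8, 6, 4, 6, 10, 8, 6, 4, 6, 10, 8, 10, 12], [14, 6, 10, 14, 11, 11], [.use 1076 true, .cancel 8, .use 1850 false]⟩,
  ⟨[14, 6, 10, 8, 12, 14, 14], [4, 10, 8, 6, 4, 6, 11, 11, 8, 6, 4, 6, 11, 8, 6, 4, 6, 10, 8, 10, 8], [14, 6, 10, 8, 12], [.use 1276 true, .cancel 9, .use 1359 false]⟩,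
  ⟨[14, 6, 10, 8, 13, 11, 12], [4, 6, 8, 6, 4, 6, 10, 8, 6, 4, 6, 12, 11, 8, 6, 4, 6, 11, 8, 6], [14, 6, 8, 11, 14, 10], [.use 885 true, .cancel 6, .use 1740 false]⟩,
  ⟨[14, 6, 10, 8, 13, 11, 14], [6, 8, 6, 4, 10, 8, 6, 11, 8, 6, 4, 6, 4, 10, 8, 6, 4, 10, 8, 12], [14, 6, 10, 8, 10, 10], [.use 1835 false, .use 1872 false]⟩,
  ⟨[14, 6, 10, 8, 13, 11, 15], [4, 8, 6, 4, 10, 8, 6, 4, 10, 8, 6, 4, 10, 10, 8, 6, 12, 10, 8], [14, 6, 10, 8, 10, 10], [.use 1902 false, .use 2029 false]⟩,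
  ⟨[14, 6, 10, 8, 13, 14, 7], [6, 4, 8, 6, 4, 6, 11, 8, 6, 4, 6, 10, 8, 6, 4, 6, 10, 8, 10], [14, 6, 10, 10, 14, 11], [.use 622 true, .cancel 8, .use 1816 false]⟩,
  ⟨[14, 6, 10, 8, 13, 14, 14], [4, 10, 8, 6, 4, 6, 11, 11, 8, 6, 4, 6, 11, 8, 6, 4, 6, 10, 8, 10, 8], [14, 6, 10, 8, 13], [.use 1063 false, .use 1357 false]⟩,
  ⟨[14, 6, 10, 8, 13, 14, 4], [4, 8, 11, 8, 6, 4, 6, 11, 8, 6, 4, 6, 10, 8, 6, 4, 6, 10, 10, 8, 11], [14, 6, 10, 8, 13, 14], [.use 1065 true, .cancel 6, .use 1331 false]⟩,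
  ⟨[14, 6, 10, 8, 13, 14, 5], [4, 8, 11, 8, 6, 4, 6, 11, 8, 6, 4, 6, 10, 8, 6, 4, 6, 10, 10, 8, 11], [14, 6, 10, 8, 13, 14], [.use 1066 false, .use 1331 false]⟩,
  ⟨[14, 6, 10, 8, 13, 14, 6], [6, 4, 8, 6, 4, 6, 11, 8, 6, 4, 6, 10, 8, 6, 4, 6, 10, 8, 10], [14, 6, 10, 10, 14, 11], [.use 1075 false, .use 1816 false]⟩,
  ⟨[14, 6, 10, 8, 13, 14, 10], [4, 8, 6, 4, 10, 8, 6, 4, 10, 8, 6, 4, 10, 10, 8, 6, 12, 10, 8], [14, 6, 10, 8, 10, 14], [.use 1368 false, .use 1943 false]⟩,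
  ⟨[14, 6, 10, 8, 14, 6, 15], [11, 11, 8, 6, 4, 6, 10, 8, 6, 4, 6, 10, 8, 6, 4, 6, 10, 10, 8, 11], [14, 6, 11, 8, 14, 6], [.use 430 true, .cancel 6, .use 1461 false]⟩,
  ⟨[14, 6, 10, 8, 14, 6, 13], [6, 4, 8, 6, 4, 6, 11, 8, 6, 4, 6, 10, 8, 6, 4, 6, 10, 8, 10, 12], [14, 6, 10, 14, 11, 11], [.use 1073 true, .cancel 8, .use 1850 false]⟩,
  ⟨[14, 6, 10, 8, 14, 6, 12], [6, 4, 8, 6, 4, 6, 11, 8, 6, 4, 6, 10, 8, 6, 4, 6, 10, 8, 10], [14, 6, 10, 10, 14, 11], [.use 1074 false, .use 1816 false]⟩,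
  ⟨[14, 6, 10, 8, 14, 6, 8], [6, 11, 8, 6, 4, 10, 8, 6, 4, 6, 11, 8, 6, 4, 10, 8, 6, 12], [14, 6, 10, 8, 10, 13, 14], [.use 1629 false, .use 1932 false]⟩,
  ⟨[14, 6, 10, 8, 14, 6, 9], [6, 11, 8, 6, 4, 10, 8, 6, 4, 6, 11, 8, 6, 4, 10, 8, 6, 12], [14, 6, 10, 8, 10, 13, 14], [.use 1630 true, .cancel 8, .use 1932 false]⟩,
  ⟨[14, 6, 10, 8, 14, 10, 14], [], [14, 6, 8, 14, 11, 8], [.use 805 true, .cancel 8, .use 2022 false]⟩,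
  ⟨[14, 6, 10, 8, 14, 11, 5], [4, 8, 11, 8, 6, 4, 6, 11, 8, 6, 4, 6, 10, 8, 6, 4, 6, 10, 10, 8, 11], [14, 6, 10, 8, 14, 11], [.use 1069 false, .use 1333 false]⟩,
  ⟨[14, 6, 10, 8, 14, 11, 4], [4, 8, 11, 8, 6, 4, 6, 11, 8, 6, 4, 6, 10, 8, 6, 4, 6, 10, 10, 8, 11], [14, 6, 10, 8, 14, 11], [.use 1070 true, .cancel 6, .use 1333 false]⟩,
  ⟨[14, 6, 10, 8, 14, 11, 14], [8, 6, 4, 10, 10, 8, 6, 4, 6, 11, 8, 6, 4, 11, 8, 6, 4, 11, 8], [14, 6, 8, 10, 14, 11], [.use 1369 false, .use 1972 false]⟩,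
  ⟨[14, 6, 10, 8, 14, 11, 6], [6, 4, 8, 11, 8, 6, 4, 11, 8, 6, 4, 10, 8, 10, 10], [14, 6, 8, 10, 14, 6, 8], [.use 1974 false, .use 2091 false]⟩,
  ⟨[14, 6, 10, 8, 14, 11, 7], [6, 4, 8, 11, 8, 6, 4, 11, 8, 6, 4, 10, 8, 10, 10], [14, 6, 8, 10, 14, 6, 8], [.use 1975 false, .use 2091 false]⟩,
  ⟨[14, 6, 10, 10, 14, 10, 10], [4, 6, 8, 11, 8, 6, 4, 6, 4, 11, 8, 6, 4, 12, 11, 8], [14, 6, 8, 10, 14, 6, 11], [.use 570 false, .use 1526 false, .use 1793 false]⟩,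
  ⟨[14, 6, 10, 10, 14, 10, 13], [6, 11, 8, 6, 4, 6, 11, 8, 6, 10, 8, 6], [14, 6, 8, 10, 14, 6, 8], [.use 1097 true, .cancel 10, .use 2091 false]⟩,
  ⟨[14, 6, 10, 10, 14, 11, 15], [8, 6, 4, 10, 8, 6, 4, 6, 12, 11, 8, 6, 4, 11, 8, 6, 4, 11, 8], [14, 6, 11, 8, 12, 11], [.use 943 false, .use 1752 false]⟩,
  ⟨[14, 6, 10, 10, 14, 11, 14], [4, 6, 8, 6, 4, 12, 11, 8, 6, 4, 11, 8, 6, 4, 10, 8, 6, 10, 10, 8], [14, 6, 11, 8, 12, 11], [.use 1157 false, .use 1418 false, .use 1752 false]⟩,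
  ⟨[14, 6, 10, 10, 14, 11, 9], [], [14, 6, 8, 10, 10, 14, 11], [.use 1593 false, .use 2061 false]⟩,
  ⟨[14, 6, 10, 10, 14, 11, 11], [6, 8, 6, 4, 10, 8, 6, 11, 8, 6, 4, 6, 4, 10, 8, 6, 4, 10, 8, 12], [14, 6, 14, 11, 8, 10], [.use 1594 false, .use 1996 false]⟩,
  ⟨[14, 6, 10, 10, 14, 11, 8], [], [14, 6, 8, 10, 10, 14, 11], [.use 1595 false, .use 2061 false]⟩,
  ⟨[14, 6, 10, 10, 14, 11, 6], [11, 8, 6, 4, 6, 4, 11, 8, 6, 4, 6, 11, 8, 6, 4, 6, 10, 8, 6], [14, 6, 10, 8, 13, 14], [.use 1596 false, .use 1847 false]⟩,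
  ⟨[14, 6, 10, 10, 14, 11, 7], [11, 8, 6, 4, 6, 4, 11, 8, 6, 4, 6, 11, 8, 6, 4, 6, 10, 8, 6], [14, 6, 10, 8, 13, 14], [.use 1599 false, .use 1847 false]⟩,
  ⟨[14, 6, 10, 13, 14, 10, 12], [4, 6, 10, 8, 6, 4, 6, 4, 10, 10, 8, 6, 4, 11, 8], [14, 6, 8, 10, 14, 6, 11], [.use 1079 false, .use 1526 false, .use 1793 false]⟩,
  ⟨[14, 6, 10, 13, 14, 10, 5], [4, 8, 11, 8, 6, 4, 6, 11, 8, 6, 4, 6, 10, 8, 6, 4, 6, 10, 10, 8, 11], [14, 6, 10, 13, 14, 10], [.use 1082 true, .cancel 6, .use 1337 false]⟩,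
  ⟨[14, 6, 10, 13, 14, 10, 4], [4, 8, 11, 8, 6, 4, 6, 11, 8, 6, 4, 6, 10, 8, 6, 4, 6, 10, 10, 8, 11], [14, 6, 10, 13, 14, 10], [.use 1083 false, .use 1337 false]⟩,
  ⟨[14, 6, 10, 13, 14, 11, 15], [8, 6, 4, 10, 8, 6, 4, 6, 12, 11, 8, 6, 4, 11, 8, 6, 4, 11, 8], [14, 6, 11, 8, 10, 13], [.use 900 false, .use 1730 false]⟩,
  ⟨[14, 6, 10, 13, 14, 11, 14], [4, 6, 8, 6, 4, 12, 11, 8, 6, 4, 11, 8, 6, 4, 10, 8, 6, 10, 10, 8], [14, 6, 11, 8, 10, 13], [.use 1160 false, .use 1422 false, .use 1730 false]⟩,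
  ⟨[14, 6, 10, 13, 14, 11, 12], [8, 6, 4, 6, 11, 8, 6, 4, 6, 10, 8, 6, 4, 10, 8, 6, 11, 8, 6, 4], [14, 6, 14, 11, 8, 10], [.use 1605 false, .use 1996 false]⟩,
  ⟨[14, 6, 10, 13, 14, 11, 6], [6, 4, 6, 4, 11, 8, 6, 4, 6, 11, 8, 6, 4, 13, 10], [14, 6, 8, 10, 10, 14, 11], [.use 1923 false, .use 2061 false]⟩,
  ⟨[14, 6, 10, 13, 14, 11, 7], [6, 4, 6, 4, 11, 8, 6, 4, 6, 11, 8, 6, 4, 13, 10], [14, 6, 8, 10, 10, 14, 11], [.use 1925 false, .use 2061 false]⟩,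
  ⟨[14, 6, 10, 14, 6, 8, 15], [6, 4, 8, 6, 4, 6, 10, 8, 6, 4, 13, 10, 8, 6, 10, 8, 10], [14, 6, 11, 8, 10], [.use 552 false, .use 1231 false, .use 1693 false]⟩,
  ⟨[14, 6, 10, 14, 6, 8, 10], [6, 4, 8, 6, 4, 6, 10, 8, 6, 4, 13, 10, 8, 6, 10, 8, 10], [14, 6, 8, 14, 10, 8], [.use 1252 true, .cancel 9, .use 1979 false]⟩,
  ⟨[14, 6, 10, 14, 6, 8, 14], [4, 8, 6, 4, 13, 10, 8, 6, 4, 10, 8, 6, 4, 6, 11, 8, 6, 11, 8], [14, 6, 11, 8, 10], [.use 1260 false, .use 1412 false, .use 1693 false]⟩,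
  ⟨[14, 6, 10, 14, 6, 8, 13], [6, 4, 6, 8, 6, 4, 6, 12, 11, 8, 6, 4, 6, 8, 11, 8, 6, 11], [14, 6, 14, 11, 8, 10], [.use 1607 true, .cancel 7, .use 1996 false]⟩,
  ⟨[14, 6, 10, 14, 6, 8, 6], [6, 11, 8, 6, 4, 10, 8, 6, 4, 6, 11, 8, 6, 4, 10, 8, 6, 12], [14, 6, 10, 8, 10, 13, 14], [.use 1615 false, .use 1932 false]⟩,
  ⟨[14, 6, 10, 14, 6, 8, 7], [6, 11, 8, 6, 4, 10, 8, 6, 4, 6, 11, 8, 6, 4, 10, 8, 6, 12], [14, 6, 10, 8, 10, 13, 14], [.use 1628 true, .cancel 8, .use 1932 false]⟩,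
  ⟨[14, 6, 10, 14, 6, 11, 11], [6, 4, 6, 8, 6, 4, 6, 12, 11, 8, 6, 4, 6, 8, 11, 8, 6, 11], [14, 6, 8, 14, 11, 8, 12], [.use 1087 true, .cancel 7, .use 1914 false]⟩,
  ⟨[14, 6, 10, 14, 6, 11, 12], [4, 11, 8, 6, 4, 12, 11, 8, 6, 4, 10, 8, 6, 4, 11, 8, 6, 10, 8, 12], [14, 6, 10, 8, 14, 10], [.use 1093 true, .cancel 7, .use 1964 false]⟩,
  ⟨[14, 6, 10, 14, 6, 11, 13], [4, 6, 10, 8, 6, 4, 6, 4, 10, 10, 8, 6, 4, 11, 8], [14, 6, 8, 10, 14, 11], [.use 1604 true, .cancel 10, .use 1681 false]⟩,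
  ⟨[14, 6, 10, 14, 6, 11, 15], [6, 4, 6, 10, 8, 6, 4, 6, 11, 8, 6, 4, 6, 10, 8, 6, 13, 11], [14, 6, 8, 14, 11, 8, 12], [.use 1616 false, .use 1914 false]⟩,
  ⟨[14, 6, 10, 14, 6, 11, 14], [4, 11, 8, 6, 4, 12, 11, 8, 6, 4, 10, 8, 6, 4, 11, 8, 6, 10, 8, 12], [14, 6, 8, 14, 11, 8, 12], [.use 1617 false, .use 1914 false]⟩,
  ⟨[14, 6, 10, 14, 10, 10, 6], [6, 4, 6, 8, 6, 4, 6, 12, 11, 8, 6, 4, 6, 8, 11, 8, 6, 11], [14, 6, 8, 14, 11, 8, 12], [.use 631 false, .use 1914 false]⟩,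
  ⟨[14, 6, 10, 14, 10, 10, 15], [4, 8, 6, 13, 11, 8, 6, 4, 6, 4, 8, 6, 10, 8, 6, 11], [14, 6, 8, 10, 14, 6], [.use 970 false, .use 1746 false]⟩,
  ⟨[14, 6, 10, 14, 10, 10, 5], [4, 8, 11, 8, 6, 4, 6, 11, 8, 6, 4, 6, 10, 8, 6, 4, 6, 10, 10, 8, 11], [14, 6, 10, 14, 10, 10], [.use 1085 true, .cancel 8, .use 1343 false]⟩,
  ⟨[14, 6, 10, 14, 10, 10, 4], [4, 8, 11, 8, 6, 4, 6, 11, 8, 6, 4, 6, 10, 8, 6, 4, 6, 10, 10, 8, 11], [14, 6, 10, 14, 10, 10], [.use 1086 false, .use 1343 false]⟩,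
  ⟨[14, 6, 10, 14, 10, 10, 12], [6, 13, 11, 8, 6, 4, 6, 11, 8, 6, 10, 8, 6], [14, 6, 8, 10, 14, 6, 8], [.use 1155 false, .use 2091 false]⟩,
  ⟨[14, 6, 10, 14, 10, 10, 7], [6, 4, 6, 8, 6, 4, 6, 12, 11, 8, 6, 4, 6, 8, 11, 8, 6, 11], [14, 6, 8, 14, 11, 8, 12], [.use 1163 true, .cancel 7, .use 1914 false]⟩,
  ⟨[14, 6, 10, 14, 10, 10, 14], [4, 6, 4, 10, 8, 6, 4, 13, 10, 8, 6, 4, 6, 8, 11, 8], [14, 6, 8, 10, 14, 6], [.use 1370 false, .use 1572 false, .use 1746 false]⟩,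
  ⟨[14, 6, 10, 14, 10, 10, 9], [4, 8, 6, 4, 10, 8, 6, 4, 10, 8, 6, 4, 13, 10, 8, 6, 10, 10, 8], [14, 6, 10, 14, 11, 12], [.use 1845 false, .use 1951 false]⟩]

/-- Equations. -/
def part38 : List CFact := [
  ⟨[14, 6, 10, 14, 10, 10, 8], [4, 8, 6, 4, 10, 8, 6, 4, 10, 8, 6, 4, 13, 10, 8, 6, 10, 10, 8], [14, 6, 10, 14, 11, 12], [.use 1947 false, .use 1951 false]⟩,
  ⟨[14, 6, 10, 14, 10, 12, 6], [4, 11, 8, 6, 4, 12, 11, 8, 6, 4, 10, 8, 6, 4, 11, 8, 6, 10, 8, 12], [14, 6, 10, 8, 14, 10], [.use 431 false, .use 1964 false]⟩,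
  ⟨[14, 6, 10, 14, 10, 12, 12], [8, 6, 4, 6, 11, 8, 6, 4, 6, 10, 8, 6, 4, 10, 8, 6, 11, 8, 6, 4], [14, 6, 14, 11, 8], [.use 1088 false, .use 1993 false]⟩,
  ⟨[14, 6, 10, 14, 10, 12, 7], [4, 11, 8, 6, 4, 12, 11, 8, 6, 4, 10, 8, 6, 4, 11, 8, 6, 10, 8, 12], [14, 6, 10, 8, 14, 10], [.use 1094 false, .use 1964 false]⟩,
  ⟨[14, 6, 10, 14, 10, 12, 5], [4, 8, 11, 8, 6, 4, 6, 11, 8, 6, 4, 6, 10, 8, 6, 4, 6, 10, 10, 8, 11], [14, 6, 10, 14, 10, 12], [.use 1158 true, .cancel 10, .use 1347 false]⟩,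
  ⟨[14, 6, 10, 14, 10, 12, 4], [4, 8, 11, 8, 6, 4, 6, 11, 8, 6, 4, 6, 10, 8, 6, 4, 6, 10, 10, 8, 11], [14, 6, 10, 14, 10, 12], [.use 1159 false, .use 1347 false]⟩,
  ⟨[14, 6, 10, 14, 10, 12, 9], [8, 6, 4, 6, 11, 8, 6, 4, 6, 10, 8, 6, 4, 10, 8, 6, 11, 8, 6, 4], [14, 6, 14, 11, 13], [.use 1375 false, .use 1676 false]⟩,
  ⟨[14, 6, 10, 14, 10, 12, 8], [8, 6, 4, 6, 11, 8, 6, 4, 6, 10, 8, 6, 4, 10, 8, 6, 11, 8, 6, 4], [14, 6, 14, 11, 13], [.use 1376 false, .use 1676 false]⟩,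
  ⟨[14, 6, 10, 14, 11, 11, 11], [8, 6, 4, 10, 8, 6, 4, 6, 12, 11, 8, 6, 4, 11, 8, 6, 4, 11, 8], [14, 6, 8, 14, 10, 8], [.use 1610 false, .use 1979 false]⟩,
  ⟨[14, 6, 10, 14, 11, 12, 15], [6, 11, 8, 6, 4, 6, 11, 8, 6, 10, 8, 6], [14, 6, 8, 10, 14, 6, 8], [.use 928 false, .use 2091 false]⟩,
  ⟨[14, 6, 10, 14, 11, 12, 14], [4, 8, 11, 8, 6, 10, 8, 6, 4, 6, 4, 10, 8, 6, 10], [14, 6, 8, 10, 14, 6, 8], [.use 1568 false, .use 2091 false]⟩,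
  ⟨[14, 6, 10, 14, 11, 12, 12], [4, 6, 10, 8, 6, 4, 6, 4, 10, 10, 8, 6, 4, 11, 8], [14, 6, 8, 10, 14, 6], [.use 1570 false, .use 1746 false]⟩,
  ⟨[14, 6, 11, 8, 10, 10, 6], [4, 6, 10, 8, 6, 4, 6, 13, 11, 8, 6, 4, 6, 11, 8, 6, 4, 6, 10, 8, 13], [14, 6, 11, 14, 11], [.use 979 true, .cancel 6, .use 1649 false]⟩,
  ⟨[14, 6, 11, 8, 10, 10, 7], [4, 6, 10, 8, 6, 4, 6, 13, 11, 8, 6, 4, 6, 11, 8, 6, 4, 6, 10, 8, 13], [14, 6, 11, 14, 11], [.use 980 false, .use 1649 false]⟩,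
  ⟨[14, 6, 11, 8, 10, 13, 11], [4, 6, 8, 6, 4, 11, 8, 6, 4, 11, 8, 6, 4, 10, 8, 6, 10, 10, 8], [14, 6, 11, 11, 14], [.use 1051 true, .cancel 7, .use 1695 false]⟩,
  ⟨[14, 6, 11, 8, 10, 13, 6], [4, 6, 8, 10, 8, 6, 4, 6, 11, 8, 6, 4, 6, 11, 8, 6, 4, 6, 10, 8, 11], [14, 6, 11, 11, 14], [.use 1148 false, .use 1695 false]⟩,
  ⟨[14, 6, 11, 8, 10, 13, 7], [4, 6, 8, 10, 8, 6, 4, 6, 11, 8, 6, 4, 6, 11, 8, 6, 4, 6, 10, 8, 11], [14, 6, 11, 11, 14], [.use 1149 true, .cancel 7, .use 1695 false]⟩,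
  ⟨[14, 6, 11, 8, 10, 13, 10], [4, 11, 8, 6, 4, 6, 11, 8, 6, 4, 11, 8, 6, 10, 8, 6, 4, 6, 10, 8, 13], [14, 6, 11, 8, 14, 6], [.use 1773 false, .use 1818 false]⟩,
  ⟨[14, 6, 11, 8, 12, 10, 15], [4, 8, 6, 4, 13, 10, 8, 6, 4, 6, 11, 8, 6, 4, 11, 8, 6, 10, 8, 6], [14, 6, 11, 8, 12], [.use 705 false, .use 1760 false]⟩,
  ⟨[14, 6, 11, 8, 12, 10, 8], [4, 6, 8, 6, 4, 12, 11, 8, 6, 4, 11, 8, 6, 4, 10, 8, 6, 10, 10, 8], [14, 6, 11, 11, 14], [.use 846 true, .cancel 7, .use 1695 false]⟩,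
  ⟨[14, 6, 11, 8, 12, 10, 9], [4, 6, 8, 6, 4, 12, 11, 8, 6, 4, 11, 8, 6, 4, 10, 8, 6, 10, 10, 8], [14, 6, 11, 11, 14], [.use 1104 true, .cancel 7, .use 1695 false]⟩,
  ⟨[14, 6, 11, 8, 12, 10, 12], [4, 8, 6, 4, 13, 10, 8, 6, 4, 6, 11, 8, 6, 4, 11, 8, 6, 10, 8, 6], [14, 6, 11, 8, 14], [.use 1105 false, .use 1691 false]⟩,
  ⟨[14, 6, 11, 8, 12, 11, 12], [4, 11, 8, 6, 4, 6, 11, 8, 6, 4, 11, 8, 6, 10, 8, 6, 4, 6, 10, 8, 13], [14, 6, 11, 8, 14, 6], [.use 1811 false, .use 1818 false]⟩,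
  ⟨[14, 6, 11, 8, 13, 10, 10], [4, 8, 6, 4, 13, 10, 8, 6, 4, 6, 11, 8, 6, 4, 11, 8, 6, 10, 8, 6], [14, 6, 11, 8, 14], [.use 536 true, .cancel 6, .use 1691 false]⟩,
  ⟨[14, 6, 11, 8, 13, 10, 8], [0, 4, 6, 4, 11, 11, 8, 6, 4, 11, 8, 6, 4, 11, 11, 8, 6, 11, 8, 10, 13], [14, 6, 8, 11, 14, 6], [.use 832 true, .cancel 7, .use 1832 false, .use 1834 false]⟩,
  ⟨[14, 6, 11, 8, 13, 10, 9], [0, 4, 6, 4, 11, 11, 8, 6, 4, 11, 8, 6, 4, 11, 11, 8, 6, 11, 8, 10, 13], [14, 6, 8, 11, 14, 6], [.use 983 true, .cancel 7, .use 1832 false, .use 1834 false]⟩,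
  ⟨[14, 6, 11, 8, 13, 10, 14], [8, 6, 4, 10, 8, 6, 4, 11, 13, 11, 8, 6, 4, 10, 8, 6, 4, 10, 8], [14, 6, 8, 14, 10, 8], [.use 1779 false, .use 1808 false, .use 1979 false]⟩,
  ⟨[14, 6, 11, 8, 13, 10, 15], [4, 8, 6, 4, 13, 10, 8, 6, 4, 6, 11, 8, 6, 4, 11, 8, 6, 10, 8, 6], [14, 6, 8, 14, 10, 8], [.use 1804 false, .use 1979 false]⟩,
  ⟨[14, 6, 11, 8, 13, 14, 7], [6, 8, 6, 4, 6, 10, 8, 6, 4, 11, 8, 6, 4, 12, 11, 8, 6, 4, 10, 8, 10], [14, 6, 10, 8, 10, 8], [.use 643 true, .cancel 8, .use 1467 false, .use 1820 false]⟩,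
  ⟨[14, 6, 11, 8, 13, 14, 12], [6, 8, 6, 4, 10, 8, 6, 11, 8, 6, 4, 6, 4, 10, 8, 6, 4, 10, 8, 12], [14, 6, 11, 8, 12, 10], [.use 1106 false, .use 1424 false, .use 1726 false]⟩,
  ⟨[14, 6, 11, 8, 13, 14, 5], [4, 8, 11, 8, 6, 4, 6, 11, 8, 6, 4, 6, 10, 8, 6, 4, 6, 10, 10, 8, 11], [14, 6, 11, 8, 13, 14], [.use 1111 true, .cancel 6, .use 1420 false]⟩,
  ⟨[14, 6, 11, 8, 13, 14, 4], [4, 8, 11, 8, 6, 4, 6, 11, 8, 6, 4, 6, 10, 8, 6, 4, 6, 10, 10, 8, 11], [14, 6, 11, 8, 13, 14], [.use 1112 false, .use 1420 false]⟩,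
  ⟨[14, 6, 11, 8, 13, 14, 6], [6, 8, 6, 4, 6, 10, 8, 6, 4, 11, 8, 6, 4, 12, 11, 8, 6, 4, 10, 8, 10], [14, 6, 10, 8, 10, 8], [.use 1115 false, .use 1467 false, .use 1820 false]⟩,
  ⟨[14, 6, 11, 8, 14, 6, 15], [4, 8, 6, 4, 6, 11, 11, 8, 6, 4, 6, 11, 8, 6, 4, 6, 10, 8, 10, 8], [14, 6, 10, 8, 14, 6], [.use 442 true, .cancel 6, .use 1329 false]⟩,
  ⟨[14, 6, 11, 8, 14, 6, 13], [6, 8, 6, 4, 6, 10, 8, 6, 4, 11, 8, 6, 4, 12, 11, 8, 6, 4, 10, 8, 10], [14, 6, 11, 8, 12, 11], [.use 1113 true, .cancel 8, .use 1470 false, .use 1755 false]⟩,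
  ⟨[14, 6, 11, 8, 14, 6, 12], [6, 8, 6, 4, 6, 10, 8, 6, 4, 11, 8, 6, 4, 12, 11, 8, 6, 4, 10, 8, 10], [14, 6, 10, 8, 10, 8], [.use 1114 false, .use 1467 false, .use 1820 false]⟩,
  ⟨[14, 6, 11, 8, 14, 6, 9], [6, 8, 6, 4, 6, 10, 8, 6, 4, 11, 8, 6, 4, 12, 11, 8, 6, 4, 10, 8, 10], [14, 6, 10, 8, 10, 13], [.use 1287 false, .use 1772 false]⟩,
  ⟨[14, 6, 11, 8, 14, 6, 8], [6, 8, 6, 4, 6, 10, 8, 6, 4, 11, 8, 6, 4, 12, 11, 8, 6, 4, 10, 8, 10], [14, 6, 10, 8, 10, 13], [.use 1501 false, .use 1772 false]⟩,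
  ⟨[14, 6, 14, 11, 8, 10, 8], [], [14, 6, 10, 8, 11, 14], [.use 962 true, .cancel 7, .use 2024 false]⟩,
  ⟨[14, 6, 14, 11, 8, 10, 9], [], [14, 6, 10, 8, 11, 14], [.use 1031 false, .use 2024 false]⟩,
  ⟨[14, 6, 8, 10, 10, 14, 11, 11], [4, 6, 10, 8, 6, 4, 6, 4, 12, 10, 8, 6, 4, 6, 10], [14, 6, 10, 13, 14, 6], [.use 2062 false, .use 2074 false]⟩,
  ⟨[14, 6, 8, 10, 14, 6, 11, 12], [11, 8, 6, 4, 11, 8, 6, 4, 6, 11, 8, 6, 4, 10, 8, 6, 10, 8, 12], [14, 6, 8, 14, 10, 8], [.use 1136 true, .cancel 9, .use 1905 false, .use 1979 false]⟩,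
  ⟨[14, 6, 8, 10, 14, 6, 11, 15], [0, 4, 6, 4, 8, 11, 8, 6, 4, 11, 11, 8, 6, 4, 11, 8, 6, 4, 11, 8, 10, 13], [14, 6, 11, 8, 10, 10], [.use 1838 false, .use 2035 false]⟩,
  ⟨[14, 6, 8, 10, 14, 6, 11, 14], [0, 4, 8, 11, 8, 6, 4, 10, 8, 6, 4, 11, 8, 6, 10, 8, 13, 11], [14, 6, 11, 8, 10, 10], [.use 1844 false, .use 2035 false]⟩,
  ⟨[14, 6, 8, 10, 14, 10, 12, 11], [4, 8, 6, 4, 10, 8, 6, 4, 10, 8, 6, 4, 13, 10, 8, 6, 10, 10, 8], [14, 6, 10, 8, 12, 14], [.use 998 false, .use 1928 false]⟩,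
  ⟨[14, 6, 8, 10, 14, 10, 12, 6], [11, 8, 6, 4, 11, 8, 6, 4, 6, 11, 8, 6, 4, 10, 8, 6, 10, 8, 12], [14, 6, 8, 14, 10, 8], [.use 1000 false, .use 1905 false, .use 1979 false]⟩,
  ⟨[14, 6, 8, 10, 14, 10, 12, 5], [4, 8, 11, 8, 6, 4, 6, 11, 8, 6, 4, 6, 10, 8, 6, 4, 6, 10, 10, 8, 11], [14, 6, 8, 10, 14, 10, 12], [.use 1133 true, .cancel 7, .use 1490 false]⟩,
  ⟨[14, 6, 8, 10, 14, 10, 12, 4], [4, 8, 11, 8, 6, 4, 6, 11, 8, 6, 4, 6, 10, 8, 6, 4, 6, 10, 10, 8, 11], [14, 6, 8, 10, 14, 10, 12], [.use 1134 false, .use 1490 false]⟩,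
  ⟨[14, 6, 8, 10, 14, 10, 12, 7], [11, 8, 6, 4, 11, 8, 6, 4, 6, 11, 8, 6, 4, 10, 8, 6, 10, 8, 12], [14, 6, 8, 14, 10, 8], [.use 1137 false, .use 1905 false, .use 1979 false]⟩,
  ⟨[14, 6, 8, 10, 14, 10, 12, 10], [8, 6, 4, 10, 10, 8, 6, 4, 6, 11, 8, 6, 4, 11, 8, 6, 4, 11, 8], [14, 6, 10, 8, 10, 13, 14], [.use 1511 false, .use 1624 false, .use 1932 false]⟩,
  ⟨[14, 6, 8, 10, 14, 10, 12, 9], [8, 6, 4, 10, 10, 8, 6, 4, 10, 8, 6, 4, 12, 10, 8, 6, 4, 10, 8], [14, 6, 8, 10, 14, 11], [.use 1514 false, .use 1910 false]⟩,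
  ⟨[14, 6, 8, 10, 14, 10, 12, 8], [8, 6, 4, 10, 10, 8, 6, 4, 10, 8, 6, 4, 12, 10, 8, 6, 4, 10, 8], [14, 6, 8, 10, 14, 11], [.use 1515 false, .use 1910 false]⟩,
  ⟨[14, 6, 8, 10, 14, 10, 13, 10], [4, 6, 10, 10, 8, 6, 4, 6, 4, 10, 8, 6, 4, 6, 10], [14, 6, 10, 13, 14, 6], [.use 1044 false, .use 2074 false]⟩,
  ⟨[14, 6, 8, 10, 14, 10, 13, 5], [4, 8, 11, 8, 6, 4, 6, 11, 8, 6, 4, 6, 10, 8, 6, 4, 6, 10, 10, 8, 11], [14, 6, 8, 10, 14, 10, 13], [.use 1132 false, .use 1488 false]⟩,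
  ⟨[14, 6, 8, 10, 14, 10, 13, 4], [4, 8, 11, 8, 6, 4, 6, 11, 8, 6, 4, 6, 10, 8, 6, 4, 6, 10, 10, 8, 11], [14, 6, 8, 10, 14, 10, 13], [.use 1135 true, .cancel 7, .use 1488 false]⟩,
  ⟨[14, 6, 8, 10, 14, 10, 13, 11], [4, 8, 6, 4, 10, 8, 6, 4, 10, 8, 6, 4, 13, 10, 8, 6, 10, 10, 8], [14, 6, 10, 8, 14, 10], [.use 1509 false, .use 2017 false]⟩,
  ⟨[14, 6, 8, 11, 8, 11, 8, 13], [4, 8, 6, 4, 13, 10, 8, 6, 4, 6, 11, 8, 6, 4, 11, 8, 6, 10, 8, 6], [14, 6, 8, 11, 14, 10], [.use 1053 false, .use 1740 false]⟩,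
  ⟨[14, 6, 8, 11, 8, 11, 13, 8], [4, 8, 6, 4, 13, 10, 8, 6, 4, 6, 11, 8, 6, 4, 11, 8, 6, 10, 8, 6], [14, 6, 8, 11, 14, 10], [.use 831 true, .cancel 6, .use 1740 false]⟩,
  ⟨[14, 6, 8, 11, 8, 11, 13, 9], [4, 8, 6, 4, 13, 10, 8, 6, 4, 6, 11, 8, 6, 4, 11, 8, 6, 10, 8, 6], [14, 6, 8, 11, 14, 10], [.use 870 false, .use 1740 false]⟩,
  ⟨[14, 6, 8, 14, 11, 8, 12, 11], [4, 8, 6, 4, 13, 10, 8, 6, 4, 6, 11, 8, 6, 4, 11, 8, 6, 10, 8, 6], [14, 6, 10, 8, 10, 13, 14], [.use 1916 false, .use 1932 false]⟩,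
  ⟨[14, 6, 8, 14, 11, 8, 12, 12], [4, 8, 6, 4, 10, 8, 6, 4, 10, 8, 6, 4, 10, 10, 8, 6, 12, 10, 8], [14, 6, 10, 8, 14, 11], [.use 1917 false, .use 1966 false]⟩,
  ⟨[14, 6, 10, 8, 10, 13, 14, 12], [4, 6, 8, 6, 4, 11, 8, 6, 4, 11, 8, 6, 4, 10, 8, 6, 13, 10, 8], [14, 6, 8, 10, 10, 14, 11], [.use 1936 false, .use 2061 false]⟩,
  ⟨[1], [1], [], [.use 119 true, .cancel 0]⟩,
  ⟨[5], [5], [], [.use 120 true, .cancel 0]⟩]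

/-- Equations. -/
def part39 : List CFact := [
  ⟨[7], [7], [], [.use 121 true, .cancel 0]⟩,
  ⟨[9], [9], [], [.use 122 true, .cancel 0]⟩,
  ⟨[11], [11], [], [.use 123 true, .cancel 0]⟩,
  ⟨[13], [13], [], [.use 124 true, .cancel 0]⟩,
  ⟨[15], [5, 1], [14], [.use 125 true, .cancel 1]⟩,
  ⟨[14, 0], [1], [14], [.use 126 true, .cancel 1]⟩,
  ⟨[14, 4], [5], [14], [.use 127 true, .cancel 1]⟩,
  ⟨[14, 7], [], [14, 6], [.use 132 true, .cancel 2]⟩,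
  ⟨[14, 8], [9], [14], [.use 128 true, .cancel 1]⟩,
  ⟨[14, 13], [12], [14], [.use 129 true, .cancel 1]⟩,
  ⟨[14, 15], [], [], [.use 0 true, .cancel 0]⟩,
  ⟨[14, 6, 7], [], [14], [.use 1 true, .cancel 1]⟩,
  ⟨[14, 6, 9], [], [14, 6, 8], [.use 143 true, .cancel 3]⟩,
  ⟨[14, 6, 13], [12], [14, 6], [.use 139 true, .cancel 2]⟩,
  ⟨[14, 6, 14, 7], [9, 5, 7, 5], [14, 6, 8, 14], [.use 218 true, .cancel 4]⟩,
  ⟨[14, 6, 14, 9], [], [14, 6, 8, 14], [.use 149 true, .cancel 4]⟩,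
  ⟨[14, 6, 14, 13], [13], [14, 6, 14], [.use 152 true, .cancel 3]⟩,
  ⟨[14, 6, 14, 15], [], [14, 6], [.use 7 true, .cancel 2]⟩,
  ⟨[14, 6, 8, 14, 7], [5, 7, 9, 5], [14, 6, 14], [.use 151 true, .cancel 3]⟩,
  ⟨[14, 6, 8, 14, 9], [], [14, 6, 14], [.use 150 true, .cancel 3]⟩,
  ⟨[14, 6, 8, 14, 13], [13], [14, 6, 8, 14], [.use 189 true, .cancel 4]⟩,
  ⟨[14, 6, 8, 14, 15], [], [14, 6, 8], [.use 14 true, .cancel 3]⟩,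
  ⟨[14, 10, 1], [1], [14, 10], [.use 134 true, .cancel 2]⟩,
  ⟨[14, 10, 5], [5], [14, 10], [.use 136 true, .cancel 2]⟩,
  ⟨[14, 10, 7], [], [14, 6, 11], [.use 153 true, .cancel 3]⟩,
  ⟨[14, 10, 8], [11, 9, 10, 9], [14, 10], [.use 163 true, .cancel 2]⟩,
  ⟨[14, 10, 11], [], [14], [.use 2 true, .cancel 1]⟩,
  ⟨[14, 10, 14], [11], [14, 11], [.use 131 true, .cancel 2]⟩,
  ⟨[14, 10, 15], [11, 5, 1], [14, 11], [.use 166 true, .cancel 2]⟩,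
  ⟨[14, 10, 10, 1], [1], [14, 10, 10], [.use 154 true, .cancel 3]⟩,
  ⟨[14, 10, 10, 5], [5], [14, 10, 10], [.use 155 true, .cancel 3]⟩,
  ⟨[14, 10, 10, 7], [], [14, 6, 11, 11], [.use 161 true, .cancel 4]⟩,
  ⟨[14, 10, 10, 9], [10, 10, 9, 11, 11], [14, 10, 10], [.use 130 true, .cancel 3]⟩,
  ⟨[14, 10, 10, 10], [13], [14, 11, 13], [.use 165 true, .cancel 3]⟩,
  ⟨[14, 10, 10, 11], [], [14, 10], [.use 8 true, .cancel 2]⟩,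
  ⟨[14, 10, 10, 13], [12], [14, 10], [.use 140 true, .cancel 2]⟩,
  ⟨[14, 11, 0], [1], [14, 11], [.use 133 true, .cancel 2]⟩,
  ⟨[14, 11, 4], [5], [14, 11], [.use 135 true, .cancel 2]⟩,
  ⟨[14, 11, 7], [], [14, 6, 10], [.use 138 true, .cancel 3]⟩,
  ⟨[14, 11, 8], [10, 9, 11, 9], [14, 11], [.use 167 true, .cancel 2]⟩,
  ⟨[14, 11, 10], [], [14], [.use 3 true, .cancel 1]⟩,
  ⟨[14, 11, 12], [13], [14, 11, 11], [.use 141 true, .cancel 3]⟩,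
  ⟨[14, 11, 11, 0], [1], [14, 11, 11], [.use 175 true, .cancel 3]⟩,
  ⟨[14, 11, 11, 4], [5], [14, 11, 11], [.use 176 true, .cancel 3]⟩,
  ⟨[14, 11, 11, 7], [], [14, 6, 10, 10], [.use 177 true, .cancel 4]⟩,
  ⟨[14, 11, 11, 9], [11, 9, 10], [14, 11, 11], [.use 178 true, .cancel 3]⟩,
  ⟨[14, 11, 11, 10], [], [14, 11], [.use 10 true, .cancel 2]⟩,
  ⟨[14, 10, 13, 0], [1], [14, 10, 13], [.use 158 true, .cancel 3]⟩,
  ⟨[14, 10, 13, 4], [5], [14, 10, 13], [.use 159 true, .cancel 3]⟩,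
  ⟨[14, 10, 13, 6], [], [14, 6, 11, 13], [.use 162 true, .cancel 4]⟩,
  ⟨[14, 10, 13, 8], [11, 9, 10, 9], [14, 10, 13], [.use 164 true, .cancel 3]⟩,
  ⟨[14, 10, 13, 10], [12], [14, 11, 11], [.use 173 true, .cancel 3]⟩,
  ⟨[14, 10, 13, 11], [], [14, 11, 13], [.use 142 true, .cancel 3]⟩,
  ⟨[14, 10, 13, 12], [], [14, 10], [.use 9 true, .cancel 2]⟩,
  ⟨[14, 10, 13, 13], [13], [14, 10, 10], [.use 157 true, .cancel 3]⟩,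
  ⟨[14, 10, 13, 14], [11, 13], [14, 11, 11], [.use 170 true, .cancel 3]⟩,
  ⟨[14, 10, 13, 15], [11, 13, 5, 1], [14, 11, 11], [.use 168 true, .cancel 3]⟩,
  ⟨[14, 11, 13, 0], [1], [14, 11, 13], [.use 180 true, .cancel 3]⟩,
  ⟨[14, 11, 13, 4], [5], [14, 11, 13], [.use 181 true, .cancel 3]⟩,
  ⟨[14, 11, 13, 6], [], [14, 6, 10, 13], [.use 184 true, .cancel 4]⟩,
  ⟨[14, 11, 13, 9], [10, 9, 11, 9], [14, 11, 13], [.use 172 true, .cancel 3]⟩,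
  ⟨[14, 11, 13, 12], [], [14, 11], [.use 11 true, .cancel 2]⟩,
  ⟨[14, 11, 13, 13], [13], [14, 11, 11], [.use 179 true, .cancel 3]⟩,
  ⟨[14, 11, 13, 14], [10, 13, 5, 1], [14, 10, 10], [.use 171 true, .cancel 3]⟩]

/-- Equations. -/
def part40 : List CFact := [
  ⟨[14, 11, 13, 15], [10, 13], [14, 10, 10], [.use 169 true, .cancel 3]⟩,
  ⟨[14, 6, 11, 11, 0], [1], [14, 6, 11, 11], [.use 531 true, .cancel 4]⟩,
  ⟨[14, 6, 11, 11, 7], [], [14, 10, 10], [.use 156 true, .cancel 3]⟩,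
  ⟨[14, 6, 11, 11, 9], [12], [14, 6, 11, 8, 12], [.use 211 true, .cancel 5]⟩,
  ⟨[14, 6, 11, 11, 10], [], [14, 6, 11], [.use 20 true, .cancel 3]⟩,
  ⟨[14, 6, 11, 11, 11], [13], [14, 6, 10, 13], [.use 204 true, .cancel 4]⟩,
  ⟨[14, 6, 10, 13, 0], [1], [14, 6, 10, 13], [.use 487 true, .cancel 4]⟩,
  ⟨[14, 6, 10, 13, 6], [], [14, 11, 13], [.use 182 true, .cancel 3]⟩,
  ⟨[14, 6, 10, 13, 8], [], [14, 6, 10, 8, 13], [.use 196 true, .cancel 5]⟩,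
  ⟨[14, 6, 10, 13, 11], [], [14, 6, 11, 13], [.use 148 true, .cancel 4]⟩,
  ⟨[14, 6, 10, 13, 12], [], [14, 6, 10], [.use 17 true, .cancel 3]⟩,
  ⟨[14, 6, 10, 13, 13], [13], [14, 6, 10, 10], [.use 192 true, .cancel 4]⟩,
  ⟨[14, 6, 11, 13, 0], [1], [14, 6, 11, 13], [.use 537 true, .cancel 4]⟩,
  ⟨[14, 6, 11, 13, 6], [], [14, 10, 13], [.use 160 true, .cancel 3]⟩,
  ⟨[14, 6, 11, 13, 8], [], [14, 6, 11, 8, 13], [.use 213 true, .cancel 5]⟩,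
  ⟨[14, 6, 11, 13, 12], [], [14, 6, 11], [.use 21 true, .cancel 3]⟩,
  ⟨[14, 6, 11, 13, 13], [13], [14, 6, 11, 11], [.use 209 true, .cancel 4]⟩,
  ⟨[14, 6, 11, 13, 14, 1], [1], [14, 6, 11, 13, 14], [.use 939 true, .cancel 5]⟩,
  ⟨[14, 6, 11, 13, 14, 7], [7, 9, 11, 7, 9, 10, 5, 7, 9, 10, 12, 5, 7, 9, 11, 5, 7, 9, 10, 5, 1], [14, 6, 8, 10, 8, 11], [.use 2118 true, .cancel 6]⟩,
  ⟨[14, 6, 11, 13, 14, 9], [], [14, 6, 11, 8, 13, 14], [.use 275 true, .cancel 6]⟩,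
  ⟨[14, 6, 11, 13, 14, 11], [7, 9, 11, 7, 9, 10, 5, 7, 9, 10, 12, 5, 7, 9, 11, 5, 7, 9, 10, 5, 1], [14, 6, 8, 10, 8, 6], [.use 2084 true, .cancel 6]⟩,
  ⟨[14, 6, 11, 13, 14, 13], [], [14, 6, 11, 14], [.use 217 true, .cancel 4]⟩,
  ⟨[14, 6, 11, 13, 14, 15], [], [14, 6, 11, 13], [.use 50 true, .cancel 4]⟩,
  ⟨[14, 6, 11, 8, 12, 11, 0], [1], [14, 6, 11, 8, 12, 11], [.use 1102 true, .cancel 6]⟩,
  ⟨[14, 6, 11, 8, 12, 11, 7], [11, 9, 10, 9], [14, 6, 11, 8, 12, 10], [.use 328 true, .cancel 6]⟩,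
  ⟨[14, 6, 11, 8, 12, 11, 8], [], [14, 6, 10, 8, 10, 12], [.use 321 true, .cancel 6]⟩,
  ⟨[14, 6, 11, 8, 12, 11, 10], [], [14, 6, 11, 8, 12], [.use 105 true, .cancel 5]⟩,
  ⟨[14, 6, 11, 8, 12, 11, 13], [], [14, 6, 10, 8, 10, 8], [.use 358 true, .cancel 6]⟩,
  ⟨[14, 6, 11, 8, 12, 1], [1], [14, 6, 11, 8, 12], [.use 911 true, .cancel 5]⟩,
  ⟨[14, 6, 11, 8, 12, 4], [10, 9, 11, 11, 7, 5, 7, 9, 11, 7, 5, 7, 9, 10, 7, 5, 7, 9, 10, 9, 5], [14, 6, 11, 8, 12], [.use 1548 true, .cancel 5]⟩,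
  ⟨[14, 6, 11, 8, 12, 7], [11, 9, 10, 9], [14, 6, 11, 8, 12], [.use 224 true, .cancel 5]⟩,
  ⟨[14, 6, 11, 8, 12, 9], [13], [14, 6, 11, 11], [.use 212 true, .cancel 4]⟩,
  ⟨[14, 6, 11, 8, 12, 13], [], [14, 6, 11, 8], [.use 46 true, .cancel 4]⟩,
  ⟨[14, 6, 8, 7], [9], [14, 6, 8], [.use 144 true, .cancel 3]⟩,
  ⟨[14, 6, 8, 9], [], [14, 6], [.use 4 true, .cancel 2]⟩,
  ⟨[14, 6, 8, 13], [12], [14, 6, 8], [.use 145 true, .cancel 3]⟩,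
  ⟨[14, 6, 11, 0], [1], [14, 6, 11], [.use 393 true, .cancel 3]⟩,
  ⟨[14, 6, 11, 7], [], [14, 10], [.use 137 true, .cancel 2]⟩,
  ⟨[14, 6, 11, 9], [], [14, 6, 11, 8], [.use 202 true, .cancel 4]⟩,
  ⟨[14, 6, 11, 10], [], [14, 6], [.use 6 true, .cancel 2]⟩,
  ⟨[14, 6, 11, 12], [13], [14, 6, 11, 11], [.use 147 true, .cancel 4]⟩,
  ⟨[14, 6, 11, 11, 14, 1], [1], [14, 6, 11, 11, 14], [.use 930 true, .cancel 5]⟩,
  ⟨[14, 6, 11, 11, 14, 13], [12], [14, 6, 11, 13, 14], [.use 274 true, .cancel 5]⟩,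
  ⟨[14, 6, 11, 11, 14, 15], [], [14, 6, 11, 11], [.use 49 true, .cancel 4]⟩,
  ⟨[14, 6, 11, 8, 10, 13, 0], [1], [14, 6, 11, 8, 10, 13], [.use 1100 true, .cancel 6]⟩,
  ⟨[14, 6, 11, 8, 10, 13, 9], [13], [14, 6, 10, 8, 11, 12], [.use 335 true, .cancel 6]⟩,
  ⟨[14, 6, 11, 8, 10, 13, 12], [], [14, 6, 11, 8, 10], [.use 103 true, .cancel 5]⟩,
  ⟨[14, 6, 11, 8, 10, 13, 13], [13], [14, 6, 8, 10, 8, 11], [.use 327 true, .cancel 6]⟩,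
  ⟨[14, 6, 11, 8, 14, 6, 7], [], [14, 6, 11, 8, 14], [.use 108 true, .cancel 5]⟩,
  ⟨[14, 6, 11, 8, 14, 1], [1], [14, 6, 11, 8, 14], [.use 914 true, .cancel 5]⟩,
  ⟨[14, 6, 11, 8, 14, 7], [], [14, 6, 11, 8, 14, 6], [.use 330 true, .cancel 6]⟩,
  ⟨[14, 6, 11, 8, 14, 9], [], [14, 6, 11, 14], [.use 215 true, .cancel 4]⟩,
  ⟨[14, 6, 11, 8, 14, 15], [], [14, 6, 11, 8], [.use 48 true, .cancel 4]⟩,
  ⟨[14, 6, 11, 8, 13, 10, 1], [1], [14, 6, 11, 8, 13, 10], [.use 1108 true, .cancel 6]⟩,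
  ⟨[14, 6, 11, 8, 13, 10, 11], [], [14, 6, 11, 8, 13], [.use 106 true, .cancel 5]⟩,
  ⟨[14, 6, 11, 8, 13, 10, 13], [11, 9, 10, 13, 9], [14, 6, 8, 10, 8, 6], [.use 331 true, .cancel 6]⟩,
  ⟨[14, 6, 11, 8, 13, 0], [1], [14, 6, 11, 8, 13], [.use 910 true, .cancel 5]⟩,
  ⟨[14, 6, 11, 8, 13, 4], [10, 9, 11, 11, 7, 5, 7, 9, 11, 7, 5, 7, 9, 10, 7, 5, 7, 9, 10, 9, 5], [14, 6, 11, 8, 13], [.use 1627 true, .cancel 5]⟩,
  ⟨[14, 6, 11, 8, 13, 7], [11, 9, 10, 9], [14, 6, 11, 8, 13], [.use 225 true, .cancel 5]⟩,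
  ⟨[14, 6, 11, 8, 13, 8], [], [14, 6, 11, 13], [.use 210 true, .cancel 4]⟩,
  ⟨[14, 6, 11, 8, 13, 12], [], [14, 6, 11, 8], [.use 47 true, .cancel 4]⟩,
  ⟨[14, 6, 11, 8, 13, 13], [], [14, 6, 11, 8, 12], [.use 270 true, .cancel 5]⟩,
  ⟨[14, 6, 11, 8, 13, 14, 1], [1], [14, 6, 11, 8, 13, 14], [.use 1109 true, .cancel 6]⟩,
  ⟨[14, 6, 11, 8, 13, 14, 9], [], [14, 6, 11, 13, 14], [.use 276 true, .cancel 5]⟩]

/-- Equations. -/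
def part41 : List CFact := [
  ⟨[14, 6, 11, 8, 13, 14, 13], [], [14, 6, 11, 8, 14], [.use 273 true, .cancel 5]⟩,
  ⟨[14, 6, 11, 8, 13, 14, 15], [], [14, 6, 11, 8, 13], [.use 107 true, .cancel 5]⟩,
  ⟨[14, 6, 11, 14, 11, 0], [1], [14, 6, 11, 14, 11], [.use 945 true, .cancel 5]⟩,
  ⟨[14, 6, 11, 14, 11, 10], [], [14, 6, 11, 14], [.use 51 true, .cancel 4]⟩,
  ⟨[14, 6, 11, 14, 1], [1], [14, 6, 11, 14], [.use 850 true, .cancel 4]⟩,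
  ⟨[14, 6, 11, 14, 9], [], [14, 6, 11, 8, 14], [.use 214 true, .cancel 5]⟩,
  ⟨[14, 6, 11, 14, 13], [13], [14, 6, 11, 11, 14], [.use 216 true, .cancel 5]⟩,
  ⟨[14, 6, 11, 14, 15], [], [14, 6, 11], [.use 22 true, .cancel 3]⟩,
  ⟨[14, 6, 11, 8, 10, 1], [1], [14, 6, 11, 8, 10], [.use 908 true, .cancel 5]⟩,
  ⟨[14, 6, 11, 8, 10, 11], [], [14, 6, 11, 8], [.use 45 true, .cancel 4]⟩,
  ⟨[14, 6, 11, 8, 1], [1], [14, 6, 11, 8], [.use 528 true, .cancel 4]⟩,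
  ⟨[14, 6, 11, 8, 7], [11, 9, 10, 9], [14, 6, 11, 8], [.use 203 true, .cancel 4]⟩,
  ⟨[14, 6, 11, 8, 9], [], [14, 6, 11], [.use 19 true, .cancel 3]⟩,
  ⟨[14, 6, 10, 7], [], [14, 11], [.use 174 true, .cancel 2]⟩,
  ⟨[14, 6, 10, 9], [], [14, 6, 10, 8], [.use 190 true, .cancel 4]⟩,
  ⟨[14, 6, 10, 11], [], [14, 6], [.use 5 true, .cancel 2]⟩,
  ⟨[14, 6, 10, 10, 1], [1], [14, 6, 10, 10], [.use 827 true, .cancel 4]⟩,
  ⟨[14, 6, 10, 10, 7], [], [14, 11, 11], [.use 183 true, .cancel 3]⟩,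
  ⟨[14, 6, 10, 10, 9], [12], [14, 6, 10, 8, 12], [.use 194 true, .cancel 5]⟩,
  ⟨[14, 6, 10, 10, 10], [13], [14, 6, 11, 13], [.use 197 true, .cancel 4]⟩,
  ⟨[14, 6, 10, 10, 11], [], [14, 6, 10], [.use 16 true, .cancel 3]⟩,
  ⟨[14, 6, 10, 10, 13], [12], [14, 6, 10], [.use 146 true, .cancel 3]⟩,
  ⟨[14, 6, 8, 11, 0], [1], [14, 6, 8, 11], [.use 448 true, .cancel 4]⟩,
  ⟨[14, 6, 8, 11, 7], [9], [14, 6, 8, 10], [.use 185 true, .cancel 4]⟩,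
  ⟨[14, 6, 8, 11, 9], [], [14, 6, 8, 11, 8], [.use 240 true, .cancel 5]⟩,
  ⟨[14, 6, 8, 11, 10], [], [14, 6, 8], [.use 13 true, .cancel 3]⟩,
  ⟨[14, 6, 8, 11, 12], [13], [14, 6, 8, 11, 11], [.use 187 true, .cancel 5]⟩,
  ⟨[14, 6, 8, 11, 8, 1], [1], [14, 6, 8, 11, 8], [.use 724 true, .cancel 5]⟩,
  ⟨[14, 6, 8, 11, 8, 7], [], [14, 6, 8, 11, 8, 6], [.use 297 true, .cancel 6]⟩,
  ⟨[14, 6, 8, 11, 8, 9], [], [14, 6, 8, 11], [.use 29 true, .cancel 4]⟩,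
  ⟨[14, 6, 8, 11, 8, 10, 1], [1], [14, 6, 8, 11, 8, 10], [.use 1004 true, .cancel 6]⟩,
  ⟨[14, 6, 8, 11, 8, 10, 7], [13, 10, 9, 11, 9], [14, 6, 10, 8, 10, 13], [.use 348 true, .cancel 6]⟩,
  ⟨[14, 6, 8, 11, 8, 10, 8], [], [14, 6, 11, 8, 10], [.use 317 true, .cancel 5]⟩,
  ⟨[14, 6, 8, 11, 8, 10, 9], [], [14, 6, 11, 8, 10], [.use 208 true, .cancel 5]⟩,
  ⟨[14, 6, 8, 11, 8, 10, 11], [], [14, 6, 8, 11, 8], [.use 66 true, .cancel 5]⟩,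
  ⟨[14, 6, 8, 11, 8, 10, 12], [13], [14, 6, 10, 8, 11], [.use 316 true, .cancel 5]⟩,
  ⟨[14, 6, 8, 11, 8, 11, 0], [1], [14, 6, 8, 11, 8, 11], [.use 1003 true, .cancel 6]⟩,
  ⟨[14, 6, 8, 11, 8, 11, 7], [13, 10, 9, 11, 9], [14, 6, 10, 8, 13, 11], [.use 350 true, .cancel 6]⟩,
  ⟨[14, 6, 8, 11, 8, 11, 9], [], [14, 6, 8, 11, 8, 11, 8], [.use 351 true, .cancel 7]⟩,
  ⟨[14, 6, 8, 11, 8, 11, 10], [], [14, 6, 8, 11, 8], [.use 67 true, .cancel 5]⟩,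
  ⟨[14, 6, 10, 8, 13, 0], [1], [14, 6, 10, 8, 13], [.use 789 true, .cancel 5]⟩,
  ⟨[14, 6, 10, 8, 13, 7], [10, 9, 11, 9], [14, 6, 10, 8, 13], [.use 227 true, .cancel 5]⟩,
  ⟨[14, 6, 10, 8, 13, 8], [], [14, 6, 10, 13], [.use 193 true, .cancel 4]⟩,
  ⟨[14, 6, 10, 8, 13, 10], [12], [14, 6, 8, 11, 8, 11], [.use 207 true, .cancel 6]⟩,
  ⟨[14, 6, 10, 8, 13, 12], [], [14, 6, 10, 8], [.use 38 true, .cancel 4]⟩,
  ⟨[14, 6, 10, 8, 13, 13], [], [14, 6, 10, 8, 12], [.use 250 true, .cancel 5]⟩,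
  ⟨[14, 6, 8, 11, 11, 0], [1], [14, 6, 8, 11, 11], [.use 727 true, .cancel 5]⟩,
  ⟨[14, 6, 8, 11, 11, 7], [9], [14, 6, 8, 10, 10], [.use 230 true, .cancel 5]⟩,
  ⟨[14, 6, 8, 11, 11, 10], [], [14, 6, 8, 11], [.use 30 true, .cancel 4]⟩,
  ⟨[14, 6, 8, 11, 11, 11], [13], [14, 6, 8, 10, 13], [.use 241 true, .cancel 5]⟩,
  ⟨[14, 6, 10, 8, 10, 13, 0], [1], [14, 6, 10, 8, 10, 13], [.use 1048 true, .cancel 6]⟩,
  ⟨[14, 6, 10, 8, 10, 13, 7], [10, 9, 11, 12, 9], [14, 6, 8, 11, 8, 10], [.use 347 true, .cancel 6]⟩,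
  ⟨[14, 6, 10, 8, 10, 13, 11], [12], [14, 6, 8, 11, 8, 10], [.use 318 true, .cancel 6]⟩,
  ⟨[14, 6, 10, 8, 10, 13, 12], [], [14, 6, 10, 8, 10], [.use 80 true, .cancel 5]⟩,
  ⟨[14, 6, 10, 8, 10, 13, 13], [], [14, 6, 10, 8, 10, 12], [.use 310 true, .cancel 6]⟩,
  ⟨[14, 6, 10, 8, 10, 13, 15], [9, 11, 9, 11, 7, 5, 7, 9, 10, 7, 5, 7, 9, 10, 10, 7, 5, 7, 9, 11, 5], [14, 6, 10, 8, 10, 13, 14], [.use 2083 true, .cancel 7]⟩,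
  ⟨[14, 6, 14, 10, 1], [1], [14, 6, 14, 10], [.use 853 true, .cancel 4]⟩,
  ⟨[14, 6, 14, 10, 7], [9, 5, 7, 5], [14, 6, 8, 14, 11], [.use 277 true, .cancel 5]⟩,
  ⟨[14, 6, 14, 10, 9], [], [14, 6, 14, 10, 8], [.use 278 true, .cancel 5]⟩,
  ⟨[14, 6, 14, 10, 11], [], [14, 6, 14], [.use 23 true, .cancel 3]⟩,
  ⟨[14, 6, 8, 14, 10, 8, 1], [1], [14, 6, 8, 14, 10, 8], [.use 1024 true, .cancel 6]⟩,
  ⟨[14, 6, 8, 14, 10, 8, 4], [10, 9, 11, 11, 7, 5, 7, 9, 11, 7, 5, 7, 9, 10, 7, 5, 7, 9, 10, 9, 5], [14, 6, 8, 14, 10, 8], [.use 2032 true, .cancel 6]⟩,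
  ⟨[14, 6, 8, 14, 10, 8, 9], [], [14, 6, 8, 14, 10], [.use 71 true, .cancel 5]⟩,
  ⟨[14, 6, 10, 14, 11, 11, 0], [1], [14, 6, 10, 14, 11, 11], [.use 1095 true, .cancel 6]⟩]

/-- Equations. -/
def part42 : List CFact := [
  ⟨[14, 6, 10, 14, 11, 11, 5], [10, 9, 11, 11, 7, 5, 7, 9, 11, 7, 5, 7, 9, 10, 7, 5, 7, 9, 10, 9, 5], [14, 6, 10, 14, 11, 11], [.use 2039 true, .cancel 6]⟩,
  ⟨[14, 6, 10, 14, 11, 11, 8], [9, 11, 11, 7, 9, 11, 5, 7, 9, 10, 5, 7, 9, 10, 5, 7, 9, 7, 5], [14, 6, 10, 8, 10, 14], [.use 2102 true, .cancel 6]⟩,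
  ⟨[14, 6, 10, 14, 11, 11, 9], [9, 11, 11, 7, 9, 11, 5, 7, 9, 10, 5, 7, 9, 10, 5, 7, 9, 7, 5], [14, 6, 10, 8, 10, 14], [.use 2107 true, .cancel 6]⟩,
  ⟨[14, 6, 10, 14, 11, 11, 10], [], [14, 6, 10, 14, 11], [.use 100 true, .cancel 5]⟩,
  ⟨[14, 6, 10, 8, 10, 8, 1], [1], [14, 6, 10, 8, 10, 8], [.use 1045 true, .cancel 6]⟩,
  ⟨[14, 6, 10, 8, 10, 8, 4], [10, 9, 11, 11, 7, 5, 7, 9, 11, 7, 5, 7, 9, 10, 7, 5, 7, 9, 10, 9, 5], [14, 6, 10, 8, 10, 8], [.use 2031 true, .cancel 6]⟩,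
  ⟨[14, 6, 10, 8, 10, 8, 9], [], [14, 6, 10, 8, 10], [.use 77 true, .cancel 5]⟩,
  ⟨[14, 6, 10, 8, 10, 8, 10], [13, 9, 11, 5, 7, 9, 11, 5, 7, 5, 7, 9, 10, 7, 9, 11, 5, 7, 9, 7], [14, 6, 11, 8, 13, 14], [.use 2043 true, .cancel 6]⟩,
  ⟨[14, 6, 10, 8, 10, 8, 11], [], [14, 6, 11, 8, 10, 10], [.use 205 true, .cancel 6]⟩,
  ⟨[14, 6, 11, 8, 10, 10, 1], [1], [14, 6, 11, 8, 10, 10], [.use 1099 true, .cancel 6]⟩,
  ⟨[14, 6, 11, 8, 10, 10, 8], [12], [14, 6, 10, 8, 12, 11], [.use 343 true, .cancel 6]⟩,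
  ⟨[14, 6, 11, 8, 10, 10, 9], [12], [14, 6, 10, 8, 12, 11], [.use 206 true, .cancel 6]⟩,
  ⟨[14, 6, 11, 8, 10, 10, 11], [], [14, 6, 11, 8, 10], [.use 102 true, .cancel 5]⟩,
  ⟨[14, 6, 11, 8, 10, 10, 13], [], [14, 6, 11, 8, 13, 10], [.use 271 true, .cancel 6]⟩,
  ⟨[14, 6, 8, 10, 14, 6, 11, 7], [], [14, 6, 8, 10, 14, 10], [.use 296 true, .cancel 6]⟩,
  ⟨[14, 6, 8, 10, 14, 6, 11, 10], [], [14, 6, 8, 10, 14, 6], [.use 112 true, .cancel 6]⟩,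
  ⟨[14, 6, 8, 10, 14, 6, 7], [], [14, 6, 8, 10, 14], [.use 62 true, .cancel 5]⟩,
  ⟨[14, 6, 8, 10, 14, 6, 9], [], [14, 6, 8, 10, 14, 6, 8], [.use 337 true, .cancel 7]⟩,
  ⟨[14, 6, 10, 14, 10, 10, 1], [1], [14, 6, 10, 14, 10, 10], [.use 1084 true, .cancel 6]⟩,
  ⟨[14, 6, 10, 14, 10, 10, 10], [10, 5, 7, 9, 10, 7, 5, 7, 9, 10, 13, 9, 7, 5, 7, 9, 5], [14, 6, 10, 14, 6, 8], [.use 1611 true, .cancel 6]⟩,
  ⟨[14, 6, 10, 14, 10, 10, 11], [], [14, 6, 10, 14, 10], [.use 98 true, .cancel 5]⟩,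
  ⟨[14, 6, 10, 14, 10, 10, 13], [13], [14, 6, 10, 10, 14, 10], [.use 266 true, .cancel 6]⟩,
  ⟨[14, 6, 10, 14, 10, 1], [1], [14, 6, 10, 14, 10], [.use 902 true, .cancel 5]⟩,
  ⟨[14, 6, 10, 14, 10, 7], [], [14, 6, 10, 14, 6, 11], [.use 326 true, .cancel 6]⟩,
  ⟨[14, 6, 10, 14, 10, 8], [9, 11, 12, 7, 9, 11, 5, 7, 9, 10, 5, 7, 9, 10, 5, 7, 9, 7, 5], [14, 6, 14, 11, 11], [.use 2059 true, .cancel 5]⟩,
  ⟨[14, 6, 10, 14, 10, 11], [], [14, 6, 10, 14], [.use 43 true, .cancel 4]⟩,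
  ⟨[14, 6, 10, 14, 10, 14], [], [14, 6, 14, 11], [.use 509 true, .cancel 4]⟩,
  ⟨[14, 6, 14, 11, 7], [9, 5, 7, 5], [14, 6, 8, 14, 10], [.use 220 true, .cancel 5]⟩,
  ⟨[14, 6, 14, 11, 9], [], [14, 6, 14, 11, 8], [.use 286 true, .cancel 5]⟩,
  ⟨[14, 6, 14, 11, 10], [], [14, 6, 14], [.use 24 true, .cancel 3]⟩,
  ⟨[14, 6, 14, 11, 12], [12], [14, 6, 14, 11, 11], [.use 222 true, .cancel 5]⟩,
  ⟨[14, 6, 10, 8, 7], [10, 9, 11, 9], [14, 6, 10, 8], [.use 191 true, .cancel 4]⟩,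
  ⟨[14, 6, 10, 8, 9], [], [14, 6, 10], [.use 15 true, .cancel 3]⟩,
  ⟨[14, 6, 14, 10, 10, 1], [1], [14, 6, 14, 10, 10], [.use 956 true, .cancel 5]⟩,
  ⟨[14, 6, 14, 10, 10, 4], [10, 9, 11, 11, 7, 5, 7, 9, 11, 7, 5, 7, 9, 10, 7, 5, 7, 9, 10, 9, 5], [14, 6, 14, 10, 10], [.use 1581 true, .cancel 5]⟩,
  ⟨[14, 6, 14, 10, 10, 7], [9, 5, 7, 5], [14, 6, 8, 14, 11, 11], [.use 282 true, .cancel 6]⟩,
  ⟨[14, 6, 14, 10, 10, 9], [13, 9, 11, 5, 7, 9, 11, 5, 7, 5, 7, 9, 10, 7, 9, 11, 5, 7, 9, 7], [14, 6, 8, 10, 10, 14], [.use 1948 true, .cancel 6]⟩,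
  ⟨[14, 6, 14, 10, 10, 10], [12], [14, 6, 14, 11, 13], [.use 284 true, .cancel 5]⟩,
  ⟨[14, 6, 14, 10, 10, 11], [], [14, 6, 14, 10], [.use 53 true, .cancel 4]⟩,
  ⟨[14, 6, 14, 10, 10, 13], [13], [14, 6, 14, 10], [.use 221 true, .cancel 4]⟩,
  ⟨[14, 6, 14, 11, 13, 0], [1], [14, 6, 14, 11, 13], [.use 963 true, .cancel 5]⟩,
  ⟨[14, 6, 14, 11, 13, 6], [9, 5, 7, 5], [14, 6, 8, 14, 10, 13], [.use 292 true, .cancel 6]⟩,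
  ⟨[14, 6, 14, 11, 13, 12], [], [14, 6, 14, 11], [.use 57 true, .cancel 4]⟩,
  ⟨[14, 6, 14, 11, 13, 13], [12], [14, 6, 14, 11, 11], [.use 289 true, .cancel 5]⟩,
  ⟨[14, 6, 14, 11, 13, 15], [], [14, 6, 10, 14, 10, 12], [.use 971 true, .cancel 6]⟩,
  ⟨[14, 6, 14, 10, 13, 0], [1], [14, 6, 14, 10, 13], [.use 957 true, .cancel 5]⟩,
  ⟨[14, 6, 14, 10, 13, 6], [9, 5, 7, 5], [14, 6, 8, 14, 11, 13], [.use 283 true, .cancel 6]⟩,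
  ⟨[14, 6, 14, 10, 13, 11], [], [14, 6, 14, 11, 13], [.use 223 true, .cancel 5]⟩,
  ⟨[14, 6, 14, 10, 13, 12], [], [14, 6, 14, 10], [.use 54 true, .cancel 4]⟩,
  ⟨[14, 6, 14, 10, 13, 13], [12], [14, 6, 14, 10, 10], [.use 280 true, .cancel 5]⟩,
  ⟨[14, 6, 14, 11, 11, 0], [1], [14, 6, 14, 11, 11], [.use 961 true, .cancel 5]⟩,
  ⟨[14, 6, 14, 11, 11, 4], [10, 9, 11, 11, 7, 5, 7, 9, 11, 7, 5, 7, 9, 10, 7, 5, 7, 9, 10, 9, 5], [14, 6, 14, 11, 11], [.use 1606 true, .cancel 5]⟩,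
  ⟨[14, 6, 14, 11, 11, 7], [9, 5, 7, 5], [14, 6, 8, 14, 10, 10], [.use 288 true, .cancel 6]⟩,
  ⟨[14, 6, 14, 11, 11, 8], [9, 10, 5, 7, 9, 10, 5, 7, 9, 10, 13, 7, 5, 7, 9, 11, 5, 7, 9], [14, 6, 10, 14, 10], [.use 2069 true, .cancel 5]⟩,
  ⟨[14, 6, 14, 11, 11, 10], [], [14, 6, 14, 11], [.use 56 true, .cancel 4]⟩,
  ⟨[14, 6, 14, 11, 11, 11], [12], [14, 6, 14, 10, 13], [.use 287 true, .cancel 5]⟩,
  ⟨[14, 6, 8, 14, 11, 0], [1], [14, 6, 8, 14, 11], [.use 765 true, .cancel 5]⟩,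
  ⟨[14, 6, 8, 14, 11, 7], [5, 7, 9, 5], [14, 6, 14, 10], [.use 219 true, .cancel 4]⟩,
  ⟨[14, 6, 8, 14, 11, 9], [], [14, 6, 8, 14, 11, 8], [.use 303 true, .cancel 6]⟩,
  ⟨[14, 6, 8, 14, 11, 10], [], [14, 6, 8, 14], [.use 34 true, .cancel 4]⟩,
  ⟨[14, 6, 8, 14, 11, 12], [12], [14, 6, 8, 14, 11, 11], [.use 246 true, .cancel 6]⟩,
  ⟨[14, 6, 8, 14, 11, 8, 1], [1], [14, 6, 8, 14, 11, 8], [.use 1029 true, .cancel 6]⟩,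
  ⟨[14, 6, 8, 14, 11, 8, 7], [12, 11, 7, 9, 11, 7, 5, 7, 9, 10, 10, 7, 5, 7, 9, 7, 5, 7], [14, 6, 10, 10, 14, 10], [.use 2134 true, .cancel 6]⟩,
  ⟨[14, 6, 8, 14, 11, 8, 9], [], [14, 6, 8, 14, 11], [.use 74 true, .cancel 5]⟩]

/-- Equations. -/
def part43 : List CFact := [
  ⟨[14, 6, 8, 14, 11, 8, 13], [9, 11, 5, 7, 9, 11, 5, 7, 9, 10, 12, 10, 5, 7, 9, 11, 5, 7, 9], [14, 6, 10, 8, 14, 11], [.use 2141 true, .cancel 6]⟩,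
  ⟨[14, 6, 10, 8, 11, 14, 1], [1], [14, 6, 10, 8, 11, 14], [.use 1058 true, .cancel 6]⟩,
  ⟨[14, 6, 10, 8, 11, 14, 5], [10, 9, 11, 11, 7, 5, 7, 9, 11, 7, 5, 7, 9, 10, 7, 5, 7, 9, 10, 9, 5], [14, 6, 10, 8, 11, 14], [.use 2110 true, .cancel 6]⟩,
  ⟨[14, 6, 10, 8, 11, 14, 7], [12, 11, 7, 9, 11, 7, 5, 7, 9, 10, 10, 7, 5, 7, 9, 7, 5, 7], [14, 6, 10, 10, 14], [.use 2117 true, .cancel 5]⟩,
  ⟨[14, 6, 10, 8, 11, 14, 12], [10, 7, 9, 10, 9, 7, 5, 7, 9, 10, 13, 7, 5, 7, 9, 7, 5, 7], [14, 6, 10, 14, 6], [.use 2128 true, .cancel 5]⟩,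
  ⟨[14, 6, 10, 8, 11, 14, 13], [10, 7, 9, 10, 9, 7, 5, 7, 9, 10, 13, 7, 5, 7, 9, 7, 5, 7], [14, 6, 10, 13, 14, 6], [.use 2144 true, .cancel 6]⟩,
  ⟨[14, 6, 10, 8, 11, 14, 15], [], [14, 6, 10, 8, 11], [.use 83 true, .cancel 5]⟩,
  ⟨[14, 6, 8, 10, 14, 10, 1], [1], [14, 6, 8, 10, 14, 10], [.use 993 true, .cancel 6]⟩,
  ⟨[14, 6, 8, 10, 14, 10, 7], [], [14, 6, 8, 10, 14, 6, 11], [.use 338 true, .cancel 7]⟩,
  ⟨[14, 6, 8, 10, 14, 10, 11], [], [14, 6, 8, 10, 14], [.use 63 true, .cancel 5]⟩,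
  ⟨[14, 6, 8, 10, 14, 10, 14], [], [14, 6, 8, 14, 11], [.use 712 true, .cancel 5]⟩,
  ⟨[14, 6, 8, 10, 14, 1], [1], [14, 6, 8, 10, 14], [.use 866 true, .cancel 5]⟩,
  ⟨[14, 6, 8, 10, 14, 7], [], [14, 6, 8, 10, 14, 6], [.use 295 true, .cancel 6]⟩,
  ⟨[14, 6, 8, 10, 14, 13], [13], [14, 6, 8, 10, 10, 14], [.use 239 true, .cancel 6]⟩,
  ⟨[14, 6, 8, 10, 14, 15], [], [14, 6, 8, 10], [.use 28 true, .cancel 4]⟩,
  ⟨[14, 6, 8, 14, 11, 11, 0], [1], [14, 6, 8, 14, 11, 11], [.use 1030 true, .cancel 6]⟩,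
  ⟨[14, 6, 8, 14, 11, 11, 4], [10, 9, 11, 11, 7, 5, 7, 9, 11, 7, 5, 7, 9, 10, 7, 5, 7, 9, 10, 9, 5], [14, 6, 8, 14, 11, 11], [.use 2041 true, .cancel 6]⟩,
  ⟨[14, 6, 8, 14, 11, 11, 7], [5, 7, 9, 5], [14, 6, 14, 10, 10], [.use 279 true, .cancel 5]⟩,
  ⟨[14, 6, 8, 14, 11, 11, 9], [13], [14, 6, 8, 14, 11, 8, 12], [.use 306 true, .cancel 7]⟩,
  ⟨[14, 6, 8, 14, 11, 11, 10], [], [14, 6, 8, 14, 11], [.use 75 true, .cancel 5]⟩,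
  ⟨[14, 6, 8, 14, 11, 11, 11], [12], [14, 6, 8, 14, 10, 13], [.use 304 true, .cancel 6]⟩,
  ⟨[14, 6, 8, 10, 14, 10, 13, 0], [1], [14, 6, 8, 10, 14, 10, 13], [.use 1130 true, .cancel 7]⟩,
  ⟨[14, 6, 8, 10, 14, 10, 13, 6], [9, 10, 5, 7, 9, 11, 11, 5, 7, 5, 7, 9, 11, 7, 5], [14, 6, 10, 13, 14, 10], [.use 2115 true, .cancel 6]⟩,
  ⟨[14, 6, 8, 10, 14, 10, 13, 7], [9, 10, 5, 7, 9, 11, 11, 5, 7, 5, 7, 9, 11, 7, 5], [14, 6, 10, 13, 14, 10], [.use 2111 true, .cancel 6]⟩,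
  ⟨[14, 6, 8, 10, 14, 10, 13, 12], [], [14, 6, 8, 10, 14, 10], [.use 114 true, .cancel 6]⟩,
  ⟨[14, 6, 8, 10, 14, 10, 13, 13], [], [14, 6, 8, 10, 14, 10, 12], [.use 339 true, .cancel 7]⟩,
  ⟨[14, 6, 10, 13, 14, 6, 6], [], [14, 6, 10, 13, 14], [.use 265 true, .cancel 5]⟩,
  ⟨[14, 6, 10, 13, 14, 6, 7], [], [14, 6, 10, 13, 14], [.use 93 true, .cancel 5]⟩,
  ⟨[14, 6, 8, 10, 10, 14, 11, 0], [1], [14, 6, 8, 10, 10, 14, 11], [.use 1128 true, .cancel 7]⟩,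
  ⟨[14, 6, 8, 10, 10, 14, 11, 10], [], [14, 6, 8, 10, 10, 14], [.use 110 true, .cancel 6]⟩,
  ⟨[14, 6, 8, 10, 10, 14, 11, 12], [9, 11, 12, 7, 9, 11, 5, 7, 9, 10, 5, 7, 9, 10, 5, 7, 9, 7, 5], [14, 6, 10, 8, 10, 14], [.use 2142 true, .cancel 6]⟩,
  ⟨[14, 6, 8, 10, 10, 14, 11, 14], [12, 9, 10, 5, 7, 9, 10, 5, 7, 9, 10, 7, 5, 7, 9, 11, 11, 5, 7, 9], [14, 6, 10, 8, 10, 12], [.use 2140 true, .cancel 6]⟩,
  ⟨[14, 6, 8, 10, 10, 14, 11, 15], [9, 11, 12, 7, 9, 11, 5, 7, 9, 10, 5, 7, 9, 10, 5, 7, 9, 7, 5], [14, 6, 10, 8, 10, 12], [.use 2132 true, .cancel 6]⟩,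
  ⟨[14, 6, 10, 10, 14, 11, 0], [1], [14, 6, 10, 10, 14, 11], [.use 1077 true, .cancel 6]⟩,
  ⟨[14, 6, 10, 10, 14, 11, 10], [], [14, 6, 10, 10, 14], [.use 92 true, .cancel 5]⟩,
  ⟨[14, 6, 10, 10, 14, 11, 12], [12], [14, 6, 10, 14, 11, 11], [.use 269 true, .cancel 6]⟩,
  ⟨[14, 6, 14, 11, 8, 10, 1], [1], [14, 6, 14, 11, 8, 10], [.use 1125 true, .cancel 6]⟩,
  ⟨[14, 6, 14, 11, 8, 10, 7], [11, 12, 7, 9, 11, 7, 5, 7, 9, 10, 5, 7, 9, 11, 5, 7, 9, 10, 13], [14, 6, 10, 8, 10, 14], [.use 2042 true, .cancel 6]⟩,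
  ⟨[14, 6, 14, 11, 8, 10, 11], [], [14, 6, 14, 11, 8], [.use 109 true, .cancel 5]⟩,
  ⟨[14, 6, 14, 11, 8, 10, 15], [], [14, 6, 8, 10, 8, 11], [.use 2056 true, .cancel 6]⟩,
  ⟨[14, 6, 14, 11, 8, 1], [1], [14, 6, 14, 11, 8], [.use 960 true, .cancel 5]⟩,
  ⟨[14, 6, 14, 11, 8, 9], [], [14, 6, 14, 11], [.use 55 true, .cancel 4]⟩,
  ⟨[14, 6, 10, 14, 1], [1], [14, 6, 10, 14], [.use 841 true, .cancel 4]⟩,
  ⟨[14, 6, 10, 14, 7], [], [14, 6, 10, 14, 6], [.use 262 true, .cancel 5]⟩,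
  ⟨[14, 6, 10, 14, 9], [], [14, 6, 10, 8, 14], [.use 198 true, .cancel 5]⟩,
  ⟨[14, 6, 10, 14, 13], [13], [14, 6, 10, 10, 14], [.use 200 true, .cancel 5]⟩,
  ⟨[14, 6, 10, 14, 15], [], [14, 6, 10], [.use 18 true, .cancel 3]⟩,
  ⟨[14, 6, 10, 13, 14, 11, 0], [1], [14, 6, 10, 13, 14, 11], [.use 1080 true, .cancel 6]⟩,
  ⟨[14, 6, 10, 13, 14, 11, 4], [10, 9, 11, 11, 7, 5, 7, 9, 11, 7, 5, 7, 9, 10, 7, 5, 7, 9, 10, 9, 5], [14, 6, 10, 13, 14, 11], [.use 1608 true, .cancel 6]⟩,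
  ⟨[14, 6, 10, 13, 14, 11, 8], [10, 5, 7, 9, 10, 7, 5, 7, 9, 10, 13, 9, 7, 5, 7, 9, 5], [14, 6, 10, 13, 14, 6], [.use 2127 true, .cancel 6]⟩,
  ⟨[14, 6, 10, 13, 14, 11, 9], [10, 5, 7, 9, 10, 7, 5, 7, 9, 10, 13, 9, 7, 5, 7, 9, 5], [14, 6, 10, 13, 14, 6], [.use 2072 true, .cancel 6]⟩,
  ⟨[14, 6, 10, 13, 14, 11, 10], [], [14, 6, 10, 13, 14], [.use 95 true, .cancel 5]⟩,
  ⟨[14, 6, 10, 13, 14, 11, 13], [10, 5, 7, 9, 10, 7, 5, 7, 9, 10, 13, 9, 7, 5, 7, 9, 5], [14, 6, 10, 14, 6, 8], [.use 1262 true, .cancel 6]⟩,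
  ⟨[14, 6, 10, 14, 11, 12, 1], [1], [14, 6, 10, 14, 11, 12], [.use 1096 true, .cancel 6]⟩,
  ⟨[14, 6, 10, 14, 11, 12, 4], [10, 9, 11, 11, 7, 5, 7, 9, 11, 7, 5, 7, 9, 10, 7, 5, 7, 9, 10, 9, 5], [14, 6, 10, 14, 11, 12], [.use 1569 true, .cancel 6]⟩,
  ⟨[14, 6, 10, 14, 11, 12, 10], [], [14, 6, 10, 13, 14, 11], [.use 268 true, .cancel 6]⟩,
  ⟨[14, 6, 10, 14, 11, 12, 11], [13, 10, 7, 9, 11, 7, 5, 7, 9, 11, 7, 9, 7], [14, 6, 8, 10, 14, 6, 8], [.use 2104 true, .cancel 7]⟩,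
  ⟨[14, 6, 10, 14, 11, 12, 13], [], [14, 6, 10, 14, 11], [.use 101 true, .cancel 5]⟩,
  ⟨[14, 6, 8, 10, 14, 6, 8, 9], [], [14, 6, 8, 10, 14, 6], [.use 111 true, .cancel 6]⟩,
  ⟨[14, 6, 10, 13, 14, 1], [1], [14, 6, 10, 13, 14], [.use 897 true, .cancel 5]⟩,
  ⟨[14, 6, 10, 13, 14, 9], [], [14, 6, 10, 8, 13, 14], [.use 260 true, .cancel 6]⟩,
  ⟨[14, 6, 10, 13, 14, 13], [], [14, 6, 10, 14], [.use 201 true, .cancel 4]⟩,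
  ⟨[14, 6, 10, 13, 14, 15], [], [14, 6, 10, 13], [.use 41 true, .cancel 4]⟩,
  ⟨[14, 6, 10, 8, 14, 10, 1], [1], [14, 6, 10, 8, 14, 10], [.use 1068 true, .cancel 6]⟩]

/-- Equations. -/
def part44 : List CFact := [
  ⟨[14, 6, 10, 8, 14, 10, 8], [], [14, 6, 8, 10, 14, 10], [.use 2125 true, .cancel 6]⟩,
  ⟨[14, 6, 10, 8, 14, 10, 9], [], [14, 6, 8, 10, 14, 10], [.use 2137 true, .cancel 6]⟩,
  ⟨[14, 6, 10, 8, 14, 10, 11], [], [14, 6, 10, 8, 14], [.use 89 true, .cancel 5]⟩,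
  ⟨[14, 6, 10, 8, 13, 14, 1], [1], [14, 6, 10, 8, 13, 14], [.use 1064 true, .cancel 6]⟩,
  ⟨[14, 6, 10, 8, 13, 14, 9], [], [14, 6, 10, 13, 14], [.use 261 true, .cancel 5]⟩,
  ⟨[14, 6, 10, 8, 13, 14, 13], [], [14, 6, 10, 8, 14], [.use 254 true, .cancel 5]⟩,
  ⟨[14, 6, 10, 8, 13, 14, 15], [], [14, 6, 10, 8, 13], [.use 87 true, .cancel 5]⟩,
  ⟨[14, 6, 10, 14, 6, 11, 0], [1], [14, 6, 10, 14, 6, 11], [.use 2130 true, .cancel 6]⟩,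
  ⟨[14, 6, 10, 14, 6, 11, 4], [11, 11, 9, 10, 7, 9, 11, 5, 7, 9, 10, 5, 7, 9, 11, 5, 7, 9, 11, 5, 7, 9], [14, 6, 10, 14, 6, 11], [.use 2105 true, .cancel 6]⟩,
  ⟨[14, 6, 10, 14, 6, 11, 7], [], [14, 6, 10, 14, 10], [.use 263 true, .cancel 5]⟩,
  ⟨[14, 6, 10, 14, 6, 11, 8], [13, 11, 9, 11, 7, 5, 7, 9, 11, 7, 5, 7, 9, 10, 7, 5, 7, 9, 5, 7], [14, 6, 8, 10, 14, 10, 13], [.use 2109 true, .cancel 7]⟩,
  ⟨[14, 6, 10, 14, 6, 11, 9], [13, 11, 9, 11, 7, 5, 7, 9, 11, 7, 5, 7, 9, 10, 7, 5, 7, 9, 5, 7], [14, 6, 8, 10, 14, 10, 13], [.use 2108 true, .cancel 7]⟩,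
  ⟨[14, 6, 10, 14, 6, 11, 10], [], [14, 6, 10, 14, 6], [.use 97 true, .cancel 5]⟩,
  ⟨[14, 6, 14, 10, 8, 1], [1], [14, 6, 14, 10, 8], [.use 955 true, .cancel 5]⟩,
  ⟨[14, 6, 14, 10, 8, 9], [], [14, 6, 14, 10], [.use 52 true, .cancel 4]⟩,
  ⟨[14, 6, 14, 10, 8, 11], [11, 9, 11, 7, 9, 11, 12, 5, 7, 9, 11, 7, 5, 7, 9, 5, 7], [14, 6, 10, 14, 6], [.use 1618 true, .cancel 5]⟩,
  ⟨[14, 6, 10, 14, 11, 0], [1], [14, 6, 10, 14, 11], [.use 901 true, .cancel 5]⟩,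
  ⟨[14, 6, 10, 14, 11, 9], [9, 11, 11, 7, 9, 11, 5, 7, 9, 10, 5, 7, 9, 10, 5, 7, 9, 7, 5], [14, 6, 10, 10, 14, 10], [.use 2126 true, .cancel 6]⟩,
  ⟨[14, 6, 10, 14, 11, 10], [], [14, 6, 10, 14], [.use 44 true, .cancel 4]⟩,
  ⟨[14, 6, 8, 14, 10, 1], [1], [14, 6, 8, 14, 10], [.use 879 true, .cancel 5]⟩,
  ⟨[14, 6, 8, 14, 10, 5], [10, 9, 11, 11, 7, 5, 7, 9, 11, 7, 5, 7, 9, 10, 7, 5, 7, 9, 10, 9, 5], [14, 6, 8, 14, 10], [.use 2046 true, .cancel 5]⟩,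
  ⟨[14, 6, 8, 14, 10, 7], [5, 7, 9, 5], [14, 6, 14, 11], [.use 285 true, .cancel 4]⟩,
  ⟨[14, 6, 8, 14, 10, 9], [], [14, 6, 8, 14, 10, 8], [.use 300 true, .cancel 6]⟩,
  ⟨[14, 6, 8, 14, 10, 11], [], [14, 6, 8, 14], [.use 33 true, .cancel 4]⟩,
  ⟨[14, 6, 8, 14, 10, 10, 1], [1], [14, 6, 8, 14, 10, 10], [.use 1025 true, .cancel 6]⟩,
  ⟨[14, 6, 8, 14, 10, 10, 5], [10, 9, 11, 11, 7, 5, 7, 9, 11, 7, 5, 7, 9, 10, 7, 5, 7, 9, 10, 9, 5], [14, 6, 8, 14, 10, 10], [.use 2101 true, .cancel 6]⟩,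
  ⟨[14, 6, 8, 14, 10, 10, 7], [5, 7, 9, 5], [14, 6, 14, 11, 11], [.use 291 true, .cancel 5]⟩,
  ⟨[14, 6, 8, 14, 10, 10, 10], [12], [14, 6, 8, 14, 11, 13], [.use 302 true, .cancel 6]⟩,
  ⟨[14, 6, 8, 14, 10, 10, 11], [], [14, 6, 8, 14, 10], [.use 72 true, .cancel 5]⟩,
  ⟨[14, 6, 8, 14, 10, 10, 13], [13], [14, 6, 8, 14, 10], [.use 245 true, .cancel 5]⟩,
  ⟨[14, 6, 8, 14, 11, 13, 0], [1], [14, 6, 8, 14, 11, 13], [.use 1032 true, .cancel 6]⟩,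
  ⟨[14, 6, 8, 14, 11, 13, 4], [10, 9, 11, 11, 7, 5, 7, 9, 11, 7, 5, 7, 9, 10, 7, 5, 7, 9, 10, 9, 5], [14, 6, 8, 14, 11, 13], [.use 2113 true, .cancel 6]⟩,
  ⟨[14, 6, 8, 14, 11, 13, 6], [5, 7, 9, 5], [14, 6, 14, 10, 13], [.use 281 true, .cancel 5]⟩,
  ⟨[14, 6, 8, 14, 11, 13, 12], [], [14, 6, 8, 14, 11], [.use 76 true, .cancel 5]⟩,
  ⟨[14, 6, 8, 14, 11, 13, 13], [12], [14, 6, 8, 14, 11, 11], [.use 305 true, .cancel 6]⟩,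
  ⟨[14, 6, 8, 14, 11, 13, 15], [], [14, 6, 8, 10, 14, 10, 12], [.use 1038 true, .cancel 7]⟩,
  ⟨[14, 6, 8, 14, 10, 13, 0], [1], [14, 6, 8, 14, 10, 13], [.use 1026 true, .cancel 6]⟩,
  ⟨[14, 6, 8, 14, 10, 13, 5], [10, 9, 11, 11, 7, 5, 7, 9, 11, 7, 5, 7, 9, 10, 7, 5, 7, 9, 10, 9, 5], [14, 6, 8, 14, 10, 13], [.use 2116 true, .cancel 6]⟩,
  ⟨[14, 6, 8, 14, 10, 13, 6], [5, 7, 9, 5], [14, 6, 14, 11, 13], [.use 290 true, .cancel 5]⟩,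
  ⟨[14, 6, 8, 14, 10, 13, 11], [], [14, 6, 8, 14, 11, 13], [.use 247 true, .cancel 6]⟩,
  ⟨[14, 6, 8, 14, 10, 13, 12], [], [14, 6, 8, 14, 10], [.use 73 true, .cancel 5]⟩,
  ⟨[14, 6, 8, 14, 10, 13, 13], [12], [14, 6, 8, 14, 10, 10], [.use 301 true, .cancel 6]⟩,
  ⟨[14, 6, 8, 14, 10, 13, 15], [9, 11, 5, 7, 9, 11, 13, 5, 7, 9, 11, 5, 7, 9, 11, 11, 5, 7, 9], [14, 6, 10, 8, 12, 11], [.use 2087 true, .cancel 6]⟩,
  ⟨[14, 6, 8, 10, 7], [9], [14, 6, 8, 11], [.use 228 true, .cancel 4]⟩,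
  ⟨[14, 6, 8, 10, 9], [], [14, 6, 8, 10, 8], [.use 229 true, .cancel 5]⟩,
  ⟨[14, 6, 8, 10, 11], [], [14, 6, 8], [.use 12 true, .cancel 3]⟩,
  ⟨[14, 6, 10, 8, 14, 1], [1], [14, 6, 10, 8, 14], [.use 887 true, .cancel 5]⟩,
  ⟨[14, 6, 10, 8, 14, 7], [], [14, 6, 10, 8, 14, 6], [.use 324 true, .cancel 6]⟩,
  ⟨[14, 6, 10, 8, 14, 9], [], [14, 6, 10, 14], [.use 199 true, .cancel 4]⟩,
  ⟨[14, 6, 10, 8, 14, 13], [], [14, 6, 10, 8, 12, 14], [.use 253 true, .cancel 6]⟩,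
  ⟨[14, 6, 10, 8, 14, 15], [], [14, 6, 10, 8], [.use 39 true, .cancel 4]⟩,
  ⟨[14, 6, 10, 8, 10, 1], [1], [14, 6, 10, 8, 10], [.use 881 true, .cancel 5]⟩,
  ⟨[14, 6, 10, 8, 10, 5], [10, 9, 11, 11, 7, 5, 7, 9, 11, 7, 5, 7, 9, 10, 7, 5, 7, 9, 10, 9, 5], [14, 6, 10, 8, 10], [.use 2049 true, .cancel 5]⟩,
  ⟨[14, 6, 10, 8, 10, 7], [10, 9, 11, 9], [14, 6, 10, 8, 11], [.use 308 true, .cancel 5]⟩,
  ⟨[14, 6, 10, 8, 10, 9], [], [14, 6, 10, 8, 10, 8], [.use 309 true, .cancel 6]⟩,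
  ⟨[14, 6, 10, 8, 10, 11], [], [14, 6, 10, 8], [.use 35 true, .cancel 4]⟩,
  ⟨[14, 6, 10, 8, 10, 15], [9, 11, 9, 11, 7, 5, 7, 9, 10, 7, 5, 7, 9, 10, 10, 7, 5, 7, 9, 11, 5], [14, 6, 10, 8, 10, 14], [.use 2047 true, .cancel 6]⟩,
  ⟨[14, 6, 10, 8, 10, 14, 1], [1], [14, 6, 10, 8, 10, 14], [.use 1050 true, .cancel 6]⟩,
  ⟨[14, 6, 10, 8, 10, 14, 5], [10, 9, 11, 11, 7, 5, 7, 9, 11, 7, 5, 7, 9, 10, 7, 5, 7, 9, 10, 9, 5], [14, 6, 10, 8, 10, 14], [.use 2048 true, .cancel 6]⟩,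
  ⟨[14, 6, 10, 8, 10, 14, 7], [13, 10, 9, 11, 7, 9, 10, 5, 7, 9, 10, 5, 7, 9, 11, 12, 9, 5, 7], [14, 6, 14, 11, 8, 10], [.use 2052 true, .cancel 6]⟩,
  ⟨[14, 6, 10, 8, 10, 14, 15], [], [14, 6, 10, 8, 10], [.use 81 true, .cancel 5]⟩,
  ⟨[14, 6, 8, 11, 14, 10, 1], [1], [14, 6, 8, 11, 14, 10], [.use 1019 true, .cancel 6]⟩,
  ⟨[14, 6, 8, 11, 14, 10, 11], [], [14, 6, 8, 11, 14], [.use 70 true, .cancel 5]⟩,
  ⟨[14, 6, 8, 11, 14, 1], [1], [14, 6, 8, 11, 14], [.use 874 true, .cancel 5]⟩]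

/-- Equations. -/
def part45 : List CFact := [
  ⟨[14, 6, 8, 11, 14, 7], [], [14, 6, 8, 11, 14, 6], [.use 299 true, .cancel 6]⟩,
  ⟨[14, 6, 8, 11, 14, 15], [], [14, 6, 8, 11], [.use 32 true, .cancel 4]⟩,
  ⟨[14, 6, 8, 14, 11, 8, 12, 1], [1], [14, 6, 8, 14, 11, 8, 12], [.use 1146 true, .cancel 7]⟩,
  ⟨[14, 6, 8, 14, 11, 8, 12, 9], [12], [14, 6, 8, 14, 11, 11], [.use 307 true, .cancel 6]⟩,
  ⟨[14, 6, 8, 14, 11, 8, 12, 13], [], [14, 6, 8, 14, 11, 8], [.use 117 true, .cancel 6]⟩,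
  ⟨[14, 6, 8, 10, 14, 10, 12, 1], [1], [14, 6, 8, 10, 14, 10, 12], [.use 1131 true, .cancel 7]⟩,
  ⟨[14, 6, 8, 10, 14, 10, 12, 13], [], [14, 6, 8, 10, 14, 10], [.use 113 true, .cancel 6]⟩,
  ⟨[14, 6, 10, 8, 14, 6, 1], [1], [14, 6, 10, 8, 14, 6], [.use 2123 true, .cancel 6]⟩,
  ⟨[14, 6, 10, 8, 14, 6, 4], [7, 9, 10, 7, 5, 7, 9, 11, 7, 5, 7, 9, 10, 7, 5, 7, 9, 11, 5, 7], [14, 6, 10, 8, 14, 6], [.use 2040 true, .cancel 6]⟩,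
  ⟨[14, 6, 10, 8, 14, 6, 7], [], [14, 6, 10, 8, 14], [.use 88 true, .cancel 5]⟩,
  ⟨[14, 6, 10, 8, 14, 6, 10], [10, 7, 9, 10, 5, 7, 9, 10, 7, 5, 7, 9, 10, 10, 5], [14, 6, 8, 10, 14, 6, 8], [.use 2119 true, .cancel 7]⟩,
  ⟨[14, 6, 10, 13, 14, 10, 1], [1], [14, 6, 10, 13, 14, 10], [.use 1081 true, .cancel 6]⟩,
  ⟨[14, 6, 10, 13, 14, 10, 8], [9, 11, 13, 7, 9, 11, 11, 5, 7, 9, 11, 5, 7, 9, 11, 5, 7, 9, 5], [14, 6, 8, 14, 10, 10], [.use 2045 true, .cancel 6]⟩,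
  ⟨[14, 6, 10, 13, 14, 10, 9], [9, 11, 13, 7, 9, 11, 11, 5, 7, 9, 11, 5, 7, 9, 11, 5, 7, 9, 5], [14, 6, 8, 14, 10, 10], [.use 2044 true, .cancel 6]⟩,
  ⟨[14, 6, 10, 13, 14, 10, 10], [], [14, 6, 10, 14, 10, 12], [.use 267 true, .cancel 6]⟩,
  ⟨[14, 6, 10, 13, 14, 10, 11], [], [14, 6, 10, 13, 14], [.use 94 true, .cancel 5]⟩,
  ⟨[14, 6, 10, 13, 14, 10, 13], [9, 11, 12, 7, 9, 11, 5, 7, 9, 10, 5, 7, 9, 10, 5, 7, 9, 7, 5], [14, 6, 8, 14, 10, 8], [.use 2143 true, .cancel 6]⟩,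
  ⟨[14, 6, 10, 13, 14, 10, 14], [7, 9, 11, 7, 9, 10, 5, 7, 9, 10, 12, 5, 7, 9, 11, 5, 7, 9, 10, 5, 1], [14, 6, 8, 10, 8, 6], [.use 2121 true, .cancel 6]⟩,
  ⟨[14, 6, 10, 14, 10, 12, 1], [1], [14, 6, 10, 14, 10, 12], [.use 1090 true, .cancel 6]⟩,
  ⟨[14, 6, 10, 14, 10, 12, 10], [13, 11, 9, 11, 7, 5, 7, 9, 11, 7, 5, 7, 9, 10, 7, 5, 7, 9, 5, 7], [14, 6, 10, 8, 14, 6], [.use 1908 true, .cancel 6]⟩,
  ⟨[14, 6, 10, 14, 10, 12, 13], [], [14, 6, 10, 14, 10], [.use 99 true, .cancel 5]⟩,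
  ⟨[14, 6, 10, 8, 14, 11, 0], [1], [14, 6, 10, 8, 14, 11], [.use 1067 true, .cancel 6]⟩,
  ⟨[14, 6, 10, 8, 14, 11, 8], [9, 11, 13, 7, 9, 11, 11, 5, 7, 9, 11, 5, 7, 9, 11, 5, 7, 9, 5], [14, 6, 8, 14, 11, 13], [.use 2103 true, .cancel 6]⟩,
  ⟨[14, 6, 10, 8, 14, 11, 9], [9, 11, 13, 7, 9, 11, 11, 5, 7, 9, 11, 5, 7, 9, 11, 5, 7, 9, 5], [14, 6, 8, 14, 11, 13], [.use 2139 true, .cancel 6]⟩,
  ⟨[14, 6, 10, 8, 14, 11, 10], [], [14, 6, 10, 8, 14], [.use 90 true, .cancel 5]⟩,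
  ⟨[14, 6, 8, 10, 14, 11, 0], [1], [14, 6, 8, 10, 14, 11], [.use 992 true, .cancel 6]⟩,
  ⟨[14, 6, 8, 10, 14, 11, 10], [], [14, 6, 8, 10, 14], [.use 64 true, .cancel 5]⟩,
  ⟨[14, 6, 10, 10, 14, 10, 1], [1], [14, 6, 10, 10, 14, 10], [.use 1078 true, .cancel 6]⟩,
  ⟨[14, 6, 10, 10, 14, 10, 5], [10, 9, 11, 11, 7, 5, 7, 9, 11, 7, 5, 7, 9, 10, 7, 5, 7, 9, 10, 9, 5], [14, 6, 10, 10, 14, 10], [.use 1567 true, .cancel 6]⟩,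
  ⟨[14, 6, 10, 10, 14, 10, 7], [13, 7, 5, 7, 9, 11, 7, 5, 7, 9, 11, 7, 5, 7, 9, 10, 9, 7], [14, 6, 8, 14, 11, 8], [.use 2136 true, .cancel 6]⟩,
  ⟨[14, 6, 10, 10, 14, 10, 9], [9, 10, 5, 7, 9, 10, 5, 7, 9, 10, 7, 5, 7, 9, 11, 11, 5, 7, 9], [14, 6, 10, 14, 11], [.use 2124 true, .cancel 5]⟩,
  ⟨[14, 6, 10, 10, 14, 10, 11], [], [14, 6, 10, 10, 14], [.use 91 true, .cancel 5]⟩,
  ⟨[14, 6, 10, 10, 14, 10, 14], [], [14, 6, 10, 14, 11], [.use 842 true, .cancel 5]⟩,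
  ⟨[14, 6, 10, 10, 14, 1], [1], [14, 6, 10, 10, 14], [.use 891 true, .cancel 5]⟩,
  ⟨[14, 6, 10, 10, 14, 5], [10, 9, 11, 11, 7, 5, 7, 9, 11, 7, 5, 7, 9, 10, 7, 5, 7, 9, 10, 9, 5], [14, 6, 10, 10, 14], [.use 2058 true, .cancel 5]⟩,
  ⟨[14, 6, 10, 10, 14, 7], [13, 7, 5, 7, 9, 11, 7, 5, 7, 9, 11, 7, 5, 7, 9, 10, 9, 7], [14, 6, 10, 8, 11, 14], [.use 2129 true, .cancel 6]⟩,
  ⟨[14, 6, 10, 10, 14, 9], [12], [14, 6, 10, 8, 12, 14], [.use 257 true, .cancel 6]⟩,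
  ⟨[14, 6, 10, 10, 14, 13], [12], [14, 6, 10, 13, 14], [.use 259 true, .cancel 5]⟩,
  ⟨[14, 6, 10, 10, 14, 15], [], [14, 6, 10, 10], [.use 40 true, .cancel 4]⟩,
  ⟨[14, 6, 11, 8, 12, 10, 1], [1], [14, 6, 11, 8, 12, 10], [.use 1103 true, .cancel 6]⟩,
  ⟨[14, 6, 11, 8, 12, 10, 7], [11, 9, 10, 9], [14, 6, 11, 8, 12, 11], [.use 360 true, .cancel 6]⟩,
  ⟨[14, 6, 11, 8, 12, 10, 11], [], [14, 6, 11, 8, 12], [.use 104 true, .cancel 5]⟩,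
  ⟨[14, 6, 10, 8, 12, 1], [1], [14, 6, 10, 8, 12], [.use 883 true, .cancel 5]⟩,
  ⟨[14, 6, 10, 8, 12, 7], [10, 9, 11, 9], [14, 6, 10, 8, 12], [.use 226 true, .cancel 5]⟩,
  ⟨[14, 6, 10, 8, 12, 9], [13], [14, 6, 10, 10], [.use 195 true, .cancel 4]⟩,
  ⟨[14, 6, 10, 8, 12, 10], [12], [14, 6, 8, 11, 8, 13], [.use 255 true, .cancel 6]⟩,
  ⟨[14, 6, 10, 8, 12, 13], [], [14, 6, 10, 8], [.use 37 true, .cancel 4]⟩,
  ⟨[14, 6, 10, 8, 12, 14, 1], [1], [14, 6, 10, 8, 12, 14], [.use 1061 true, .cancel 6]⟩,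
  ⟨[14, 6, 10, 8, 12, 14, 9], [13], [14, 6, 10, 10, 14], [.use 258 true, .cancel 5]⟩,
  ⟨[14, 6, 10, 8, 12, 14, 13], [], [14, 6, 10, 8, 13, 14], [.use 322 true, .cancel 6]⟩,
  ⟨[14, 6, 10, 8, 12, 14, 15], [], [14, 6, 10, 8, 12], [.use 85 true, .cancel 5]⟩,
  ⟨[14, 6, 10, 8, 10, 13, 14, 1], [1], [14, 6, 10, 8, 10, 13, 14], [.use 1150 true, .cancel 7]⟩,
  ⟨[14, 6, 10, 8, 10, 13, 14, 13], [], [14, 6, 10, 8, 10, 14], [.use 314 true, .cancel 6]⟩,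
  ⟨[14, 6, 10, 8, 10, 13, 14, 15], [], [14, 6, 10, 8, 10, 13], [.use 118 true, .cancel 6]⟩,
  ⟨[14, 6, 10, 8, 10, 12, 1], [1], [14, 6, 10, 8, 10, 12], [.use 1049 true, .cancel 6]⟩,
  ⟨[14, 6, 10, 8, 10, 12, 4], [10, 9, 11, 11, 7, 5, 7, 9, 11, 7, 5, 7, 9, 10, 7, 5, 7, 9, 10, 9, 5], [14, 6, 10, 8, 10, 12], [.use 2131 true, .cancel 6]⟩,
  ⟨[14, 6, 10, 8, 10, 12, 7], [10, 9, 11, 9], [14, 6, 10, 8, 11, 12], [.use 311 true, .cancel 6]⟩,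
  ⟨[14, 6, 10, 8, 10, 12, 8], [], [14, 6, 11, 8, 12, 11], [.use 359 true, .cancel 6]⟩,
  ⟨[14, 6, 10, 8, 10, 12, 13], [], [14, 6, 10, 8, 10], [.use 79 true, .cancel 5]⟩,
  ⟨[14, 6, 8, 11, 8, 11, 8, 1], [1], [14, 6, 8, 11, 8, 11, 8], [.use 1140 true, .cancel 7]⟩,
  ⟨[14, 6, 8, 11, 8, 11, 8, 5], [10, 9, 11, 11, 7, 5, 7, 9, 11, 7, 5, 7, 9, 10, 7, 5, 7, 9, 10, 9, 5], [14, 6, 8, 11, 8, 11, 8], [.use 1520 true, .cancel 7]⟩,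
  ⟨[14, 6, 8, 11, 8, 11, 8, 6], [11, 9, 10, 13], [14, 6, 8, 11, 8, 11, 13], [.use 354 true, .cancel 7]⟩,
  ⟨[14, 6, 8, 11, 8, 11, 8, 9], [], [14, 6, 8, 11, 8, 11], [.use 115 true, .cancel 6]⟩,
  ⟨[14, 6, 8, 11, 8, 11, 8, 11], [12], [14, 6, 10, 8, 10, 12], [.use 320 true, .cancel 6]⟩]

/-- Equations. -/
def part46 : List CFact := [
  ⟨[14, 6, 8, 11, 8, 11, 8, 15], [9, 10, 5, 7, 9, 10, 5, 7, 9, 10, 7, 5, 7, 9, 11, 11, 5, 7, 9], [14, 6, 8, 11, 8, 11, 13], [.use 2133 true, .cancel 7]⟩,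
  ⟨[14, 6, 8, 11, 8, 13, 0], [1], [14, 6, 8, 11, 8, 13], [.use 1006 true, .cancel 6]⟩,
  ⟨[14, 6, 8, 11, 8, 13, 4], [10, 9, 11, 11, 7, 5, 7, 9, 11, 7, 5, 7, 9, 10, 7, 5, 7, 9, 10, 9, 5], [14, 6, 8, 11, 8, 13], [.use 2033 true, .cancel 6]⟩,
  ⟨[14, 6, 8, 11, 8, 13, 8], [], [14, 6, 8, 11, 13], [.use 243 true, .cancel 5]⟩,
  ⟨[14, 6, 8, 11, 8, 13, 10], [13], [14, 6, 10, 8, 10, 12], [.use 313 true, .cancel 6]⟩,
  ⟨[14, 6, 8, 11, 8, 13, 12], [], [14, 6, 8, 11, 8], [.use 68 true, .cancel 5]⟩,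
  ⟨[14, 6, 8, 10, 8, 6, 1], [1], [14, 6, 8, 10, 8, 6], [.use 976 true, .cancel 6]⟩,
  ⟨[14, 6, 8, 10, 8, 6, 4], [11, 11, 9, 7, 5, 7, 9, 10, 9, 7, 5, 7, 9, 10, 7, 5, 7, 5], [14, 6, 8, 10, 8, 6], [.use 2050 true, .cancel 6]⟩,
  ⟨[14, 6, 8, 10, 8, 6, 7], [], [14, 6, 8, 10, 8], [.use 58 true, .cancel 5]⟩,
  ⟨[14, 6, 8, 10, 8, 6, 9], [9], [14, 6, 8, 11, 8, 6], [.use 294 true, .cancel 6]⟩,
  ⟨[14, 6, 8, 10, 8, 6, 11], [10, 10, 9, 11, 11], [14, 6, 8, 10, 8], [.use 333 true, .cancel 5]⟩,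
  ⟨[14, 6, 8, 10, 8, 6, 13], [12, 11, 9, 10, 9], [14, 6, 11, 8, 10, 10], [.use 334 true, .cancel 6]⟩,
  ⟨[14, 6, 8, 10, 8, 6, 14], [12, 11, 9, 11, 7, 9, 11, 12, 5, 7, 9, 11, 5, 7, 9, 11, 5, 7, 9, 5], [14, 6, 10, 13, 14, 10], [.use 2120 true, .cancel 6]⟩,
  ⟨[14, 6, 8, 10, 8, 7], [], [14, 6, 8, 10, 8, 6], [.use 293 true, .cancel 6]⟩,
  ⟨[14, 6, 8, 10, 8, 9], [], [14, 6, 8, 10], [.use 25 true, .cancel 4]⟩,
  ⟨[14, 6, 10, 14, 6, 8, 0], [1], [14, 6, 10, 14, 6, 8], [.use 1257 true, .cancel 6]⟩,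
  ⟨[14, 6, 10, 14, 6, 8, 5], [11, 11, 9, 10, 7, 9, 11, 5, 7, 9, 10, 5, 7, 9, 11, 5, 7, 9, 11, 5, 7, 9], [14, 6, 10, 14, 6, 8], [.use 1609 true, .cancel 6]⟩,
  ⟨[14, 6, 10, 14, 6, 8, 9], [], [14, 6, 10, 14, 6], [.use 96 true, .cancel 5]⟩,
  ⟨[14, 6, 10, 8, 13, 11, 0], [1], [14, 6, 10, 8, 13, 11], [.use 1062 true, .cancel 6]⟩,
  ⟨[14, 6, 10, 8, 13, 11, 4], [10, 9, 11, 11, 7, 5, 7, 9, 11, 7, 5, 7, 9, 10, 7, 5, 7, 9, 10, 9, 5], [14, 6, 10, 8, 13, 11], [.use 1519 true, .cancel 6]⟩,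
  ⟨[14, 6, 10, 8, 13, 11, 7], [10, 9, 11, 12, 9], [14, 6, 8, 11, 8, 11], [.use 323 true, .cancel 6]⟩,
  ⟨[14, 6, 10, 8, 13, 11, 9], [12], [14, 6, 10, 8, 10, 10], [.use 357 true, .cancel 6]⟩,
  ⟨[14, 6, 10, 8, 13, 11, 10], [], [14, 6, 10, 8, 13], [.use 86 true, .cancel 5]⟩,
  ⟨[14, 6, 10, 8, 13, 11, 13], [13], [14, 6, 8, 11, 8, 11, 8], [.use 346 true, .cancel 7]⟩,
  ⟨[14, 6, 10, 8, 10, 10, 1], [1], [14, 6, 10, 8, 10, 10], [.use 1046 true, .cancel 6]⟩,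
  ⟨[14, 6, 10, 8, 10, 10, 4], [10, 9, 11, 11, 7, 5, 7, 9, 11, 7, 5, 7, 9, 10, 7, 5, 7, 9, 10, 9, 5], [14, 6, 10, 8, 10, 10], [.use 2114 true, .cancel 6]⟩,
  ⟨[14, 6, 10, 8, 10, 10, 9], [13], [14, 6, 10, 8, 13, 11], [.use 356 true, .cancel 6]⟩,
  ⟨[14, 6, 10, 8, 10, 10, 11], [], [14, 6, 10, 8, 10], [.use 78 true, .cancel 5]⟩,
  ⟨[14, 6, 10, 8, 10, 10, 13], [12], [14, 6, 8, 11, 8, 11], [.use 251 true, .cancel 6]⟩,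
  ⟨[14, 6, 8, 11, 14, 6, 7], [], [14, 6, 8, 11, 14], [.use 69 true, .cancel 5]⟩,
  ⟨[14, 6, 10, 8, 11, 12, 1], [1], [14, 6, 10, 8, 11, 12], [.use 1052 true, .cancel 6]⟩,
  ⟨[14, 6, 10, 8, 11, 12, 4], [10, 9, 11, 11, 7, 5, 7, 9, 11, 7, 5, 7, 9, 10, 7, 5, 7, 9, 10, 9, 5], [14, 6, 10, 8, 11, 12], [.use 2138 true, .cancel 6]⟩,
  ⟨[14, 6, 10, 8, 11, 12, 7], [10, 9, 11, 9], [14, 6, 10, 8, 10, 12], [.use 312 true, .cancel 6]⟩,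
  ⟨[14, 6, 10, 8, 11, 12, 9], [12], [14, 6, 11, 8, 10, 13], [.use 336 true, .cancel 6]⟩,
  ⟨[14, 6, 10, 8, 11, 12, 10], [], [14, 6, 10, 8, 12, 11], [.use 252 true, .cancel 6]⟩,
  ⟨[14, 6, 10, 8, 11, 12, 11], [12], [14, 6, 8, 11, 8, 11, 13], [.use 349 true, .cancel 7]⟩,
  ⟨[14, 6, 10, 8, 11, 12, 12], [12], [14, 6, 8, 11, 8, 10], [.use 345 true, .cancel 6]⟩,
  ⟨[14, 6, 10, 8, 11, 12, 13], [], [14, 6, 10, 8, 11], [.use 82 true, .cancel 5]⟩,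
  ⟨[14, 6, 8, 11, 8, 6, 1], [1], [14, 6, 8, 11, 8, 6], [.use 1127 true, .cancel 6]⟩,
  ⟨[14, 6, 8, 11, 8, 6, 4], [10, 9, 7, 5, 7, 9, 11, 9, 11, 9, 7, 5, 7, 9, 10, 7, 5, 7, 9, 5], [14, 6, 8, 11, 8, 6], [.use 2054 true, .cancel 6]⟩,
  ⟨[14, 6, 8, 11, 8, 6, 7], [], [14, 6, 8, 11, 8], [.use 65 true, .cancel 5]⟩,
  ⟨[14, 6, 8, 11, 8, 6, 9], [9], [14, 6, 8, 10, 8, 6], [.use 298 true, .cancel 6]⟩,
  ⟨[14, 6, 8, 11, 8, 6, 10], [13, 10, 9, 11, 9], [14, 6, 10, 8, 13, 11], [.use 344 true, .cancel 6]⟩,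
  ⟨[14, 6, 8, 11, 8, 6, 11], [13, 10, 9, 11, 9], [14, 6, 10, 8, 10, 13], [.use 340 true, .cancel 6]⟩,
  ⟨[14, 6, 8, 11, 8, 6, 15], [10, 5, 7, 9, 11, 12, 5, 7, 9, 11, 5, 7, 9, 11, 7, 5, 7, 9, 10, 1], [14, 6, 8, 14, 10, 10], [.use 2089 true, .cancel 6]⟩,
  ⟨[14, 6, 8, 10, 8, 11, 0], [1], [14, 6, 8, 10, 8, 11], [.use 975 true, .cancel 6]⟩,
  ⟨[14, 6, 8, 10, 8, 11, 5], [10, 9, 11, 11, 7, 5, 7, 9, 11, 7, 5, 7, 9, 10, 7, 5, 7, 9, 10, 9, 5], [14, 6, 8, 10, 8, 11], [.use 2057 true, .cancel 6]⟩,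
  ⟨[14, 6, 8, 10, 8, 11, 7], [11, 9, 11, 13, 5, 7, 9, 10, 5, 7, 9, 10, 5, 7, 9, 11, 5, 7, 9, 7, 1], [14, 6, 11, 13, 14], [.use 2135 true, .cancel 5]⟩,
  ⟨[14, 6, 8, 10, 8, 11, 9], [], [14, 6, 10, 8, 11], [.use 249 true, .cancel 5]⟩,
  ⟨[14, 6, 8, 10, 8, 11, 10], [], [14, 6, 8, 10, 8], [.use 59 true, .cancel 5]⟩,
  ⟨[14, 6, 8, 10, 8, 11, 11], [12], [14, 6, 11, 8, 12, 10], [.use 231 true, .cancel 6]⟩,
  ⟨[14, 6, 8, 10, 8, 11, 13], [12], [14, 6, 11, 8, 10], [.use 272 true, .cancel 5]⟩,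
  ⟨[14, 6, 8, 10, 8, 11, 15], [9, 11, 9, 11, 7, 5, 7, 9, 10, 7, 5, 7, 9, 10, 10, 7, 5, 7, 9, 11, 5], [14, 6, 14, 11, 8, 10], [.use 2055 true, .cancel 6]⟩,
  ⟨[14, 6, 8, 10, 8, 12, 1], [1], [14, 6, 8, 10, 8, 12], [.use 978 true, .cancel 6]⟩,
  ⟨[14, 6, 8, 10, 8, 12, 6], [12, 11, 9, 10, 9], [14, 6, 11, 8, 13, 10], [.use 332 true, .cancel 6]⟩,
  ⟨[14, 6, 8, 10, 8, 12, 7], [12, 11, 9, 10, 9], [14, 6, 11, 8, 13, 10], [.use 329 true, .cancel 6]⟩,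
  ⟨[14, 6, 8, 10, 8, 12, 9], [13], [14, 6, 8, 10, 10], [.use 237 true, .cancel 5]⟩,
  ⟨[14, 6, 8, 10, 8, 12, 10], [12], [14, 6, 11, 8, 13], [.use 256 true, .cancel 5]⟩,
  ⟨[14, 6, 8, 10, 8, 12, 13], [], [14, 6, 8, 10, 8], [.use 60 true, .cancel 5]⟩,
  ⟨[14, 6, 8, 10, 10, 1], [1], [14, 6, 8, 10, 10], [.use 860 true, .cancel 5]⟩,
  ⟨[14, 6, 8, 10, 10, 4], [10, 9, 11, 11, 7, 5, 7, 9, 11, 7, 5, 7, 9, 10, 7, 5, 7, 9, 10, 9, 5], [14, 6, 8, 10, 10], [.use 2053 true, .cancel 5]⟩,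
  ⟨[14, 6, 8, 10, 10, 7], [9], [14, 6, 8, 11, 11], [.use 234 true, .cancel 5]⟩,
  ⟨[14, 6, 8, 10, 10, 9], [12], [14, 6, 8, 10, 8, 12], [.use 236 true, .cancel 6]⟩,
  ⟨[14, 6, 8, 10, 10, 10], [13], [14, 6, 8, 11, 13], [.use 238 true, .cancel 5]⟩]

/-- Equations. -/
def part47 : List CFact := [
  ⟨[14, 6, 8, 10, 10, 11], [], [14, 6, 8, 10], [.use 26 true, .cancel 4]⟩,
  ⟨[14, 6, 8, 10, 10, 13], [12], [14, 6, 8, 10], [.use 186 true, .cancel 4]⟩,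
  ⟨[14, 6, 8, 11, 13, 0], [1], [14, 6, 8, 11, 13], [.use 730 true, .cancel 5]⟩,
  ⟨[14, 6, 8, 11, 13, 6], [9], [14, 6, 8, 10, 13], [.use 233 true, .cancel 5]⟩,
  ⟨[14, 6, 8, 11, 13, 8], [], [14, 6, 8, 11, 8, 13], [.use 244 true, .cancel 6]⟩,
  ⟨[14, 6, 8, 11, 13, 12], [], [14, 6, 8, 11], [.use 31 true, .cancel 4]⟩,
  ⟨[14, 6, 8, 11, 13, 13], [13], [14, 6, 8, 11, 11], [.use 242 true, .cancel 5]⟩,
  ⟨[14, 6, 10, 8, 11, 0], [1], [14, 6, 10, 8, 11], [.use 785 true, .cancel 5]⟩,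
  ⟨[14, 6, 10, 8, 11, 7], [10, 9, 11, 9], [14, 6, 10, 8, 10], [.use 248 true, .cancel 5]⟩,
  ⟨[14, 6, 10, 8, 11, 9], [], [14, 6, 8, 10, 8, 11], [.use 315 true, .cancel 6]⟩,
  ⟨[14, 6, 10, 8, 11, 10], [], [14, 6, 10, 8], [.use 36 true, .cancel 4]⟩,
  ⟨[14, 6, 8, 10, 13, 0], [1], [14, 6, 8, 10, 13], [.use 685 true, .cancel 5]⟩,
  ⟨[14, 6, 8, 10, 13, 6], [9], [14, 6, 8, 11, 13], [.use 235 true, .cancel 5]⟩,
  ⟨[14, 6, 8, 10, 13, 11], [], [14, 6, 8, 11, 13], [.use 188 true, .cancel 5]⟩,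
  ⟨[14, 6, 8, 10, 13, 12], [], [14, 6, 8, 10], [.use 27 true, .cancel 4]⟩,
  ⟨[14, 6, 8, 10, 13, 13], [13], [14, 6, 8, 10, 10], [.use 232 true, .cancel 5]⟩,
  ⟨[14, 6, 8, 10, 10, 14, 1], [1], [14, 6, 8, 10, 10, 14], [.use 984 true, .cancel 6]⟩,
  ⟨[14, 6, 8, 10, 10, 14, 4], [10, 9, 11, 11, 7, 5, 7, 9, 11, 7, 5, 7, 9, 10, 7, 5, 7, 9, 10, 9, 5], [14, 6, 8, 10, 10, 14], [.use 2112 true, .cancel 6]⟩,
  ⟨[14, 6, 8, 10, 10, 14, 9], [7, 9, 11, 7, 9, 10, 5, 7, 9, 10, 7, 5, 7, 9, 11, 12, 5, 7, 9, 5], [14, 6, 14, 10, 10], [.use 1949 true, .cancel 5]⟩,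
  ⟨[14, 6, 8, 10, 10, 14, 10], [9, 10, 5, 7, 9, 10, 5, 7, 9, 10, 7, 5, 7, 9, 11, 11, 5, 7, 9], [14, 6, 10, 8, 14, 11], [.use 2088 true, .cancel 6]⟩,
  ⟨[14, 6, 8, 10, 10, 14, 14], [9, 11, 9, 11, 7, 5, 7, 9, 10, 7, 5, 7, 9, 10, 10, 7, 5, 7, 9, 11, 5], [14, 6, 8, 10, 10], [.use 2085 true, .cancel 5]⟩,
  ⟨[14, 6, 8, 10, 10, 14, 15], [], [14, 6, 8, 10, 10], [.use 61 true, .cancel 5]⟩,
  ⟨[14, 6, 10, 14, 6, 0], [1], [14, 6, 10, 14, 6], [.use 1516 true, .cancel 5]⟩,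
  ⟨[14, 6, 10, 14, 6, 4], [11, 11, 9, 10, 7, 9, 11, 5, 7, 9, 10, 5, 7, 9, 11, 5, 7, 9, 11, 5, 7, 9], [14, 6, 10, 14, 6], [.use 1517 true, .cancel 5]⟩,
  ⟨[14, 6, 10, 14, 6, 7], [], [14, 6, 10, 14], [.use 42 true, .cancel 4]⟩,
  ⟨[14, 6, 10, 14, 6, 9], [], [14, 6, 10, 14, 6, 8], [.use 325 true, .cancel 6]⟩,
  ⟨[14, 6, 10, 14, 6, 12], [], [14, 6, 10, 13, 14, 6], [.use 264 true, .cancel 6]⟩,
  ⟨[14, 6, 8, 11, 8, 11, 13, 0], [1], [14, 6, 8, 11, 8, 11, 13], [.use 1142 true, .cancel 7]⟩,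
  ⟨[14, 6, 8, 11, 8, 11, 13, 4], [10, 9, 11, 11, 7, 5, 7, 9, 11, 7, 5, 7, 9, 10, 7, 5, 7, 9, 10, 9, 5], [14, 6, 8, 11, 8, 11, 13], [.use 2051 true, .cancel 7]⟩,
  ⟨[14, 6, 8, 11, 8, 11, 13, 6], [12, 11, 9, 10], [14, 6, 8, 11, 8, 11, 8], [.use 355 true, .cancel 7]⟩,
  ⟨[14, 6, 8, 11, 8, 11, 13, 11], [12], [14, 6, 8, 11, 8, 11, 8], [.use 352 true, .cancel 7]⟩,
  ⟨[14, 6, 8, 11, 8, 11, 13, 12], [], [14, 6, 8, 11, 8, 11], [.use 116 true, .cancel 6]⟩,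
  ⟨[14, 6, 8, 11, 8, 11, 13, 13], [13], [14, 6, 10, 8, 10, 10], [.use 353 true, .cancel 6]⟩,
  ⟨[14, 6, 8, 11, 8, 11, 13, 15], [9, 10, 5, 7, 9, 10, 5, 7, 9, 10, 7, 5, 7, 9, 11, 11, 5, 7, 9], [14, 6, 8, 11, 8, 11, 8], [.use 2106 true, .cancel 7]⟩,
  ⟨[14, 6, 10, 8, 12, 11, 0], [1], [14, 6, 10, 8, 12, 11], [.use 1059 true, .cancel 6]⟩,
  ⟨[14, 6, 10, 8, 12, 11, 4], [10, 9, 11, 11, 7, 5, 7, 9, 11, 7, 5, 7, 9, 10, 7, 5, 7, 9, 10, 9, 5], [14, 6, 10, 8, 12, 11], [.use 2122 true, .cancel 6]⟩,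
  ⟨[14, 6, 10, 8, 12, 11, 6], [10, 9, 11, 12, 9], [14, 6, 8, 11, 8, 13], [.use 342 true, .cancel 6]⟩,
  ⟨[14, 6, 10, 8, 12, 11, 7], [10, 9, 11, 12, 9], [14, 6, 8, 11, 8, 13], [.use 319 true, .cancel 6]⟩,
  ⟨[14, 6, 10, 8, 12, 11, 10], [], [14, 6, 10, 8, 12], [.use 84 true, .cancel 5]⟩,
  ⟨[14, 6, 10, 8, 12, 11, 12], [10, 9, 11, 12, 9], [14, 6, 8, 11, 8, 6], [.use 341 true, .cancel 6]⟩,
  ⟨[14, 6, 10, 8, 12, 11, 15], [5, 7, 9, 10, 12, 7, 5, 7, 9, 11, 7, 5, 7, 9, 11, 7, 5, 7, 9, 7], [14, 6, 8, 14, 10, 13], [.use 2086 true, .cancel 6]⟩]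

/-- The equations. -/
def facts : List (List CFact) := [part0, part1, part2, part3, part4, part5, part6, part7, part8, part9, part10, part11, part12, part13, part14, part15, part16, part17, part18, part19, part20, part21, part22, part23, part24, part25, part26, part27, part28, part29, part30, part31, part32, part33, part34, part35, part36, part37, part38, part39, part40, part41, part42, part43, part44, part45, part46, part47]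

/-- A row. -/
def row0 : CRow := [(0, [0], 119), (0, [1], 2494), (0, [], 0), (0, [], 0), (0, [4], 120), (0, [5], 2495), (0, [6], 121), (0, [7], 2496), (0, [8], 122), (0, [9], 2497), (0, [10], 123), (0, [11], 2498), (0, [12], 124), (0, [13], 2499), (1, [], 0), (1, [5, 1], 2500)]

/-- A row. -/
def row1 : CRow := [(1, [1], 2501), (1, [0], 126), (0, [], 0), (0, [], 0), (1, [5], 2502), (1, [4], 127), (2, [], 1), (2, [], 2503), (1, [9], 2504), (1, [8], 128), (5, [], 2), (7, [], 3), (1, [13], 129), (1, [12], 2505), (0, [0, 4], 125), (0, [], 2506)]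

/-- A row. -/
def row2 : CRow := [(2, [0], 2148), (2, [0], 2149), (0, [], 0), (0, [], 0), (2, [4, 8, 11, 8, 6, 4, 6, 11, 8, 6, 4, 6, 10, 8, 6, 4, 6, 10, 10, 8, 11], 2146), (2, [4, 8, 11, 8, 6, 4, 6, 11, 8, 6, 4, 6, 10, 8, 6, 4, 6, 10, 10, 8, 11], 2145), (1, [], 132), (1, [], 2507), (17, [], 4), (17, [], 2508), (30, [], 5), (18, [], 6), (2, [13], 139), (2, [12], 2509), (3, [], 7), (3, [4, 10, 8, 6, 4, 6, 11, 11, 8, 6, 4, 6, 11, 8, 6, 4, 6, 10, 8, 10, 8], 2147)]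

/-- A row. -/
def row3 : CRow := [(3, [0], 2164), (3, [0], 2165), (0, [], 0), (0, [], 0), (3, [4, 8, 11, 8, 6, 4, 6, 11, 8, 6, 4, 6, 10, 8, 6, 4, 6, 10, 10, 8, 11], 2163), (3, [4, 8, 11, 8, 6, 4, 6, 11, 8, 6, 4, 6, 10, 8, 6, 4, 6, 10, 10, 8, 11], 2166), (4, [4, 8, 6, 4], 151), (4, [9, 5, 7, 5], 2510), (4, [], 150), (4, [], 2511), (39, [], 23), (48, [], 24), (3, [12], 152), (3, [13], 2512), (2, [4, 10, 8, 6, 4, 6, 11, 11, 8, 6, 4, 6, 11, 8, 6, 4, 6, 10, 8, 10, 8], 2162), (2, [], 2513)]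

/-- A row. -/
def row4 : CRow := [(4, [0], 590), (4, [0], 2177), (0, [], 0), (0, [], 0), (4, [4, 8, 11, 8, 6, 4, 6, 11, 8, 6, 4, 6, 10, 8, 6, 4, 6, 10, 10, 8, 11], 2176), (4, [4, 8, 11, 8, 6, 4, 6, 11, 8, 6, 4, 6, 10, 8, 6, 4, 6, 10, 10, 8, 11], 2178), (3, [4, 6, 4, 8], 218), (3, [5, 7, 9, 5], 2514), (3, [], 149), (3, [], 2515), (76, [], 33), (54, [], 34), (4, [12], 189), (4, [13], 2516), (17, [4, 10, 8, 6, 4, 6, 11, 11, 8, 6, 4, 6, 11, 8, 6, 4, 6, 10, 8, 10, 8], 2175), (17, [], 2517)]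

/-- A row. -/
def row5 : CRow := [(5, [0], 134), (5, [1], 2518), (0, [], 0), (0, [], 0), (5, [4], 136), (5, [5], 2519), (18, [], 137), (18, [], 2520), (5, [11, 9, 10, 9], 2521), (5, [8, 11, 8, 10], 163), (6, [], 8), (1, [], 2522), (6, [13], 140), (9, [], 9), (7, [11], 2523), (7, [11, 5, 1], 2524)]

/-- A row. -/
def row6 : CRow := [(6, [0], 154), (6, [1], 2525), (0, [], 0), (0, [], 0), (6, [4], 155), (6, [5], 2526), (11, [], 156), (11, [], 2527), (6, [10, 10, 8, 11, 11], 130), (6, [10, 10, 9, 11, 11], 2528), (10, [13], 2529), (5, [], 2530), (9, [12], 157), (5, [12], 2531), (10, [12, 11], 169), (10, [0, 4, 12, 11], 171)]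

/-- A row. -/
def row7 : CRow := [(7, [1], 2532), (7, [0], 133), (0, [], 0), (0, [], 0), (7, [5], 2533), (7, [4], 135), (30, [], 174), (30, [], 2534), (7, [10, 9, 11, 9], 2535), (7, [8, 10, 8, 11], 167), (1, [], 2536), (8, [], 10), (8, [13], 2537), (10, [], 11), (5, [0, 4, 10], 166), (5, [10], 131)]

/-- A row. -/
def row8 : CRow := [(8, [1], 2538), (8, [0], 175), (0, [], 0), (0, [], 0), (8, [5], 2539), (8, [4], 176), (31, [], 183), (31, [], 2540), (8, [11, 8, 10], 178), (8, [11, 9, 10], 2541), (7, [], 2542), (9, [13], 173), (10, [12], 179), (7, [12], 141), (9, [0, 4, 12, 10], 168), (9, [12, 10], 170)]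

/-- A row. -/
def row9 : CRow := [(9, [1], 2543), (9, [0], 158), (0, [], 0), (0, [], 0), (9, [5], 2544), (9, [4], 159), (13, [], 2545), (13, [], 160), (9, [11, 9, 10, 9], 2546), (9, [8, 11, 8, 10], 164), (8, [12], 2547), (10, [], 2548), (5, [], 2549), (6, [13], 2550), (8, [11, 13], 2551), (8, [11, 13, 5, 1], 2552)]

/-- A row. -/
def row10 : CRow := [(10, [1], 2553), (10, [0], 180), (0, [], 0), (0, [], 0), (10, [5], 2554), (10, [4], 181), (12, [], 2555), (12, [], 182), (10, [8, 10, 8, 11], 172), (10, [10, 9, 11, 9], 2556), (9, [], 142), (6, [12], 165), (7, [], 2557), (8, [13], 2558), (6, [10, 13, 5, 1], 2559), (6, [10, 13], 2560)]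

/-- A row. -/
def row11 : CRow := [(11, [1], 2561), (11, [0], 531), (0, [], 0), (0, [], 0), (11, [4, 8, 11, 8, 6, 4, 6, 11, 8, 6, 4, 6, 10, 8, 6, 4, 6, 10, 10, 8, 11], 2197), (11, [4, 8, 11, 8, 6, 4, 6, 11, 8, 6, 4, 6, 10, 8, 6, 4, 6, 10, 10, 8, 11], 2196), (6, [], 161), (6, [], 2562), (16, [12], 212), (16, [12], 2563), (18, [], 2564), (12, [13], 2565), (13, [12], 209), (18, [12], 147), (19, [], 49), (19, [4, 10, 8, 6, 4, 6, 11, 11, 8, 6, 4, 6, 11, 8, 6, 4, 6, 10, 8, 10, 8], 2195)]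

/-- A row. -/
def row12 : CRow := [(12, [1], 2566), (12, [0], 487), (0, [], 0), (0, [], 0), (12, [4, 8, 11, 8, 6, 4, 6, 11, 8, 6, 4, 6, 10, 8, 6, 4, 6, 10, 10, 8, 11], 2187), (12, [4, 8, 11, 8, 6, 4, 6, 11, 8, 6, 4, 6, 10, 8, 6, 4, 6, 10, 10, 8, 11], 2185), (10, [], 2567), (10, [], 184), (36, [], 2568), (36, [], 193), (11, [12], 204), (13, [], 2569), (30, [], 2570), (31, [13], 2571), (70, [], 41), (70, [4, 10, 8, 6, 4, 6, 11, 11, 8, 6, 4, 6, 11, 8, 6, 4, 6, 10, 8, 10, 8], 2186)]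

/-- A row. -/
def row13 : CRow := [(13, [1], 2572), (13, [0], 537), (0, [], 0), (0, [], 0), (13, [4, 8, 11, 8, 6, 4, 6, 11, 8, 6, 4, 6, 10, 8, 6, 4, 6, 10, 10, 8, 11], 2200), (13, [4, 8, 11, 8, 6, 4, 6, 11, 8, 6, 4, 6, 10, 8, 6, 4, 6, 10, 10, 8, 11], 2199), (9, [], 2573), (9, [], 162), (24, [], 2574), (24, [], 210), (12, [], 148), (31, [12], 197), (18, [], 2575), (11, [13], 2576), (14, [], 50), (14, [4, 10, 8, 6, 4, 6, 11, 11, 8, 6, 4, 6, 11, 8, 6, 4, 6, 10, 8, 10, 8], 2198)]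

/-- A row. -/
def row14 : CRow := [(14, [0], 939), (14, [1], 2577), (0, [], 0), (0, [], 0), (14, [4, 8, 11, 8, 6, 4, 6, 11, 8, 6, 4, 6, 10, 8, 6, 4, 6, 10, 10, 8, 11], 2304), (14, [4, 8, 11, 8, 6, 4, 6, 11, 8, 6, 4, 6, 10, 8, 6, 4, 6, 10, 10, 8, 11], 2305), (110, [0, 6, 8, 6, 4, 10, 8, 6, 4, 11, 8, 6, 4, 11, 8, 6, 4, 12, 10, 8, 10], 2135), (110, [7, 9, 11, 7, 9, 10, 5, 7, 9, 10, 12, 5, 7, 9, 11, 5, 7, 9, 10, 5, 1], 2578), (25, [], 276), (25, [], 2579), (15, [6, 8, 6, 4, 6, 10, 8, 6, 4, 6, 10, 8, 6, 4, 6, 13, 11, 8, 6, 4], 2302), (102, [7, 9, 11, 7, 9, 10, 5, 7, 9, 10, 12, 5, 7, 9, 11, 5, 7, 9, 10, 5, 1], 2580), (19, [13], 274), (27, [], 2581), (13, [4, 10, 8, 6, 4, 6, 11, 11, 8, 6, 4, 6, 11, 8, 6, 4, 6, 10, 8, 10, 8], 2303), (13, [], 2582)]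

/-- A row. -/
def row15 : CRow := [(15, [1], 2583), (15, [0], 1102), (0, [], 0), (0, [], 0), (15, [4, 8, 11, 8, 6, 4, 6, 11, 8, 6, 4, 6, 10, 8, 6, 4, 6, 10, 10, 8, 11], 1813), (15, [4, 8, 11, 8, 6, 4, 6, 11, 8, 6, 4, 6, 10, 8, 6, 4, 6, 10, 10, 8, 11], 1812), (95, [8, 11, 8, 10], 360), (95, [11, 9, 10, 9], 2584), (99, [], 2585), (99, [], 359), (16, [], 2586), (14, [4, 6, 8, 6, 4, 6, 10, 8, 6, 4, 6, 12, 11, 8, 6, 4, 6, 11, 8, 6], 1809), (21, [4, 11, 8, 6, 4, 6, 11, 8, 6, 4, 11, 8, 6, 10, 8, 6, 4, 6, 10, 8, 13], 2454), (42, [], 2587), (63, [4, 6, 8, 6, 4, 11, 8, 6, 4, 11, 8, 6, 4, 10, 8, 6, 13, 10, 8], 1810), (63, [8, 6, 4, 10, 10, 8, 6, 4, 6, 11, 8, 6, 4, 11, 8, 6, 4, 11, 8, 13], 1814)]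

/-- A row. -/
def row16 : CRow := [(16, [0], 911), (16, [1], 2588), (0, [], 0), (0, [], 0), (16, [10, 9, 11, 11, 7, 5, 7, 9, 11, 7, 5, 7, 9, 10, 7, 5, 7, 9, 10, 9, 5], 2589), (16, [4, 8, 11, 8, 6, 4, 6, 11, 8, 6, 4, 6, 10, 8, 6, 4, 6, 10, 10, 8, 11], 1548), (16, [8, 11, 8, 10], 224), (16, [11, 9, 10, 9], 2590), (11, [13], 211), (11, [13], 2591), (95, [], 104), (15, [], 105), (24, [], 270), (29, [], 2592), (95, [6, 8, 6, 4, 10, 8, 6, 11, 8, 6, 4, 6, 4, 10, 8, 6, 4, 10, 8, 12], 2287), (95, [4, 8, 6, 4, 10, 8, 6, 4, 10, 8, 6, 4, 10, 10, 8, 6, 12, 10, 8], 2286)]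

/-- A row. -/
def row17 : CRow := [(17, [0], 390), (17, [0], 2151), (0, [], 0), (0, [], 0), (17, [4, 8, 11, 8, 6, 4, 6, 11, 8, 6, 4, 6, 10, 8, 6, 4, 6, 10, 10, 8, 11], 2153), (17, [4, 8, 11, 8, 6, 4, 6, 11, 8, 6, 4, 6, 10, 8, 6, 4, 6, 10, 10, 8, 11], 2152), (17, [8], 144), (17, [9], 2593), (2, [], 143), (2, [], 2594), (80, [], 12), (32, [], 13), (17, [13], 145), (17, [12], 2595), (4, [], 14), (4, [4, 10, 8, 6, 4, 6, 11, 11, 8, 6, 4, 6, 11, 8, 6, 4, 6, 10, 8, 10, 8], 2150)]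

/-- A row. -/
def row18 : CRow := [(18, [1], 2596), (18, [0], 393), (0, [], 0), (0, [], 0), (18, [4, 8, 11, 8, 6, 4, 6, 11, 8, 6, 4, 6, 10, 8, 6, 4, 6, 10, 10, 8, 11], 2160), (18, [4, 8, 11, 8, 6, 4, 6, 11, 8, 6, 4, 6, 10, 8, 6, 4, 6, 10, 10, 8, 11], 2159), (5, [], 153), (5, [], 2597), (29, [], 19), (29, [], 2598), (2, [], 2599), (11, [], 20), (11, [13], 2600), (13, [], 21), (27, [], 22), (27, [4, 10, 8, 6, 4, 6, 11, 11, 8, 6, 4, 6, 11, 8, 6, 4, 6, 10, 8, 10, 8], 2161)]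

/-- A row. -/
def row19 : CRow := [(19, [0], 930), (19, [1], 2601), (0, [], 0), (0, [], 0), (19, [4, 8, 11, 8, 6, 4, 6, 11, 8, 6, 4, 6, 10, 8, 6, 4, 6, 10, 10, 8, 11], 2297), (19, [4, 8, 11, 8, 6, 4, 6, 11, 8, 6, 4, 6, 10, 8, 6, 4, 6, 10, 10, 8, 11], 2298), (20, [4, 6, 4, 10, 8, 6, 4, 10, 8, 6, 4, 10, 8, 6, 4, 10, 8, 6, 11, 11, 8], 2300), (20, [4, 6, 4, 10, 8, 6, 4, 10, 8, 6, 4, 10, 8, 6, 4, 10, 8, 6, 11, 11, 8], 2301), (95, [8, 6, 4, 10, 10, 8, 6, 4, 6, 11, 8, 6, 4, 11, 8, 6, 4, 11, 8, 13], 2299), (95, [8, 6, 4, 10, 10, 8, 6, 4, 6, 11, 8, 6, 4, 11, 8, 6, 4, 11, 8, 13], 2294), (20, [8, 6, 4, 10, 10, 8, 6, 4, 6, 11, 8, 6, 4, 11, 8, 6, 4, 11, 8], 2293), (22, [6, 8, 6, 4, 6, 10, 8, 6, 4, 6, 10, 8, 6, 4, 6, 13, 11, 8, 6, 4], 2296), (27, [12], 216), (14, [12], 2602), (11, [4, 10, 8, 6, 4, 6, 11, 11, 8, 6, 4, 6, 11, 8, 6, 4,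 6, 10, 8, 10, 8], 2295), (11, [], 2603)]

/-- A row. -/
def row20 : CRow := [(20, [1], 2604), (20, [0], 1100), (0, [], 0), (0, [], 0), (20, [4, 8, 11, 8, 6, 4, 6, 11, 8, 6, 4, 6, 10, 8, 6, 4, 6, 10, 10, 8, 11], 1776), (20, [4, 8, 11, 8, 6, 4, 6, 11, 8, 6, 4, 6, 10, 8, 6, 4, 6, 10, 10, 8, 11], 1775), (19, [4, 6, 8, 10, 8, 6, 4, 6, 11, 8, 6, 4, 6, 11, 8, 6, 4, 6, 10, 8, 11], 2447), (19, [4, 6, 8, 10, 8, 6, 4, 6, 11, 8, 6, 4, 6, 11, 8, 6, 4, 6, 10, 8, 11], 2448), (108, [13], 336), (108, [13], 2605), (21, [4, 11, 8, 6, 4, 6, 11, 8, 6, 4, 11, 8, 6, 10, 8, 6, 4, 6, 10, 8, 13], 2449), (19, [4, 6, 8, 6, 4, 11, 8, 6, 4, 11, 8, 6, 4, 10, 8, 6, 10, 10, 8], 2446), (28, [], 2606), (110, [13], 2607), (67, [4, 6, 8, 6, 4, 11, 8, 6, 4, 11, 8, 6, 4, 10, 8, 6, 13, 10, 8], 1774), (67, [8, 6, 4, 10, 10, 8, 6, 4, 6, 11, 8, 6, 4, 11, 8, 6,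 4, 11, 8, 13], 1777)]

/-- A row. -/
def row21 : CRow := [(21, [0], 1852), (21, [0], 1853), (0, [], 0), (0, [], 0), (21, [0, 6, 4, 10, 8, 6, 4, 10, 10, 8, 6, 4, 10, 8, 6, 4, 11, 8, 6, 10, 8, 11], 1855), (21, [0, 6, 4, 10, 8, 6, 4, 10, 10, 8, 6, 4, 10, 8, 6, 4, 11, 8, 6, 10, 8, 11], 1854), (22, [], 330), (22, [], 2608), (38, [6, 8, 6, 4, 6, 10, 8, 6, 4, 11, 8, 6, 4, 12, 11, 8, 6, 4, 10, 8, 10], 2469), (38, [6, 8, 6, 4, 6, 10, 8, 6, 4, 11, 8, 6, 4, 12, 11, 8, 6, 4, 10, 8, 10], 2468), (111, [0, 6, 8, 6, 4, 10, 8, 6, 4, 11, 8, 6, 4, 11, 8, 6, 4, 11, 8, 10, 10], 1856), (20, [6, 8, 6, 4, 6, 10, 8, 6, 4, 11, 8, 6, 4, 12, 11, 8, 6, 4, 10, 8, 10], 1851), (42, [6, 8, 6, 4, 6, 10, 8, 6, 4, 11, 8, 6, 4, 12, 11, 8, 6, 4, 10, 8, 10], 2467), (15, [6, 8, 6, 4, 6, 10, 8, 6, 4, 11, 8, 6, 4, 12, 11, 8, 6, 4, 10, 8, 10], 2466), (88, [10,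 8, 6, 4, 6, 11, 11, 8, 6, 4, 6, 11, 8, 6, 4, 6, 11, 8, 10, 10], 1500), (88, [4, 8, 6, 4, 6, 11, 11, 8, 6, 4, 6, 11, 8, 6, 4, 6, 10, 8, 10, 8], 2465)]

/-- A row. -/
def row22 : CRow := [(22, [0], 914), (22, [1], 2609), (0, [], 0), (0, [], 0), (22, [4, 8, 11, 8, 6, 4, 6, 11, 8, 6, 4, 6, 10, 8, 6, 4, 6, 10, 10, 8, 11], 2290), (22, [4, 8, 11, 8, 6, 4, 6, 11, 8, 6, 4, 6, 10, 8, 6, 4, 6, 10, 10, 8, 11], 2291), (21, [], 108), (21, [], 2610), (27, [], 214), (27, [], 2611), (19, [4, 6, 8, 6, 4, 6, 10, 8, 6, 4, 6, 12, 11, 8, 6, 4, 6, 11, 8, 6], 1723), (23, [6, 8, 6, 4, 10, 8, 6, 11, 8, 6, 4, 6, 4, 10, 8, 6, 4, 10, 8, 12], 1724), (25, [], 273), (95, [6, 8, 6, 4, 10, 8, 6, 11, 8, 6, 4, 6, 4, 10, 8, 6, 4, 10, 8, 12], 2292), (29, [4, 10, 8, 6, 4, 6, 11, 11, 8, 6, 4, 6, 11, 8, 6, 4, 6, 10, 8, 10, 8], 2289), (29, [], 2612)]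

/-- A row. -/
def row23 : CRow := [(23, [0], 1108), (23, [1], 2613), (0, [], 0), (0, [], 0), (23, [4, 8, 11, 8, 6, 4, 6, 11, 8, 6, 4, 6, 10, 8, 6, 4, 6, 10, 10, 8, 11], 1806), (23, [4, 8, 11, 8, 6, 4, 6, 11, 8, 6, 4, 6, 10, 8, 6, 4, 6, 10, 10, 8, 11], 1805), (111, [8, 11, 8, 10, 13], 329), (111, [8, 11, 8, 10, 13], 332), (107, [0, 4, 6, 4, 11, 11, 8, 6, 4, 11, 8, 6, 4, 11, 11, 8, 6, 11, 8, 10, 13], 2456), (107, [0, 4, 6, 4, 11, 11, 8, 6, 4, 11, 8, 6, 4, 11, 11, 8, 6, 11, 8, 10, 13], 2457), (22, [4, 8, 6, 4, 13, 10, 8, 6, 4, 6, 11, 8, 6, 4, 11, 8, 6, 10, 8, 6], 2455), (24, [], 2614), (43, [], 271), (102, [11, 9, 10, 13, 9], 2615), (40, [8, 6, 4, 10, 8, 6, 4, 11, 13, 11, 8, 6, 4, 10, 8, 6, 4, 10, 8], 2458), (40, [4, 8, 6, 4, 13, 10, 8, 6, 4, 6, 11, 8, 6, 4, 11, 8, 6, 10, 8, 6], 2459)]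

/-- A row. -/
def row24 : CRow := [(24, [1], 2616), (24, [0], 910), (0, [], 0), (0, [], 0), (24, [10, 9, 11, 11, 7, 5, 7, 9, 11, 7, 5, 7, 9, 10, 7, 5, 7, 9, 10, 9, 5], 2617), (24, [4, 8, 11, 8, 6, 4, 6, 11, 8, 6, 4, 6, 10, 8, 6, 4, 6, 10, 10, 8, 11], 1627), (24, [8, 11, 8, 10], 225), (24, [11, 9, 10, 9], 2618), (13, [], 2619), (13, [], 213), (23, [], 106), (111, [13], 256), (29, [], 2620), (16, [], 2621), (25, [], 107), (25, [4, 10, 8, 6, 4, 6, 11, 11, 8, 6, 4, 6, 11, 8, 6, 4, 6, 10, 8, 10, 8], 2288)]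

/-- A row. -/
def row25 : CRow := [(25, [0], 1109), (25, [1], 2622), (0, [], 0), (0, [], 0), (25, [4, 8, 11, 8, 6, 4, 6, 11, 8, 6, 4, 6, 10, 8, 6, 4, 6, 10, 10, 8, 11], 2463), (25, [4, 8, 11, 8, 6, 4, 6, 11, 8, 6, 4, 6, 10, 8, 6, 4, 6, 10, 10, 8, 11], 2462), (42, [6, 8, 6, 4, 6, 10, 8, 6, 4, 11, 8, 6, 4, 12, 11, 8, 6, 4, 10, 8, 10], 2464), (42, [6, 8, 6, 4, 6, 10, 8, 6, 4, 11, 8, 6, 4, 12, 11, 8, 6, 4, 10, 8, 10], 2460), (14, [], 275), (14, [], 2623), (26, [4, 6, 8, 6, 4, 11, 8, 6, 4, 11, 8, 6, 4, 10, 8, 6, 13, 10, 8], 1778), (42, [6, 8, 6, 4, 10, 8, 6, 11, 8, 6, 4, 6, 4, 10, 8, 6, 4, 10, 8, 12], 2043), (95, [6, 8, 6, 4, 10, 8, 6, 11, 8, 6, 4, 6, 4, 10, 8, 6, 4, 10, 8, 12], 2461), (22, [], 2624), (24, [4, 10, 8, 6, 4, 6, 11, 11, 8, 6, 4, 6, 11, 8, 6, 4, 6, 10, 8, 10, 8], 1465), (24, [], 2625)]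

/-- A row. -/
def row26 : CRow := [(26, [1], 2626), (26, [0], 945), (0, [], 0), (0, [], 0), (26, [4, 8, 11, 8, 6, 4, 6, 11, 8, 6, 4, 6, 10, 8, 6, 4, 6, 10, 10, 8, 11], 2308), (26, [4, 8, 11, 8, 6, 4, 6, 11, 8, 6, 4, 6, 10, 8, 6, 4, 6, 10, 10, 8, 11], 2307), (43, [6, 8, 6, 4, 10, 8, 6, 11, 8, 6, 4, 6, 4, 10, 8, 6, 4, 11, 8, 13, 10], 1674), (43, [6, 8, 6, 4, 10, 8, 6, 11, 8, 6, 4, 6, 4, 10, 8, 6, 4, 11, 8, 13, 10], 1673), (115, [6, 8, 6, 4, 10, 8, 6, 11, 8, 6, 4, 6, 4, 10, 8, 6, 4, 10, 8, 12], 1669), (115, [6, 8, 6, 4, 10, 8, 6, 11, 8, 6, 4, 6, 4, 10, 8, 6, 4, 10, 8, 12], 1668), (27, [], 2627), (25, [8, 6, 4, 10, 8, 6, 4, 6, 12, 11, 8, 6, 4, 11, 8, 6, 4, 11, 8], 2306), (103, [6, 8, 6, 4, 10, 8, 6, 11, 8, 6, 4, 6, 4, 10, 8, 6, 4, 10, 8, 12], 1670), (111, [6, 8, 6, 4, 10, 8, 6, 11, 8, 6, 4, 6, 4, 10, 8, 6, 4, 10, 8, 12],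 2309), (39, [4, 10, 8, 6, 4, 6, 11, 11, 8, 6, 4, 6, 11, 8, 6, 4, 6, 10, 8, 10, 8], 1458), (39, [], 546)]

/-- A row. -/
def row27 : CRow := [(27, [0], 850), (27, [1], 2628), (0, [], 0), (0, [], 0), (27, [4, 8, 11, 8, 6, 4, 6, 11, 8, 6, 4, 6, 10, 8, 6, 4, 6, 10, 10, 8, 11], 2204), (27, [4, 8, 11, 8, 6, 4, 6, 11, 8, 6, 4, 6, 10, 8, 6, 4, 6, 10, 10, 8, 11], 2205), (28, [6, 8, 6, 4, 10, 8, 6, 11, 8, 6, 4, 6, 4, 10, 8, 6, 4, 11, 8, 13, 10], 2202), (28, [6, 8, 6, 4, 10, 8, 6, 11, 8, 6, 4, 6, 4, 10, 8, 6, 4, 11, 8, 13, 10], 2206), (22, [], 215), (22, [], 2629), (29, [6, 8, 6, 4, 6, 10, 8, 6, 4, 6, 10, 8, 6, 4, 6, 13, 11, 8, 6, 4], 2201), (26, [], 51), (14, [], 217), (19, [13], 2630), (18, [4, 10, 8, 6, 4, 6, 11, 11, 8, 6, 4, 6, 11, 8, 6, 4, 6, 10, 8, 10, 8], 2203), (18, [], 2631)]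

/-- A row. -/
def row28 : CRow := [(28, [0], 908), (28, [1], 2632), (0, [], 0), (0, [], 0), (28, [4, 8, 11, 8, 6, 4, 6, 11, 8, 6, 4, 6, 10, 8, 6, 4, 6, 10, 10, 8, 11], 1731), (28, [4, 8, 11, 8, 6, 4, 6, 11, 8, 6, 4, 6, 10, 8, 6, 4, 6, 10, 10, 8, 11], 1732), (27, [4, 6, 10, 8, 6, 4, 6, 13, 11, 8, 6, 4, 6, 11, 8, 6, 4, 6, 10, 8, 13], 2284), (27, [4, 6, 10, 8, 6, 4, 6, 13, 11, 8, 6, 4, 6, 11, 8, 6, 4, 6, 10, 8, 13], 2285), (34, [], 208), (34, [], 317), (43, [], 102), (29, [], 2633), (110, [13], 272), (20, [], 103), (104, [6, 10, 8, 6, 4, 10, 8, 6, 4, 10, 8, 6, 4, 12, 11, 8, 6], 1733), (104, [8, 6, 11, 8, 6, 4, 6, 4, 10, 8, 6, 4, 10, 8, 6, 4, 10, 8, 12], 1734)]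

/-- A row. -/
def row29 : CRow := [(29, [0], 528), (29, [1], 2634), (0, [], 0), (0, [], 0), (29, [4, 8, 11, 8, 6, 4, 6, 11, 8, 6, 4, 6, 10, 8, 6, 4, 6, 10, 10, 8, 11], 2194), (29, [4, 8, 11, 8, 6, 4, 6, 11, 8, 6, 4, 6, 10, 8, 6, 4, 6, 10, 10, 8, 11], 2193), (29, [8, 11, 8, 10], 203), (29, [11, 9, 10, 9], 2635), (18, [], 202), (18, [], 2636), (28, [], 45), (27, [4, 6, 8, 6, 4, 6, 10, 8, 6, 4, 6, 12, 11, 8, 6, 4, 6, 11, 8, 6], 2192), (16, [], 46), (24, [], 47), (22, [], 48), (22, [4, 10, 8, 6, 4, 6, 11, 11, 8, 6, 4, 6, 11, 8, 6, 4, 6, 10, 8, 10, 8], 2191)]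

/-- A row. -/
def row30 : CRow := [(30, [0], 2156), (30, [0], 2157), (0, [], 0), (0, [], 0), (30, [4, 8, 11, 8, 6, 4, 6, 11, 8, 6, 4, 6, 10, 8, 6, 4, 6, 10, 10, 8, 11], 2155), (30, [4, 8, 11, 8, 6, 4, 6, 11, 8, 6, 4, 6, 10, 8, 6, 4, 6, 10, 10, 8, 11], 2154), (7, [], 138), (7, [], 2637), (49, [], 15), (49, [], 2638), (31, [], 16), (2, [], 2639), (31, [13], 146), (12, [], 17), (66, [], 18), (66, [4, 10, 8, 6, 4, 6, 11, 11, 8, 6, 4, 6, 11, 8, 6, 4, 6, 10, 8, 10, 8], 2158)]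

/-- A row. -/
def row31 : CRow := [(31, [0], 827), (31, [1], 2640), (0, [], 0), (0, [], 0), (31, [4, 8, 11, 8, 6, 4, 6, 11, 8, 6, 4, 6, 10, 8, 6, 4, 6, 10, 10, 8, 11], 2184), (31, [4, 8, 11, 8, 6, 4, 6, 11, 8, 6, 4, 6, 10, 8, 6, 4, 6, 10, 10, 8, 11], 2183), (8, [], 177), (8, [], 2641), (96, [12], 195), (96, [12], 2642), (13, [13], 2643), (30, [], 2644), (12, [12], 192), (30, [12], 2645), (94, [], 40), (94, [4, 10, 8, 6, 4, 6, 11, 11, 8, 6, 4, 6, 11, 8, 6, 4, 6, 10, 8, 10, 8], 1364)]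

/-- A row. -/
def row32 : CRow := [(32, [1], 2646), (32, [0], 448), (0, [], 0), (0, [], 0), (32, [4, 8, 11, 8, 6, 4, 6, 11, 8, 6, 4, 6, 10, 8, 6, 4, 6, 10, 10, 8, 11], 2174), (32, [4, 8, 11, 8, 6, 4, 6, 11, 8, 6, 4, 6, 10, 8, 6, 4, 6, 10, 10, 8, 11], 2172), (80, [8], 228), (80, [9], 2647), (33, [], 29), (33, [], 2648), (17, [], 2649), (37, [], 30), (37, [13], 2650), (113, [], 31), (85, [], 32), (85, [4, 10, 8, 6, 4, 6, 11, 11, 8, 6, 4, 6, 11, 8, 6, 4, 6, 10, 8, 10, 8], 2173)]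

/-- A row. -/
def row33 : CRow := [(33, [0], 724), (33, [1], 2651), (0, [], 0), (0, [], 0), (33, [4, 8, 11, 8, 6, 4, 6, 11, 8, 6, 4, 6, 10, 8, 6, 4, 6, 10, 10, 8, 11], 2234), (33, [4, 8, 11, 8, 6, 4, 6, 11, 8, 6, 4, 6, 10, 8, 6, 4, 6, 10, 10, 8, 11], 2232), (109, [], 65), (109, [], 2652), (32, [], 240), (32, [], 2653), (34, [], 66), (35, [], 67), (85, [4, 8, 6, 4, 10, 8, 6, 4, 6, 11, 8, 6, 4, 11, 8, 6, 10, 8, 6], 2233), (101, [], 68), (37, [6, 8, 6, 4, 6, 10, 8, 6, 4, 6, 10, 8, 6, 4, 6, 13, 11, 8, 6, 4], 2235), (37, [4, 8, 6, 4, 10, 8, 6, 4, 10, 8, 6, 4, 13, 10, 8, 6, 10, 10, 8], 2231)]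

/-- A row. -/
def row34 : CRow := [(34, [0], 1004), (34, [1], 2654), (0, [], 0), (0, [], 0), (34, [4, 8, 11, 8, 6, 4, 6, 11, 8, 6, 4, 6, 10, 8, 6, 4, 6, 10, 10, 8, 11], 1766), (34, [4, 8, 11, 8, 6, 4, 6, 11, 8, 6, 4, 6, 10, 8, 6, 4, 6, 10, 10, 8, 11], 1765), (38, [8, 13, 10, 8, 11], 347), (38, [13, 10, 9, 11, 9], 2655), (28, [], 2656), (28, [], 2657), (38, [13], 318), (33, [], 2658), (114, [13], 2659), (108, [13], 345), (117, [6, 10, 8, 6, 4, 10, 8, 6, 4, 10, 8, 6, 4, 12, 11, 8, 6], 1770), (117, [8, 6, 11, 8, 6, 4, 6, 4, 10, 8, 6, 4, 10, 8, 6, 4, 10, 8, 12], 1769)]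

/-- A row. -/
def row35 : CRow := [(35, [1], 2660), (35, [0], 1003), (0, [], 0), (0, [], 0), (35, [4, 8, 11, 8, 6, 4, 6, 11, 8, 6, 4, 6, 10, 8, 6, 4, 6, 10, 10, 8, 11], 1874), (35, [4, 8, 11, 8, 6, 4, 6, 11, 8, 6, 4, 6, 10, 8, 6, 4, 6, 10, 10, 8, 11], 1875), (105, [8, 13, 10, 8, 11], 323), (105, [13, 10, 9, 11, 9], 2661), (100, [], 115), (100, [], 2662), (33, [], 2663), (36, [13], 207), (106, [13], 251), (118, [], 116), (84, [6, 8, 6, 4, 6, 10, 8, 6, 4, 6, 10, 8, 6, 4, 6, 13, 11, 8, 6, 4], 1873), (84, [4, 8, 6, 4, 10, 8, 6, 4, 10, 8, 6, 4, 13, 10, 8, 6, 10, 10, 8], 1868)]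

/-- A row. -/
def row36 : CRow := [(36, [1], 2664), (36, [0], 789), (0, [], 0), (0, [], 0), (36, [4, 8, 11, 8, 6, 4, 6, 11, 8, 6, 4, 6, 10, 8, 6, 4, 6, 10, 10, 8, 11], 2266), (36, [4, 8, 11, 8, 6, 4, 6, 11, 8, 6, 4, 6, 10, 8, 6, 4, 6, 10, 10, 8, 11], 2265), (36, [8, 10, 8, 11], 227), (36, [10, 9, 11, 9], 2665), (12, [], 2666), (12, [], 196), (35, [12], 2667), (105, [], 86), (49, [], 2668), (96, [], 2669), (72, [], 87), (72, [4, 10, 8, 6, 4, 6, 11, 11, 8, 6, 4, 6, 11, 8, 6, 4, 6, 10, 8, 10, 8], 2264)]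

/-- A row. -/
def row37 : CRow := [(37, [1], 2670), (37, [0], 727), (0, [], 0), (0, [], 0), (37, [4, 8, 11, 8, 6, 4, 6, 11, 8, 6, 4, 6, 10, 8, 6, 4, 6, 10, 10, 8, 11], 2241), (37, [4, 8, 11, 8, 6, 4, 6, 11, 8, 6, 4, 6, 10, 8, 6, 4, 6, 10, 10, 8, 11], 2239), (112, [8], 234), (112, [9], 2671), (85, [4, 6, 8, 6, 4, 6, 10, 8, 6, 4, 6, 12, 11, 8, 6, 4, 6, 11, 8, 6], 2238), (85, [4, 6, 8, 6, 4, 6, 10, 8, 6, 4, 6, 12, 11, 8, 6, 4, 6, 11, 8, 6], 2240), (32, [], 2672), (115, [13], 2673), (113, [12], 242), (32, [12], 187), (33, [8, 6, 4, 10, 10, 8, 6, 4, 10, 8, 6, 4, 12, 10, 8, 6, 4, 10, 8], 2237), (33, [4, 6, 8, 6, 4, 6, 10, 8, 6, 4, 6, 12, 11, 8, 6, 4, 6, 11, 8, 6], 2236)]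

/-- A row. -/
def row38 : CRow := [(38, [1], 2674), (38, [0], 1048), (0, [], 0), (0, [], 0), (38, [4, 8, 11, 8, 6, 4, 6, 11, 8, 6, 4, 6, 10, 8, 6, 4, 6, 10, 10, 8, 11], 1829), (38, [4, 8, 11, 8, 6, 4, 6, 11, 8, 6, 4, 6, 10, 8, 6, 4, 6, 10, 10, 8, 11], 1830), (34, [8, 10, 8, 11, 12], 348), (34, [10, 9, 11, 12, 9], 2675), (21, [4, 11, 8, 6, 4, 6, 11, 8, 6, 4, 11, 8, 6, 10, 8, 6, 4, 6, 10, 8, 13], 1827), (21, [4, 11, 8, 6, 4, 6, 11, 8, 6, 4, 11, 8, 6, 10, 8, 6, 4, 6, 10, 8, 13], 1828), (109, [8, 10, 8, 11, 12], 340), (34, [12], 2676), (82, [], 2677), (99, [], 2678), (98, [], 118), (98, [9, 11, 9, 11, 7, 5, 7, 9, 10, 7, 5, 7, 9, 10, 10, 7, 5, 7, 9, 11, 5], 2679)]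

/-- A row. -/
def row39 : CRow := [(39, [0], 853), (39, [1], 2680), (0, [], 0), (0, [], 0), (39, [4, 8, 11, 8, 6, 4, 6, 11, 8, 6, 4, 6, 10, 8, 6, 4, 6, 10, 10, 8, 11], 1652), (39, [4, 8, 11, 8, 6, 4, 6, 11, 8, 6, 4, 6, 10, 8, 6, 4, 6, 10, 10, 8, 11], 1653), (54, [4, 8, 6, 4], 219), (54, [9, 5, 7, 5], 2681), (74, [], 52), (74, [], 2682), (50, [], 53), (3, [], 2683), (50, [12], 221), (52, [], 54), (26, [], 2207), (26, [4, 10, 8, 6, 4, 6, 11, 11, 8, 6, 4, 6, 11, 8, 6, 4, 6, 10, 8, 10, 8], 2208)]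

/-- A row. -/
def row40 : CRow := [(40, [0], 1024), (40, [1], 2684), (0, [], 0), (0, [], 0), (40, [10, 9, 11, 11, 7, 5, 7, 9, 11, 7, 5, 7, 9, 10, 7, 5, 7, 9, 10, 9, 5], 2685), (40, [4, 8, 11, 8, 6, 4, 6, 11, 8, 6, 4, 6, 10, 8, 6, 4, 6, 10, 10, 8, 11], 2032), (87, [6, 8, 6, 4, 13, 10, 8, 6, 4, 10, 8, 6, 4, 10, 8, 6, 11, 8, 10], 1984), (87, [6, 8, 6, 4, 13, 10, 8, 6, 4, 10, 8, 6, 4, 10, 8, 6, 11, 8, 10], 1985), (76, [], 300), (76, [], 2686), (41, [4, 6, 8, 6, 4, 11, 8, 6, 4, 11, 8, 6, 4, 10, 8, 6, 13, 10, 8], 1982), (104, [6, 10, 8, 6, 4, 10, 8, 6, 4, 10, 8, 6, 4, 12, 11, 8, 6], 1981), (89, [4, 6, 8, 6, 4, 11, 8, 6, 4, 11, 8, 6, 4, 10, 8, 6, 13, 10, 8], 2143), (44, [6, 8, 6, 4, 13, 10, 8, 6, 4, 10, 8, 6, 4, 10, 8, 6, 11, 8, 10], 2351), (23, [6, 8, 6, 4, 10, 8, 6, 11, 8, 6, 4, 6, 4, 10, 8, 6, 4, 10, 8, 12], 1980), (23, [4,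 8, 6, 4, 10, 8, 6, 4, 10, 8, 6, 4, 10, 10, 8, 6, 12, 10, 8], 1983)]

/-- A row. -/
def row41 : CRow := [(41, [1], 2687), (41, [0], 1095), (0, [], 0), (0, [], 0), (41, [4, 8, 11, 8, 6, 4, 6, 11, 8, 6, 4, 6, 10, 8, 6, 4, 6, 10, 10, 8, 11], 2039), (41, [10, 9, 11, 11, 7, 5, 7, 9, 11, 7, 5, 7, 9, 10, 7, 5, 7, 9, 10, 9, 5], 2688), (97, [4, 11, 8, 6, 4, 12, 11, 8, 6, 4, 10, 8, 6, 4, 11, 8, 6, 10, 8, 12], 1889), (97, [4, 11, 8, 6, 4, 12, 11, 8, 6, 4, 10, 8, 6, 4, 11, 8, 6, 10, 8, 12], 1891), (83, [9, 11, 11, 7, 9, 11, 5, 7, 9, 10, 5, 7, 9, 10, 5, 7, 9, 7, 5], 2689), (83, [9, 11, 11, 7, 9, 11, 5, 7, 9, 10, 5, 7, 9, 10, 5, 7, 9, 7, 5], 2690), (75, [], 2691), (40, [8, 6, 4, 10, 8, 6, 4, 6, 12, 11, 8, 6, 4, 11, 8, 6, 4, 11, 8], 2440), (88, [4, 11, 8, 6, 4, 12, 11, 8, 6, 4, 10, 8, 6, 4, 11, 8, 6, 10, 8, 12], 1890), (63, [13], 269),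 (42, [4, 6, 8, 6, 4, 11, 8, 6, 4, 11, 8, 6, 4, 10, 8, 6, 10, 10, 8], 1863), (42, [8, 6, 4, 10, 10, 8, 6, 4, 6, 11, 8, 6, 4, 11, 8, 6, 4, 11, 8], 1859)]

/-- A row. -/
def row42 : CRow := [(42, [0], 1045), (42, [1], 2692), (0, [], 0), (0, [], 0), (42, [10, 9, 11, 11, 7, 5, 7, 9, 11, 7, 5, 7, 9, 10, 7, 5, 7, 9, 10, 9, 5], 2693), (42, [4, 8, 11, 8, 6, 4, 6, 11, 8, 6, 4, 6, 10, 8, 6, 4, 6, 10, 10, 8, 11], 2031), (25, [4, 11, 8, 6, 4, 6, 11, 8, 6, 4, 11, 8, 6, 10, 8, 6, 4, 6, 10, 8, 13], 1861), (25, [4, 11, 8, 6, 4, 6, 11, 8, 6, 4, 11, 8, 6, 10, 8, 6, 4, 6, 10, 8, 13], 1857), (82, [], 309), (82, [], 2694), (25, [13, 9, 11, 5, 7, 9, 11, 5, 7, 5, 7, 9, 10, 7, 9, 11, 5, 7, 9, 7], 2695), (43, [], 2696), (15, [], 358), (21, [4, 11, 8, 6, 4, 6, 11, 8, 6, 4, 11, 8, 6, 10, 8, 6, 4, 6, 10, 8, 13], 1860), (41, [4, 6, 8, 6, 4, 11, 8,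 6, 4, 11, 8, 6, 4, 10, 8, 6, 10, 10, 8], 1858), (41, [8, 6, 4, 10, 10, 8, 6, 4, 6, 11, 8, 6, 4, 11, 8, 6, 4, 11, 8], 1862)]

/-- A row. -/
def row43 : CRow := [(43, [0], 1099), (43, [1], 2697), (0, [], 0), (0, [], 0), (43, [4, 8, 11, 8, 6, 4, 6, 11, 8, 6, 4, 6, 10, 8, 6, 4, 6, 10, 10, 8, 11], 2038), (43, [4, 8, 11, 8, 6, 4, 6, 11, 8, 6, 4, 6, 10, 8, 6, 4, 6, 10, 10, 8, 11], 2037), (26, [4, 6, 10, 8, 6, 4, 6, 13, 11, 8, 6, 4, 6, 11, 8, 6, 4, 6, 10, 8, 13], 2444), (26, [4, 6, 10, 8, 6, 4, 6, 13, 11, 8, 6, 4, 6, 11, 8, 6, 4, 6, 10, 8, 13], 2445), (119, [12], 2698), (119, [12], 2699), (42, [], 205), (28, [], 2700), (102, [8, 11, 8, 10, 13], 334), (23, [], 2701), (44, [0, 4, 12, 11, 8, 6, 4, 11, 8, 6, 4, 11, 8, 6, 4, 11, 8, 11, 8, 6, 4, 11], 2036), (44, [0, 10, 8, 6, 4, 12, 10, 8, 6, 4, 11, 8, 6, 4, 10, 8, 10, 8], 2034)]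

/-- A row. -/
def row44 : CRow := [(44, [0], 1840), (44, [0], 1841), (0, [], 0), (0, [], 0), (44, [6, 4, 8, 10, 8, 6, 4, 10, 8, 6, 4, 11, 8, 6, 4, 6, 10, 8, 6, 10, 8, 10], 1842), (44, [6, 4, 8, 10, 8, 6, 4, 10, 8, 6, 4, 11, 8, 6, 4, 6, 10, 8, 6, 10, 8, 10], 1843), (57, [], 338), (57, [], 2702), (79, [11, 8, 6, 4, 11, 8, 6, 4, 6, 11, 8, 6, 4, 10, 8, 6, 10, 8, 12], 1991), (79, [11, 8, 6, 4, 11, 8, 6, 4, 6, 11, 8, 6, 4, 10, 8, 6, 10, 8, 12], 1990), (45, [], 2703), (93, [4, 6, 10, 10, 8, 6, 4, 6, 4, 10, 8, 6, 4, 6, 10, 13], 1837), (40, [11, 8, 6, 4, 11, 8, 6, 4, 6, 11, 8, 6, 4, 10, 8, 6, 10, 8, 12], 2473), (89, [4, 6, 10, 10, 8, 6, 4, 6, 4, 10, 8, 6, 4, 6, 10], 1839), (43, [0, 4, 8, 11, 8, 6, 4, 10, 8, 6, 4, 11, 8, 6, 10, 8, 13, 11], 2475), (43, [0, 4, 6, 4, 8, 11, 8, 6, 4, 11, 11, 8, 6, 4, 11, 8, 6, 4, 11, 8, 10, 13], 2474)]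

/-- A row. -/
def row45 : CRow := [(45, [0], 1797), (45, [0], 1796), (0, [], 0), (0, [], 0), (45, [6, 4, 8, 10, 8, 6, 4, 10, 8, 6, 4, 11, 8, 6, 4, 6, 10, 8, 6, 10, 8, 10], 1803), (45, [6, 4, 8, 10, 8, 6, 4, 10, 8, 6, 4, 11, 8, 6, 4, 6, 10, 8, 6, 10, 8, 10], 1802), (58, [], 295), (58, [], 2704), (69, [], 111), (69, [], 2705), (65, [11, 8, 6, 4, 11, 8, 6, 4, 6, 11, 8, 6, 4, 10, 8, 6, 10, 8], 2328), (44, [], 112), (75, [4, 6, 10, 10, 8, 6, 4, 6, 4, 10, 8, 6, 4, 6, 10], 1801), (68, [4, 6, 10, 10, 8, 6, 4, 6, 4, 10, 8, 6, 4, 6, 10], 1798), (46, [6, 4, 11, 8, 6, 4, 6, 11, 8, 6, 4, 6, 8, 11, 8, 12], 2327), (46, [4, 6, 4, 8, 6, 4, 6, 12, 11, 8, 6, 4, 6, 8, 10, 10], 1799)]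

/-- A row. -/
def row46 : CRow := [(46, [0], 1084), (46, [1], 2706), (0, [], 0), (0, [], 0), (46, [4, 8, 11, 8, 6, 4, 6, 11, 8, 6, 4, 6, 10, 8, 6, 4, 6, 10, 10, 8, 11], 2427), (46, [4, 8, 11, 8, 6, 4, 6, 11, 8, 6, 4, 6, 10, 8, 6, 4, 6, 10, 10, 8, 11], 2426), (86, [6, 4, 6, 8, 6, 4, 6, 12, 11, 8, 6, 4, 6, 8, 11, 8, 6, 11], 2424), (86, [6, 4, 6, 8, 6, 4, 6, 12, 11, 8, 6, 4, 6, 8, 11, 8, 6, 11], 2429), (68, [4, 8, 6, 4, 10, 8, 6, 4, 10, 8, 6, 4, 13, 10, 8, 6, 10, 10, 8], 2432), (68, [4, 8, 6, 4, 10, 8, 6, 4, 10, 8, 6, 4, 13, 10, 8, 6, 10, 10, 8], 2431), (104, [10, 5, 7, 9, 10, 7, 5, 7, 9, 10, 13, 9, 7, 5, 7, 9, 5], 2707), (47, [], 2708), (69, [6, 13, 11, 8, 6, 4, 6, 11, 8, 6, 10, 8, 6], 2428), (93, [13], 2709), (45, [4, 6, 4, 10, 8, 6, 4, 13, 10, 8, 6, 4, 6, 8, 11, 8], 2430), (45, [4, 8, 6, 13, 11, 8, 6, 4, 6, 4, 8, 6, 10,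 8, 6, 11], 2425)]

/-- A row. -/
def row47 : CRow := [(47, [0], 902), (47, [1], 2710), (0, [], 0), (0, [], 0), (47, [4, 8, 11, 8, 6, 4, 6, 11, 8, 6, 4, 6, 10, 8, 6, 4, 6, 10, 10, 8, 11], 2277), (47, [4, 8, 11, 8, 6, 4, 6, 11, 8, 6, 4, 6, 10, 8, 6, 4, 6, 10, 10, 8, 11], 2276), (73, [], 263), (73, [], 2711), (53, [9, 11, 12, 7, 9, 11, 5, 7, 9, 10, 5, 7, 9, 10, 5, 7, 9, 7, 5], 2712), (53, [8, 6, 4, 10, 8, 6, 4, 6, 12, 11, 8, 6, 4, 11, 8, 6, 4, 11, 8], 2069), (46, [], 98), (66, [], 2713), (90, [], 99), (65, [8, 6, 4, 6, 11, 8, 6, 4, 6, 10, 8, 6, 4, 10, 8, 6, 11, 8, 6, 4], 2279), (48, [], 2714), (48, [4, 10, 8, 6, 4, 6, 11, 11, 8, 6, 4, 6, 11, 8, 6, 4, 6, 10, 8, 10, 8], 2278)]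

/-- A row. -/
def row48 : CRow := [(48, [0], 593), (48, [0], 2209), (0, [], 0), (0, [], 0), (48, [4, 8, 11, 8, 6, 4, 6, 11, 8, 6, 4, 6, 10, 8, 6, 4, 6, 10, 10, 8, 11], 2211), (48, [4, 8, 11, 8, 6, 4, 6, 11, 8, 6, 4, 6, 10, 8, 6, 4, 6, 10, 10, 8, 11], 2210), (76, [4, 8, 6, 4], 285), (76, [9, 5, 7, 5], 2715), (65, [], 55), (65, [], 2716), (3, [], 2717), (53, [], 56), (53, [12], 2718), (51, [], 57), (47, [4, 10, 8, 6, 4, 6, 11, 11, 8, 6, 4, 6, 11, 8, 6, 4, 6, 10, 8, 10, 8], 2212), (47, [], 509)]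

/-- A row. -/
def row49 : CRow := [(49, [0], 483), (49, [0], 2180), (0, [], 0), (0, [], 0), (49, [4, 8, 11, 8, 6, 4, 6, 11, 8, 6, 4, 6, 10, 8, 6, 4, 6, 10, 10, 8, 11], 2182), (49, [4, 8, 11, 8, 6, 4, 6, 11, 8, 6, 4, 6, 10, 8, 6, 4, 6, 10, 10, 8, 11], 2181), (49, [8, 10, 8, 11], 191), (49, [10, 9, 11, 9], 2719), (30, [], 190), (30, [], 2720), (82, [], 35), (114, [], 36), (96, [], 37), (36, [], 38), (81, [], 39), (81, [4, 10, 8, 6, 4, 6, 11, 11, 8, 6, 4, 6, 11, 8, 6, 4, 6, 10, 8, 10, 8], 2179)]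

/-- A row. -/
def row50 : CRow := [(50, [0], 956), (50, [1], 2721), (0, [], 0), (0, [], 0), (50, [10, 9, 11, 11, 7, 5, 7, 9, 11, 7, 5, 7, 9, 10, 7, 5, 7, 9, 10, 9, 5], 2722), (50, [4, 8, 11, 8, 6, 4, 6, 11, 8, 6, 4, 6, 10, 8, 6, 4, 6, 10, 10, 8, 11], 1581), (59, [4, 8, 6, 4], 279), (59, [9, 5, 7, 5], 2723), (116, [4, 8, 6, 4, 13, 10, 8, 6, 4, 6, 11, 8, 6, 4, 11, 8, 6, 10, 8, 6], 1949), (116, [13, 9, 11, 5, 7, 9, 11, 5, 7, 5, 7, 9, 10, 7, 9, 11, 5, 7, 9, 7], 2724), (51, [12], 2725), (39, [], 2726), (52, [13], 280), (39, [13], 2727), (111, [8, 6, 4, 6, 11, 8, 6, 4, 6, 10, 8, 6, 4, 10, 8, 6, 11, 8, 6, 4], 2315), (111, [4, 6, 8, 6, 4, 11, 8, 6, 10, 8, 6, 4, 6, 11, 8, 6, 4, 6, 10, 8], 2314)]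

/-- A row. -/
def row51 : CRow := [(51, [1], 2728), (51, [0], 963), (0, [], 0), (0, [], 0), (51, [4, 8, 11, 8, 6, 4, 6, 11, 8, 6, 4, 6, 10, 8, 6, 4, 6, 10, 10, 8, 11], 1705), (51, [4, 8, 11, 8, 6, 4, 6, 11, 8, 6, 4, 6, 10, 8, 6, 4, 6, 10, 10, 8, 11], 1706), (79, [9, 5, 7, 5], 2729), (79, [4, 8, 6, 4], 290), (90, [4, 6, 8, 6, 4, 11, 8, 6, 10, 8, 6, 4, 6, 11, 8, 6, 4, 6, 10, 8], 1703), (90, [4, 6, 8, 6, 4, 11, 8, 6, 10, 8, 6, 4, 6, 11, 8, 6, 4, 6, 10, 8], 1704), (52, [], 223), (50, [13], 284), (48, [], 2730), (53, [12], 2731), (90, [4, 10, 8, 6, 4, 6, 11, 11, 8, 6, 4, 6, 11, 8, 6, 4, 6, 10, 8, 10, 8], 2321), (90, [], 2732)]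

/-- A row. -/
def row52 : CRow := [(52, [1], 2733), (52, [0], 957), (0, [], 0), (0, [], 0), (52, [4, 8, 11, 8, 6, 4, 6, 11, 8, 6, 4, 6, 10, 8, 6, 4, 6, 10, 10, 8, 11], 1664), (52, [4, 8, 11, 8, 6, 4, 6, 11, 8, 6, 4, 6, 10, 8, 6, 4, 6, 10, 10, 8, 11], 1663), (78, [9, 5, 7, 5], 2734), (78, [4, 8, 6, 4], 281), (58, [4, 8, 6, 4, 10, 8, 6, 4, 10, 8, 6, 4, 10, 10, 8, 6, 12, 10, 8], 2316), (58, [4, 8, 6, 4, 10, 8, 6, 4, 10, 8, 6, 4, 10, 10, 8, 6, 12, 10, 8], 2317), (53, [13], 287), (51, [], 2735), (39, [], 2736), (50, [12], 2737), (103, [6, 8, 6, 4, 10, 8, 6, 11, 8, 6, 4, 6, 4, 10, 8, 6, 4, 10, 8, 12], 1660), (103, [4, 8, 6, 4, 10, 8, 6, 4, 10, 8, 6, 4, 10, 10, 8, 6, 12, 10, 8], 1665)]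

/-- A row. -/
def row53 : CRow := [(53, [1], 2738), (53, [0], 961), (0, [], 0), (0, [], 0), (53, [10, 9, 11, 11, 7, 5, 7, 9, 11, 7, 5, 7, 9, 10, 7, 5, 7, 9, 10, 9, 5], 2739), (53, [4, 8, 11, 8, 6, 4, 6, 11, 8, 6, 4, 6, 10, 8, 6, 4, 6, 10, 10, 8, 11], 1606), (77, [4, 8, 6, 4], 291), (77, [9, 5, 7, 5], 2740), (47, [9, 10, 5, 7, 9, 10, 5, 7, 9, 10, 13, 7, 5, 7, 9, 11, 5, 7, 9], 2741), (47, [4, 6, 8, 6, 4, 11, 8, 6, 4, 11, 8, 6, 4, 10, 8, 6, 13, 10, 8], 2059), (48, [], 2742), (52, [12], 2743), (51, [13], 289), (48, [13], 222), (65, [4, 6, 8, 6, 4, 11, 8, 6, 4, 11, 8, 6, 4, 10, 8, 6, 13, 10, 8], 2320), (65, [8, 6, 4, 10, 10, 8, 6, 4, 6, 11, 8, 6, 4, 11, 8, 6, 4, 11, 8, 13], 2319)]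

/-- A row. -/
def row54 : CRow := [(54, [1], 2744), (54, [0], 765), (0, [], 0), (0, [], 0), (54, [4, 8, 11, 8, 6, 4, 6, 11, 8, 6, 4, 6, 10, 8, 6, 4, 6, 10, 10, 8, 11], 2256), (54, [4, 8, 11, 8, 6, 4, 6, 11, 8, 6, 4, 6, 10, 8, 6, 4, 6, 10, 10, 8, 11], 2255), (39, [4, 6, 4, 8], 277), (39, [5, 7, 9, 5], 2745), (55, [], 74), (55, [], 2746), (4, [], 2747), (59, [], 75), (59, [12], 2748), (78, [], 76), (57, [4, 10, 8, 6, 4, 6, 11, 11, 8, 6, 4, 6, 11, 8, 6, 4, 6, 10, 8, 10, 8], 2257), (57, [], 712)]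

/-- A row. -/
def row55 : CRow := [(55, [0], 1029), (55, [1], 2749), (0, [], 0), (0, [], 0), (55, [4, 8, 11, 8, 6, 4, 6, 11, 8, 6, 4, 6, 10, 8, 6, 4, 6, 10, 10, 8, 11], 1684), (55, [4, 8, 11, 8, 6, 4, 6, 11, 8, 6, 4, 6, 10, 8, 6, 4, 6, 10, 10, 8, 11], 1683), (93, [6, 8, 11, 8, 6, 4, 6, 10, 8, 6, 4, 6, 10, 8, 6, 4, 6, 12], 2136), (93, [12, 11, 7, 9, 11, 7, 5, 7, 9, 10, 10, 7, 5, 7, 9, 7, 5, 7], 2750), (54, [], 303), (54, [], 2751), (56, [], 2355), (57, [4, 6, 8, 6, 4, 11, 8, 6, 4, 11, 8, 6, 4, 10, 8, 6, 13, 10, 8], 2356), (86, [], 117), (91, [9, 11, 5, 7, 9, 11, 5, 7, 9, 10, 12, 10, 5, 7, 9, 11, 5, 7, 9], 2752), (71, [4, 10, 8, 6, 4, 6, 11, 11, 8, 6, 4, 6, 11, 8, 6, 4, 6, 10, 8, 10, 8], 2358), (71, [], 2357)]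

/-- A row. -/
def row56 : CRow := [(56, [0], 1058), (56, [1], 2753), (0, [], 0), (0, [], 0), (56, [4, 8, 11, 8, 6, 4, 6, 11, 8, 6, 4, 6, 10, 8, 6, 4, 6, 10, 10, 8, 11], 2110), (56, [10, 9, 11, 11, 7, 5, 7, 9, 11, 7, 5, 7, 9, 10, 7, 5, 7, 9, 10, 9, 5], 2754), (94, [6, 8, 11, 8, 6, 4, 6, 10, 8, 6, 4, 6, 10, 8, 6, 4, 6, 12], 2129), (94, [12, 11, 7, 9, 11, 7, 5, 7, 9, 10, 10, 7, 5, 7, 9, 7, 5, 7], 2755), (64, [], 2026), (64, [], 2025), (72, [4, 8, 6, 4, 10, 8, 6, 4, 10, 8, 6, 4, 10, 10, 8, 6, 12, 10, 8], 2369), (55, [], 2368), (117, [10, 7, 9, 10, 9, 7, 5, 7, 9, 10, 13, 7, 5, 7, 9, 7, 5, 7], 2756), (61, [10, 7, 9, 10, 9, 7, 5, 7, 9, 10, 13, 7, 5, 7, 9, 7, 5, 7], 2757), (114, [4, 10, 8, 6, 4, 6, 11, 11, 8, 6, 4, 6, 11, 8, 6, 4, 6, 10, 8, 10, 8], 2367), (114, [], 2758)]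

/-- A row. -/
def row57 : CRow := [(57, [0], 993), (57, [1], 2759), (0, [], 0), (0, [], 0), (57, [4, 8, 11, 8, 6, 4, 6, 11, 8, 6, 4, 6, 10, 8, 6, 4, 6, 10, 10, 8, 11], 2330), (57, [4, 8, 11, 8, 6, 4, 6, 11, 8, 6, 4, 6, 10, 8, 6, 4, 6, 10, 10, 8, 11], 2329), (44, [], 296), (44, [], 2760), (71, [], 2137), (71, [], 2125), (55, [8, 6, 4, 10, 8, 6, 4, 6, 12, 11, 8, 6, 4, 11, 8, 6, 4, 11, 8], 2332), (58, [], 2761), (87, [], 113), (60, [], 114), (54, [], 2762), (54, [4, 10, 8, 6, 4, 6, 11, 11, 8, 6, 4, 6, 11, 8, 6, 4, 6, 10, 8, 10, 8], 2331)]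

/-- A row. -/
def row58 : CRow := [(58, [0], 866), (58, [1], 2763), (0, [], 0), (0, [], 0), (58, [4, 8, 11, 8, 6, 4, 6, 11, 8, 6, 4, 6, 10, 8, 6, 4, 6, 10, 10, 8, 11], 2226), (58, [4, 8, 11, 8, 6, 4, 6, 11, 8, 6, 4, 6, 10, 8, 6, 4, 6, 10, 10, 8, 11], 2227), (45, [], 62), (45, [], 2764), (52, [8, 6, 4, 10, 8, 6, 4, 11, 13, 11, 8, 6, 4, 10, 8, 6, 4, 10, 8], 2230), (52, [8, 6, 4, 10, 8, 6, 4, 11, 13, 11, 8, 6, 4, 10, 8, 6, 4, 10, 8], 2229), (57, [], 63), (92, [], 64), (74, [8, 6, 4, 10, 8, 6, 4, 11, 13, 11, 8, 6, 4, 10, 8, 6, 4, 10, 8], 2228), (116, [13], 2765), (80, [4, 10, 8, 6, 4, 6, 11, 11, 8, 6, 4, 6, 11, 8, 6, 4, 6, 10, 8, 10, 8], 2225), (80, [], 2766)]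

/-- A row. -/
def row59 : CRow := [(59, [1], 2767), (59, [0], 1030), (0, [], 0), (0, [], 0), (59, [10, 9, 11, 11, 7, 5, 7, 9, 11, 7, 5, 7, 9, 10, 7, 5, 7, 9, 10, 9, 5], 2768), (59, [4, 8, 11, 8, 6, 4, 6, 11, 8, 6, 4, 6, 10, 8, 6, 4, 6, 10, 10, 8, 11], 2041), (50, [4, 6, 4, 8], 282), (50, [5, 7, 9, 5], 2769), (86, [13], 307), (86, [13], 2770), (54, [], 2771), (79, [12], 2772), (78, [13], 305), (54, [13], 246), (60, [10, 8, 6, 4, 6, 4, 13, 10, 8, 6, 4, 6, 10, 8, 6, 4, 6, 10, 10, 8, 11], 2360), (60, [13], 2359)]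

/-- A row. -/
def row60 : CRow := [(60, [1], 2773), (60, [0], 1130), (0, [], 0), (0, [], 0), (60, [4, 8, 11, 8, 6, 4, 6, 11, 8, 6, 4, 6, 10, 8, 6, 4, 6, 10, 10, 8, 11], 2486), (60, [4, 8, 11, 8, 6, 4, 6, 11, 8, 6, 4, 6, 10, 8, 6, 4, 6, 10, 10, 8, 11], 2485), (89, [9, 10, 5, 7, 9, 11, 11, 5, 7, 5, 7, 9, 11, 7, 5], 2774), (89, [9, 10, 5, 7, 9, 11, 11, 5, 7, 5, 7, 9, 11, 7, 5], 2775), (73, [6, 4, 8, 6, 4, 6, 11, 8, 6, 4, 6, 10, 8, 6, 4, 6, 10, 8, 10, 12], 2108), (73, [6, 4, 8, 6, 4, 6, 11, 8, 6, 4, 6, 10, 8, 6, 4, 6, 10, 8, 10, 12], 2109), (61, [4, 6, 10, 10, 8, 6, 4, 6, 4, 10, 8, 6, 4, 6, 10], 2484), (71, [4, 8, 6, 4, 10, 8, 6, 4, 10, 8, 6, 4, 13, 10, 8, 6, 10, 10, 8], 2487), (57, [], 2776), (87, [], 2777), (59, [12], 1043), (59, [4, 10, 8, 6, 4, 6, 11, 11, 8, 6, 4, 6, 11, 8, 6, 4, 6, 11, 8, 12, 11], 1508)]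

/-- A row. -/
def row61 : CRow := [(61, [0], 2077), (61, [0], 2078), (0, [], 0), (0, [], 0), (61, [8, 6, 4, 10, 8, 6, 4, 10, 8, 6, 4, 11, 8, 6, 4, 10, 8, 6, 11, 8, 10, 10], 2080), (61, [8, 6, 4, 10, 8, 6, 4, 10, 8, 6, 4, 11, 8, 6, 4, 10, 8, 6, 11, 8, 10, 10], 2079), (70, [], 2778), (70, [], 2779), (67, [4, 8, 6, 4, 6, 8, 12, 11, 8, 6, 4, 6, 11, 8, 6, 4, 11], 2072), (67, [4, 8, 6, 4, 6, 8, 12, 11, 8, 6, 4, 6, 11, 8, 6, 4, 11], 2127), (62, [6, 4, 6, 4, 11, 8, 6, 4, 6, 11, 8, 6, 4, 13, 10], 2076), (60, [4, 6, 10, 8, 6, 4, 6, 4, 10, 10, 8, 6, 4, 11, 8], 2075), (56, [6, 4, 6, 8, 6, 4, 6, 12, 11, 8, 6, 4, 6, 8, 11, 8, 6, 11], 2144), (117, [], 264), (108, [4, 8, 6, 4, 13, 10, 8, 6, 4, 10, 8, 6, 4, 6, 11, 8, 6, 11, 8, 13], 2082), (108, [6, 4, 6, 8, 6, 4, 6, 12, 11, 8, 6, 4, 6, 8, 11, 8, 6, 11], 2081)]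

/-- A row. -/
def row62 : CRow := [(62, [1], 2780), (62, [0], 1128), (0, [], 0), (0, [], 0), (62, [4, 8, 11, 8, 6, 4, 6, 11, 8, 6, 4, 6, 10, 8, 6, 4, 6, 10, 10, 8, 11], 2065), (62, [4, 8, 11, 8, 6, 4, 6, 11, 8, 6, 4, 6, 10, 8, 6, 4, 6, 10, 10, 8, 11], 2066), (67, [4, 6, 10, 8, 6, 4, 6, 4, 12, 10, 8, 6, 4, 6, 10], 2064), (67, [4, 6, 10, 8, 6, 4, 6, 4, 12, 10, 8, 6, 4, 6, 10], 2068), (63, [], 2060), (63, [], 2063), (116, [], 2781), (61, [4, 6, 10, 8, 6, 4, 6, 4, 12, 10, 8, 6, 4, 6, 10], 2472), (83, [9, 11, 12, 7, 9, 11, 5, 7, 9, 10, 5, 7, 9, 10, 5, 7, 9, 7, 5], 2782), (98, [8, 6, 4, 10, 8, 6, 4, 6, 12, 11, 8, 6, 4, 11, 8, 6, 4, 11, 8], 2067), (99, [12, 9, 10, 5, 7, 9, 10, 5, 7, 9, 10, 7, 5, 7, 9, 11, 11, 5, 7, 9], 2783), (99, [9, 11, 12, 7, 9, 11, 5, 7, 9, 10, 5, 7, 9, 10, 5, 7, 9, 7, 5], 2784)]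

/-- A row. -/
def row63 : CRow := [(63, [1], 2785), (63, [0], 1077), (0, [], 0), (0, [], 0), (63, [4, 8, 11, 8, 6, 4, 6, 11, 8, 6, 4, 6, 10, 8, 6, 4, 6, 10, 10, 8, 11], 1597), (63, [4, 8, 11, 8, 6, 4, 6, 11, 8, 6, 4, 6, 10, 8, 6, 4, 6, 10, 10, 8, 11], 1598), (72, [11, 8, 6, 4, 6, 4, 11, 8, 6, 4, 6, 11, 8, 6, 4, 6, 10, 8, 6], 2403), (72, [11, 8, 6, 4, 6, 4, 11, 8, 6, 4, 6, 11, 8, 6, 4, 6, 10, 8, 6], 2404), (62, [], 2402), (62, [], 2400), (94, [], 2786), (64, [6, 8, 6, 4, 10, 8, 6, 11, 8, 6, 4, 6, 4, 10, 8, 6, 4, 10, 8, 12], 2401), (41, [12], 2787), (88, [11, 8, 6, 4, 6, 4, 11, 8, 6, 4, 6, 11, 8, 6, 4, 6, 10, 8, 6], 1848), (15, [4, 6, 8, 6, 4, 12, 11, 8, 6, 4, 11, 8, 6, 4, 10, 8, 6, 10, 10, 8], 2399), (15, [8, 6, 4, 10, 8, 6, 4, 6, 12, 11, 8, 6, 4, 11, 8, 6, 4, 11, 8], 2398)]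

/-- A row. -/
def row64 : CRow := [(64, [0], 1125), (64, [1], 2788), (0, [], 0), (0, [], 0), (64, [4, 8, 11, 8, 6, 4, 6, 11, 8, 6, 4, 6, 10, 8, 6, 4, 6, 10, 10, 8, 11], 2005), (64, [4, 8, 11, 8, 6, 4, 6, 11, 8, 6, 4, 6, 10, 8, 6, 4, 6, 10, 10, 8, 11], 2006), (83, [6, 4, 8, 13, 10, 8, 6, 4, 11, 8, 6, 4, 11, 8, 6, 10, 8, 11, 12], 2052), (83, [11, 12, 7, 9, 11, 7, 5, 7, 9, 10, 5, 7, 9, 11, 5, 7, 9, 10, 13], 2789), (56, [], 2470), (56, [], 2471), (63, [4, 8, 6, 4, 13, 10, 8, 6, 4, 6, 11, 8, 6, 4, 11, 8, 6, 10, 8, 6], 2004), (65, [], 2790), (104, [6, 8, 11, 8, 6, 4, 6, 10, 8, 6, 4, 6, 10, 8, 6, 4, 6, 13], 2008), (67, [4, 6, 8, 6, 4, 11, 8, 6, 10, 8, 6, 4, 6, 11, 8, 6, 4, 6, 10, 8], 2007), (110, [4, 10, 8, 6, 4, 6, 11, 11, 8, 6, 4, 6, 11, 8, 6, 4, 6, 10, 8, 10, 8], 2055), (110, [], 2791)]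

/-- A row. -/
def row65 : CRow := [(65, [0], 960), (65, [1], 2792), (0, [], 0), (0, [], 0), (65, [4, 8, 11, 8, 6, 4, 6, 11, 8, 6, 4, 6, 10, 8, 6, 4, 6, 10, 10, 8, 11], 2000), (65, [4, 8, 11, 8, 6, 4, 6, 11, 8, 6, 4, 6, 10, 8, 6, 4, 6, 10, 10, 8, 11], 1999), (92, [6, 8, 6, 4, 10, 8, 6, 4, 10, 8, 6, 4, 10, 8, 6, 11, 8, 10], 2002), (92, [6, 8, 6, 4, 10, 8, 6, 4, 10, 8, 6, 4, 10, 8, 6, 11, 8, 10], 2003), (48, [], 286), (48, [], 2793), (64, [], 109), (45, [6, 8, 6, 4, 10, 8, 6, 4, 10, 8, 6, 4, 10, 8, 6, 11, 8, 10], 2318), (47, [4, 6, 8, 6, 4, 11, 8, 6, 10, 8, 6, 4, 6, 11, 8, 6, 4, 6, 10, 8], 1997), (90, [4, 6, 8, 6, 4, 11, 8, 6, 10, 8, 6, 4, 6, 11, 8, 6, 4, 6, 10, 8], 1998), (53, [4, 6, 8, 6, 4, 12, 11, 8, 6, 4, 11, 8, 6, 4, 10, 8, 6, 10, 10, 8], 1994), (53, [8, 6, 4, 10, 8, 6, 4, 6, 12, 11, 8, 6, 4, 11, 8, 6, 4, 11, 8], 2001)]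

/-- A row. -/
def row66 : CRow := [(66, [0], 841), (66, [1], 2794), (0, [], 0), (0, [], 0), (66, [4, 8, 11, 8, 6, 4, 6, 11, 8, 6, 4, 6, 10, 8, 6, 4, 6, 10, 10, 8, 11], 2189), (66, [4, 8, 11, 8, 6, 4, 6, 11, 8, 6, 4, 6, 10, 8, 6, 4, 6, 10, 10, 8, 11], 2190), (117, [], 42), (117, [], 2795), (81, [], 199), (81, [], 2796), (47, [], 43), (75, [], 44), (70, [], 201), (94, [13], 2797), (30, [4, 10, 8, 6, 4, 6, 11, 11, 8, 6, 4, 6, 11, 8, 6, 4, 6, 10, 8, 10, 8], 2188), (30, [], 2798)]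

/-- A row. -/
def row67 : CRow := [(67, [1], 2799), (67, [0], 1080), (0, [], 0), (0, [], 0), (67, [10, 9, 11, 11, 7, 5, 7, 9, 11, 7, 5, 7, 9, 10, 7, 5, 7, 9, 10, 9, 5], 2800), (67, [4, 8, 11, 8, 6, 4, 6, 11, 8, 6, 4, 6, 10, 8, 6, 4, 6, 10, 10, 8, 11], 1608), (62, [6, 4, 6, 4, 11, 8, 6, 4, 6, 11, 8, 6, 4, 13, 10], 2411), (62, [6, 4, 6, 4, 11, 8, 6, 4, 6, 11, 8, 6, 4, 13, 10], 2412), (61, [10, 5, 7, 9, 10, 7, 5, 7, 9, 10, 13, 9, 7, 5, 7, 9, 5], 2801), (61, [10, 5, 7, 9, 10, 7, 5, 7, 9, 10, 13, 9, 7, 5, 7, 9, 5], 2802), (70, [], 2803), (68, [], 268), (64, [8, 6, 4, 6, 11, 8, 6, 4, 6, 10, 8, 6, 4, 10, 8, 6, 11, 8, 6, 4], 2410), (104, [10, 5, 7, 9, 10, 7, 5, 7, 9, 10, 13, 9, 7, 5, 7, 9, 5], 2804), (20, [4, 6, 8, 6, 4, 12, 11, 8, 6, 4, 11, 8, 6, 4, 10, 8, 6, 10, 10, 8], 2409), (20, [8, 6, 4, 10, 8, 6, 4, 6, 12, 11, 8, 6, 4,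 11, 8, 6, 4, 11, 8], 2408)]

/-- A row. -/
def row68 : CRow := [(68, [0], 1096), (68, [1], 2805), (0, [], 0), (0, [], 0), (68, [10, 9, 11, 11, 7, 5, 7, 9, 11, 7, 5, 7, 9, 10, 7, 5, 7, 9, 10, 9, 5], 2806), (68, [4, 8, 11, 8, 6, 4, 6, 11, 8, 6, 4, 6, 10, 8, 6, 4, 6, 10, 10, 8, 11], 1569), (116, [6, 4, 6, 4, 11, 8, 6, 4, 6, 11, 8, 6, 4, 13, 10], 1954), (116, [6, 4, 6, 4, 11, 8, 6, 4, 6, 11, 8, 6, 4, 13, 10], 1952), (46, [8, 6, 4, 10, 10, 8, 6, 4, 10, 8, 6, 4, 12, 10, 8, 6, 4, 10, 8], 1953), (46, [8, 6, 4, 10, 10, 8, 6, 4, 10, 8, 6, 4, 12, 10, 8, 6, 4, 10, 8], 1955), (67, [], 2807), (69, [13, 10, 7, 9, 11, 7, 5, 7, 9, 11, 7, 9, 7], 2808), (45, [4, 6, 10, 8, 6, 4, 6, 4, 10, 10, 8, 6, 4, 11, 8], 2443), (75, [], 2809), (69, [4, 8, 11, 8, 6, 10, 8, 6, 4, 6, 4, 10, 8, 6, 10], 2442), (69, [6, 11, 8, 6, 4, 6, 11, 8, 6, 10, 8, 6],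 2441)]

/-- A row. -/
def row69 : CRow := [(69, [0], 2096), (69, [0], 2095), (0, [], 0), (0, [], 0), (69, [6, 4, 8, 10, 8, 6, 4, 10, 8, 6, 4, 11, 8, 6, 4, 6, 10, 8, 6, 10, 8, 10], 2099), (69, [6, 4, 8, 10, 8, 6, 4, 10, 8, 6, 4, 11, 8, 6, 4, 6, 10, 8, 6, 10, 8, 10], 2100), (91, [4, 11, 11, 8, 6, 4, 6, 11, 8, 6, 4, 11, 8, 6, 11], 2098), (91, [4, 11, 11, 8, 6, 4, 6, 11, 8, 6, 4, 11, 8, 6, 11], 2097), (45, [], 337), (45, [], 2810), (68, [6, 8, 6, 10, 8, 6, 4, 6, 10, 8, 6, 11, 12], 2104), (88, [4, 11, 11, 8, 6, 4, 6, 11, 8, 6, 4, 11, 8, 6, 11], 2119), (93, [6, 8, 6, 10, 8, 6, 4, 6, 10, 8, 6, 11], 2093), (46, [6, 8, 6, 10, 8, 6, 4, 6, 10, 8, 6, 11, 12], 2094), (68, [6, 8, 6, 10, 8, 6, 4, 6, 10, 8, 6, 11], 2092), (68, [6, 4, 10, 8, 6, 4, 6, 11, 8, 6, 4, 10, 8, 10, 8], 2090)]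

/-- A row. -/
def row70 : CRow := [(70, [0], 897), (70, [1], 2811), (0, [], 0), (0, [], 0), (70, [4, 8, 11, 8, 6, 4, 6, 11, 8, 6, 4, 6, 10, 8, 6, 4, 6, 10, 10, 8, 11], 2272), (70, [4, 8, 11, 8, 6, 4, 6, 11, 8, 6, 4, 6, 10, 8, 6, 4, 6, 10, 10, 8, 11], 2273), (61, [], 93), (61, [], 265), (72, [], 261), (72, [], 2812), (89, [], 94), (67, [], 95), (94, [13], 259), (66, [], 2813), (12, [4, 10, 8, 6, 4, 6, 11, 11, 8, 6, 4, 6, 11, 8, 6, 4, 6, 10, 8, 10, 8], 2271), (12, [], 2814)]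

/-- A row. -/
def row71 : CRow := [(71, [0], 1068), (71, [1], 2815), (0, [], 0), (0, [], 0), (71, [4, 8, 11, 8, 6, 4, 6, 11, 8, 6, 4, 6, 10, 8, 6, 4, 6, 10, 10, 8, 11], 2021), (71, [4, 8, 11, 8, 6, 4, 6, 11, 8, 6, 4, 6, 10, 8, 6, 4, 6, 10, 10, 8, 11], 2020), (90, [6, 4, 8, 6, 4, 6, 11, 8, 6, 4, 6, 10, 8, 6, 4, 6, 10, 8, 10, 12], 1969), (90, [6, 4, 8, 6, 4, 6, 11, 8, 6, 4, 6, 10, 8, 6, 4, 6, 10, 8, 10, 12], 1967), (57, [], 2816), (57, [], 2817), (60, [8, 6, 4, 10, 10, 8, 6, 4, 10, 8, 6, 4, 12, 10, 8, 6, 4, 10, 8], 2019), (81, [], 2818), (92, [8, 6, 4, 10, 10, 8, 6, 4, 10, 8, 6, 4, 12, 10, 8, 6, 4, 10, 8], 1970), (73, [6, 4, 8, 6, 4, 6, 11, 8, 6, 4, 6, 10, 8, 6, 4, 6, 10, 8, 10, 12], 1968), (55, [], 2390), (55, [4, 10, 8, 6, 4, 6, 11, 11, 8, 6, 4, 6, 11, 8, 6, 4, 6, 10, 8, 10, 8], 2018)]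

/-- A row. -/
def row72 : CRow := [(72, [0], 1064), (72, [1], 2819), (0, [], 0), (0, [], 0), (72, [4, 8, 11, 8, 6, 4, 6, 11, 8, 6, 4, 6, 10, 8, 6, 4, 6, 10, 10, 8, 11], 2381), (72, [4, 8, 11, 8, 6, 4, 6, 11, 8, 6, 4, 6, 10, 8, 6, 4, 6, 10, 10, 8, 11], 2382), (63, [6, 4, 8, 6, 4, 6, 11, 8, 6, 4, 6, 10, 8, 6, 4, 6, 10, 8, 10], 2383), (63, [6, 4, 8, 6, 4, 6, 11, 8, 6, 4, 6, 10, 8, 6, 4, 6, 10, 8, 10], 2379), (70, [], 260), (70, [], 2820), (83, [4, 8, 6, 4, 10, 8, 6, 4, 10, 8, 6, 4, 10, 10, 8, 6, 12, 10, 8], 2384), (56, [8, 6, 4, 10, 8, 6, 4, 11, 13, 11, 8, 6, 4, 10, 8, 6, 4, 10, 8], 1901), (97, [], 322), (81, [], 2821), (36, [4, 10, 8, 6, 4, 6, 11, 11, 8, 6, 4, 6, 11, 8, 6, 4, 6, 10, 8, 10, 8], 2380), (36, [], 2822)]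

/-- A row. -/
def row73 : CRow := [(73, [1], 2823), (73, [0], 2130), (0, [], 0), (0, [], 0), (73, [11, 11, 9, 10, 7, 9, 11, 5, 7, 9, 10, 5, 7, 9, 11, 5, 7, 9, 11, 5, 7, 9], 2824), (73, [8, 6, 4, 10, 8, 6, 4, 10, 8, 6, 4, 11, 8, 6, 4, 10, 8, 6, 11, 8, 10, 10], 2105), (47, [], 326), (47, [], 2825), (60, [13, 11, 9, 11, 7, 5, 7, 9, 11, 7, 5, 7, 9, 10, 7, 5, 7, 9, 5, 7], 2826), (60, [13, 11, 9, 11, 7, 5, 7, 9, 11, 7, 5, 7, 9, 10, 7, 5, 7, 9, 5, 7], 2827), (117, [], 2828), (86, [6, 4, 6, 8, 6, 4, 6, 12, 11, 8, 6, 4, 6, 8, 11, 8, 6, 11], 2419), (71, [4, 11, 8, 6, 4, 12, 11, 8, 6, 4, 10, 8, 6, 4, 11, 8, 6, 10, 8, 12], 2420), (92, [4, 6, 10, 8, 6, 4, 6, 4, 10, 10, 8, 6, 4, 11, 8], 2421), (86, [4, 11, 8, 6, 4, 12, 11, 8, 6, 4, 10, 8, 6, 4, 11, 8, 6, 10, 8, 12], 2423), (86, [6, 4, 6, 10, 8, 6, 4, 6, 11, 8, 6, 4, 6, 10, 8, 6, 13,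 11], 2422)]

/-- A row. -/
def row74 : CRow := [(74, [0], 955), (74, [1], 2829), (0, [], 0), (0, [], 0), (74, [4, 8, 11, 8, 6, 4, 6, 11, 8, 6, 4, 6, 10, 8, 6, 4, 6, 10, 10, 8, 11], 1637), (74, [4, 8, 11, 8, 6, 4, 6, 11, 8, 6, 4, 6, 10, 8, 6, 4, 6, 10, 10, 8, 11], 1636), (75, [6, 10, 8, 6, 4, 10, 8, 6, 4, 10, 8, 6, 4, 12, 11, 8, 6], 2312), (75, [6, 10, 8, 6, 4, 10, 8, 6, 4, 10, 8, 6, 4, 12, 11, 8, 6], 2310), (39, [], 278), (39, [], 2830), (97, [4, 6, 8, 6, 4, 11, 8, 6, 10, 8, 6, 4, 6, 11, 8, 6, 4, 6, 10, 8], 2313), (117, [11, 9, 11, 7, 9, 11, 12, 5, 7, 9, 11, 7, 5, 7, 9, 5, 7], 2831), (116, [4, 8, 6, 4, 10, 8, 6, 4, 6, 11, 8, 6, 4, 11, 8, 6, 10, 8, 6], 1641), (58, [4, 8, 6, 4, 10, 8, 6, 4, 10, 8, 6, 4, 10, 10, 8, 6, 12, 10, 8], 2311), (115, [6, 8, 6, 4, 10, 8, 6, 11, 8, 6, 4, 6, 4, 10, 8, 6, 4, 10, 8, 12], 1635), (115,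 [4, 8, 6, 4, 10, 8, 6, 4, 10, 8, 6, 4, 10, 10, 8, 6, 12, 10, 8], 1638)]

/-- A row. -/
def row75 : CRow := [(75, [1], 2832), (75, [0], 901), (0, [], 0), (0, [], 0), (75, [4, 8, 11, 8, 6, 4, 6, 11, 8, 6, 4, 6, 10, 8, 6, 4, 6, 10, 10, 8, 11], 2281), (75, [4, 8, 11, 8, 6, 4, 6, 11, 8, 6, 4, 6, 10, 8, 6, 4, 6, 10, 10, 8, 11], 2280), (74, [6, 4, 8, 6, 4, 6, 10, 8, 6, 4, 13, 10, 8, 6, 10, 8, 10], 1958), (74, [6, 4, 8, 6, 4, 6, 10, 8, 6, 4, 13, 10, 8, 6, 10, 8, 10], 1959), (93, [8, 6, 4, 10, 10, 8, 6, 4, 6, 11, 8, 6, 4, 11, 8, 6, 4, 11, 8], 2124), (93, [9, 11, 11, 7, 9, 11, 5, 7, 9, 10, 5, 7, 9, 10, 5, 7, 9, 7, 5], 2833), (66, [], 2834), (41, [], 100), (68, [], 101), (45, [4, 6, 10, 8, 6, 4, 6, 4, 10, 10, 8, 6, 4, 11, 8], 2283), (93, [4, 10, 8, 6, 4, 6, 11, 11, 8, 6, 4, 6, 11, 8, 6, 4, 6, 10, 8, 10, 8], 2282), (93, [], 842)]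

/-- A row. -/
def row76 : CRow := [(76, [0], 879), (76, [1], 2835), (0, [], 0), (0, [], 0), (76, [4, 8, 11, 8, 6, 4, 6, 11, 8, 6, 4, 6, 10, 8, 6, 4, 6, 10, 10, 8, 11], 2046), (76, [10, 9, 11, 11, 7, 5, 7, 9, 11, 7, 5, 7, 9, 10, 7, 5, 7, 9, 10, 9, 5], 2836), (48, [4, 6, 4, 8], 220), (48, [5, 7, 9, 5], 2837), (40, [], 71), (40, [], 2838), (77, [], 72), (4, [], 2839), (77, [12], 245), (79, [], 73), (107, [8, 10, 8, 6, 4, 10, 8, 6, 4, 10, 8, 6, 4, 6, 11, 8, 6, 10, 8, 11], 2254), (107, [6, 4, 8, 11, 8, 6, 4, 11, 8, 6, 4, 10, 10, 8, 6, 4, 10, 8, 6, 11], 2009)]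

/-- A row. -/
def row77 : CRow := [(77, [0], 1025), (77, [1], 2840), (0, [], 0), (0, [], 0), (77, [4, 8, 11, 8, 6, 4, 6, 11, 8, 6, 4, 6, 10, 8, 6, 4, 6, 10, 10, 8, 11], 2101), (77, [10, 9, 11, 11, 7, 5, 7, 9, 11, 7, 5, 7, 9, 10, 7, 5, 7, 9, 10, 9, 5], 2841), (53, [4, 6, 4, 8], 288), (53, [5, 7, 9, 5], 2842), (89, [4, 8, 6, 4, 10, 8, 6, 4, 10, 8, 6, 4, 10, 10, 8, 6, 12, 10, 8], 2044), (89, [4, 8, 6, 4, 10, 8, 6, 4, 10, 8, 6, 4, 10, 10, 8, 6, 12, 10, 8], 2045), (78, [12], 2843), (76, [], 2844), (79, [13], 301), (76, [13], 2845), (109, [0, 11, 8, 6, 4, 6, 10, 8, 6, 4, 10, 8, 6, 4, 13, 10, 8, 6, 4, 11], 2089), (109, [4, 10, 8, 6, 4, 11, 8, 6, 4, 6, 11, 8, 6, 4, 13, 11, 8, 6], 2352)]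

/-- A row. -/
def row78 : CRow := [(78, [1], 2846), (78, [0], 1032), (0, [], 0), (0, [], 0), (78, [10, 9, 11, 11, 7, 5, 7, 9, 11, 7, 5, 7, 9, 10, 7, 5, 7, 9, 10, 9, 5], 2847), (78, [4, 8, 11, 8, 6, 4, 6, 11, 8, 6, 4, 6, 10, 8, 6, 4, 6, 10, 10, 8, 11], 2113), (52, [5, 7, 9, 5], 2848), (52, [4, 6, 4, 8], 283), (91, [4, 8, 6, 4, 10, 8, 6, 4, 10, 8, 6, 4, 10, 10, 8, 6, 12, 10, 8], 2139), (91, [4, 8, 6, 4, 10, 8, 6, 4, 10, 8, 6, 4, 10, 10, 8, 6, 12, 10, 8], 2103), (79, [], 247), (77, [13], 302), (54, [], 2849), (59, [12], 2850), (87, [4, 10, 8, 6, 4, 6, 11, 11, 8, 6, 4, 6, 11, 8, 6, 4, 6, 10, 8, 10, 8], 2361), (87, [], 2851)]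

/-- A row. -/
def row79 : CRow := [(79, [1], 2852), (79, [0], 1026), (0, [], 0), (0, [], 0), (79, [4, 8, 11, 8, 6, 4, 6, 11, 8, 6, 4, 6, 10, 8, 6, 4, 6, 10, 10, 8, 11], 2116), (79, [10, 9, 11, 11, 7, 5, 7, 9, 11, 7, 5, 7, 9, 10, 7, 5, 7, 9, 10, 9, 5], 2853), (51, [5, 7, 9, 5], 2854), (51, [4, 6, 4, 8], 292), (44, [6, 8, 6, 4, 13, 10, 8, 6, 4, 10, 8, 6, 4, 10, 8, 6, 11, 8, 10], 2353), (44, [6, 8, 6, 4, 13, 10, 8, 6, 4, 10, 8, 6, 4, 10, 8, 6, 11, 8, 10], 2354), (59, [13], 304), (78, [], 2855), (76, [], 2856), (77, [12], 2857), (119, [6, 8, 6, 4, 6, 10, 8, 6, 4, 6, 10, 8, 6, 4, 6, 13, 11, 8, 6, 4], 2086), (119, [9, 11, 5, 7, 9, 11, 13, 5, 7, 9, 11, 5, 7, 9, 11, 11, 5, 7, 9], 2858)]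

/-- A row. -/
def row80 : CRow := [(80, [0], 2167), (80, [0], 2168), (0, [], 0), (0, [], 0), (80, [4, 8, 11, 8, 6, 4, 6, 11, 8, 6, 4, 6, 10, 8, 6, 4, 6, 10, 10, 8, 11], 2169), (80, [4, 8, 11, 8, 6, 4, 6, 11, 8, 6, 4, 6, 10, 8, 6, 4, 6, 10, 10, 8, 11], 2170), (32, [8], 185), (32, [9], 2859), (103, [], 25), (103, [], 2860), (112, [], 26), (17, [], 2861), (112, [13], 186), (115, [], 27), (58, [], 28), (58, [4, 10, 8, 6, 4, 6, 11, 11, 8, 6, 4, 6, 11, 8, 6, 4, 6, 10, 8, 10, 8], 2171)]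

/-- A row. -/
def row81 : CRow := [(81, [0], 887), (81, [1], 2862), (0, [], 0), (0, [], 0), (81, [4, 8, 11, 8, 6, 4, 6, 11, 8, 6, 4, 6, 10, 8, 6, 4, 6, 10, 10, 8, 11], 2268), (81, [4, 8, 11, 8, 6, 4, 6, 11, 8, 6, 4, 6, 10, 8, 6, 4, 6, 10, 10, 8, 11], 2269), (88, [], 88), (88, [], 2863), (66, [], 198), (66, [], 2864), (71, [], 89), (91, [], 90), (72, [], 254), (97, [], 2865), (49, [4, 10, 8, 6, 4, 6, 11, 11, 8, 6, 4, 6, 11, 8, 6, 4, 6, 10, 8, 10, 8], 2267), (49, [], 2866)]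

/-- A row. -/
def row82 : CRow := [(82, [0], 881), (82, [1], 2867), (0, [], 0), (0, [], 0), (82, [4, 8, 11, 8, 6, 4, 6, 11, 8, 6, 4, 6, 10, 8, 6, 4, 6, 10, 10, 8, 11], 2049), (82, [10, 9, 11, 11, 7, 5, 7, 9, 11, 7, 5, 7, 9, 10, 7, 5, 7, 9, 10, 9, 5], 2868), (114, [8, 10, 8, 11], 248), (114, [10, 9, 11, 9], 2869), (42, [], 77), (42, [], 2870), (106, [], 78), (49, [], 2871), (99, [], 79), (38, [], 80), (83, [], 81), (83, [9, 11, 9, 11, 7, 5, 7, 9, 10, 7, 5, 7, 9, 10, 10, 7, 5, 7, 9, 11, 5], 2872)]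

/-- A row. -/
def row83 : CRow := [(83, [0], 1050), (83, [1], 2873), (0, [], 0), (0, [], 0), (83, [4, 8, 11, 8, 6, 4, 6, 11, 8, 6, 4, 6, 10, 8, 6, 4, 6, 10, 10, 8, 11], 2048), (83, [10, 9, 11, 11, 7, 5, 7, 9, 11, 7, 5, 7, 9, 10, 7, 5, 7, 9, 10, 9, 5], 2874), (64, [12, 11, 8, 6, 4, 10, 8, 6, 4, 11, 8, 6, 4, 6, 10, 8, 6, 13, 10], 2042), (64, [13, 10, 9, 11, 7, 9, 10, 5, 7, 9, 10, 5, 7, 9, 11, 12, 9, 5, 7], 2875), (41, [4, 6, 8, 6, 4, 11, 8, 6, 4, 11, 8, 6, 4, 10, 8, 6, 10, 10, 8], 2107), (41, [4, 6, 8, 6, 4, 11, 8, 6, 4, 11, 8, 6, 4, 10, 8, 6, 10, 10, 8], 2102), (92, [4, 6, 8, 6, 4, 11, 8, 6, 4, 11, 8, 6, 4, 10, 8, 6, 10, 10, 8], 1945), (72, [8, 6, 4, 10, 8, 6, 4, 11, 13, 11, 8, 6, 4, 10, 8, 6, 4, 10, 8], 1944), (98, [], 314), (62, [4, 6, 8, 6, 4, 11, 8, 6, 4, 11, 8, 6, 4, 10, 8, 6, 13, 10, 8], 2142), (82, [4, 10, 8, 6,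 4, 6, 11, 11, 8, 6, 4, 6, 11, 8, 6, 4, 6, 10, 8, 10, 8], 2047), (82, [], 2876)]

/-- A row. -/
def row84 : CRow := [(84, [0], 1019), (84, [1], 2877), (0, [], 0), (0, [], 0), (84, [4, 8, 11, 8, 6, 4, 6, 11, 8, 6, 4, 6, 10, 8, 6, 4, 6, 10, 10, 8, 11], 2349), (84, [4, 8, 11, 8, 6, 4, 6, 11, 8, 6, 4, 6, 10, 8, 6, 4, 6, 10, 10, 8, 11], 2348), (106, [6, 8, 10, 8, 6, 4, 11, 8, 6, 4, 13, 10, 8, 6, 4, 10, 8, 6, 4, 11], 1788), (106, [6, 8, 10, 8, 6, 4, 11, 8, 6, 4, 13, 10, 8, 6, 4, 10, 8, 6, 4, 11], 1786), (118, [6, 8, 6, 4, 10, 8, 6, 11, 8, 6, 4, 6, 4, 10, 8, 6, 4, 10, 8, 12], 1783), (118, [6, 8, 6, 4, 10, 8, 6, 11, 8, 6, 4, 6, 4, 10, 8, 6, 4, 10, 8, 12], 1782), (114, [6, 8, 6, 4, 6, 10, 8, 6, 4, 6, 10, 8, 6, 4, 6, 13, 11, 8, 6, 4], 2346), (85, [], 2878), (100, [6, 8, 6, 4, 10, 8, 6, 11, 8, 6, 4, 6, 4, 10, 8, 6, 4, 10, 8, 12],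 1787), (105, [6, 8, 6, 4, 6, 10, 8, 6, 4, 6, 10, 8, 6, 4, 6, 13, 11, 8, 6, 4], 2350), (35, [8, 6, 4, 10, 10, 8, 6, 4, 10, 8, 6, 4, 12, 10, 8, 6, 4, 10, 8], 2345), (35, [4, 6, 8, 6, 4, 6, 10, 8, 6, 4, 6, 12, 11, 8, 6, 4, 6, 11, 8, 6], 2347)]

/-- A row. -/
def row85 : CRow := [(85, [0], 874), (85, [1], 2879), (0, [], 0), (0, [], 0), (85, [4, 8, 11, 8, 6, 4, 6, 11, 8, 6, 4, 6, 10, 8, 6, 4, 6, 10, 10, 8, 11], 2248), (85, [4, 8, 11, 8, 6, 4, 6, 11, 8, 6, 4, 6, 10, 8, 6, 4, 6, 10, 10, 8, 11], 2249), (107, [], 69), (107, [], 2880), (37, [6, 8, 6, 4, 6, 10, 8, 6, 4, 6, 10, 8, 6, 4, 6, 13, 11, 8, 6, 4], 2253), (37, [6, 8, 6, 4, 6, 10, 8, 6, 4, 6, 10, 8, 6, 4, 6, 13, 11, 8, 6, 4], 2251), (84, [], 70), (107, [8, 10, 8, 6, 4, 10, 8, 6, 4, 10, 8, 6, 4, 6, 11, 8, 6, 10, 8, 11], 2247), (101, [6, 8, 6, 4, 10, 8, 6, 11, 8, 6, 4, 6, 4,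 10, 8, 6, 4, 10, 8], 2252), (33, [6, 8, 6, 4, 10, 8, 6, 11, 8, 6, 4, 6, 4, 10, 8, 6, 4, 10, 8], 2250), (32, [4, 10, 8, 6, 4, 6, 11, 11, 8, 6, 4, 6, 11, 8, 6, 4, 6, 10, 8, 10, 8], 2246), (32, [], 2881)]

/-- A row. -/
def row86 : CRow := [(86, [0], 1146), (86, [1], 2882), (0, [], 0), (0, [], 0), (86, [4, 8, 11, 8, 6, 4, 6, 11, 8, 6, 4, 6, 10, 8, 6, 4, 6, 10, 10, 8, 11], 1921), (86, [4, 8, 11, 8, 6, 4, 6, 11, 8, 6, 4, 6, 10, 8, 6, 4, 6, 10, 10, 8, 11], 1922), (46, [6, 8, 11, 8, 6, 4, 6, 10, 8, 6, 4, 6, 10, 8, 6, 4, 6, 13], 1918), (46, [6, 8, 11, 8, 6, 4, 6, 10, 8, 6, 4, 6, 10, 8, 6, 4, 6, 13], 1915), (59, [12], 306), (59, [12], 2883), (73, [6, 8, 11, 8, 6, 4, 6, 10, 8, 6, 4, 6, 10, 8, 6, 4, 6, 13], 1913), (98, [4, 8, 6, 4, 13, 10, 8, 6, 4, 6, 11, 8, 6, 4, 11, 8, 6, 10, 8, 6], 2491), (91, [4, 8, 6, 4, 10, 8, 6, 4, 10, 8,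 6, 4, 10, 10, 8, 6, 12, 10, 8], 2492), (55, [], 2884), (73, [6, 11, 8, 6, 4, 6, 12, 11, 8, 6, 4, 6, 10, 8, 6, 4, 6, 11], 1919), (73, [6, 4, 8, 6, 4, 6, 11, 8, 6, 4, 6, 10, 8, 6, 4, 6, 10, 8, 10, 12], 1920)]

/-- A row. -/
def row87 : CRow := [(87, [0], 1131), (87, [1], 2885), (0, [], 0), (0, [], 0), (87, [4, 8, 11, 8, 6, 4, 6, 11, 8, 6, 4, 6, 10, 8, 6, 4, 6, 10, 10, 8, 11], 2479), (87, [4, 8, 11, 8, 6, 4, 6, 11, 8, 6, 4, 6, 10, 8, 6, 4, 6, 10, 10, 8, 11], 2478), (40, [11, 8, 6, 4, 11, 8, 6, 4, 6, 11, 8, 6, 4, 10, 8, 6, 10, 8, 12], 2477), (40, [11, 8, 6, 4, 11, 8, 6, 4, 6, 11, 8, 6, 4, 10, 8, 6, 10, 8, 12], 2480), (92, [8, 6, 4, 10, 10, 8, 6, 4, 10, 8, 6, 4, 12, 10, 8, 6, 4, 10, 8], 2483), (92, [8, 6, 4, 10, 10, 8, 6, 4, 10, 8, 6, 4, 12, 10, 8, 6, 4, 10, 8], 2482), (98, [8, 6, 4, 10, 10, 8, 6, 4, 6, 11, 8, 6, 4, 11, 8,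 6, 4, 11, 8], 2481), (97, [4, 8, 6, 4, 10, 8, 6, 4, 10, 8, 6, 4, 13, 10, 8, 6, 10, 10, 8], 2476), (60, [], 339), (57, [], 2886), (78, [], 1038), (78, [4, 10, 8, 6, 4, 6, 11, 11, 8, 6, 4, 6, 11, 8, 6, 4, 6, 10, 8, 10, 8], 1510)]

/-- A row. -/
def row88 : CRow := [(88, [0], 2123), (88, [1], 2887), (0, [], 0), (0, [], 0), (88, [7, 9, 10, 7, 5, 7, 9, 11, 7, 5, 7, 9, 10, 7, 5, 7, 9, 11, 5, 7], 2888), (88, [6, 4, 10, 8, 6, 4, 6, 11, 8, 6, 4, 6, 10, 8, 6, 4, 6, 11, 8, 6], 2040), (81, [], 324), (81, [], 2889), (98, [6, 11, 8, 6, 4, 10, 8, 6, 4, 6, 11, 8, 6, 4, 10, 8, 6, 12], 2388), (98, [6, 11, 8, 6, 4, 10, 8, 6, 4, 6, 11, 8, 6, 4, 10, 8, 6, 12], 2389), (69, [10, 7, 9, 10, 5, 7, 9, 10, 7, 5, 7, 9, 10, 10, 5], 2890), (90, [6, 4, 8, 6, 4, 6, 11, 8, 6, 4, 6, 10, 8, 6, 4, 6, 10, 8, 10, 12], 1908), (63, [6, 4, 8, 6, 4, 6, 11, 8, 6,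 4, 6, 10, 8, 6, 4, 6, 10, 8, 10], 2387), (41, [6, 4, 8, 6, 4, 6, 11, 8, 6, 4, 6, 10, 8, 6, 4, 6, 10, 8, 10, 12], 2386), (21, [8, 11, 8, 6, 4, 6, 4, 11, 8, 6, 4, 6, 10, 8, 6, 4, 6, 10, 10, 8], 1365), (21, [11, 11, 8, 6, 4, 6, 10, 8, 6, 4, 6, 10, 8, 6, 4, 6, 10, 10, 8, 11], 2385)]

/-- A row. -/
def row89 : CRow := [(89, [0], 1081), (89, [1], 2891), (0, [], 0), (0, [], 0), (89, [4, 8, 11, 8, 6, 4, 6, 11, 8, 6, 4, 6, 10, 8, 6, 4, 6, 10, 10, 8, 11], 2407), (89, [4, 8, 11, 8, 6, 4, 6, 11, 8, 6, 4, 6, 10, 8, 6, 4, 6, 10, 10, 8, 11], 2406), (60, [4, 6, 10, 8, 6, 4, 6, 4, 10, 10, 8, 6, 4, 11, 8], 2111), (60, [4, 6, 10, 8, 6, 4, 6, 4, 10, 10, 8, 6, 4, 11, 8], 2115), (77, [9, 11, 13, 7, 9, 11, 11, 5, 7, 9, 11, 5, 7, 9, 11, 5, 7, 9, 5], 2892), (77, [9, 11, 13, 7, 9, 11, 11, 5, 7, 9, 11, 5, 7, 9, 11, 5, 7, 9, 5], 2893), (90, [], 2894),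 (70, [], 2895), (44, [4, 6, 10, 8, 6, 4, 6, 4, 10, 10, 8, 6, 4, 11, 8], 2405), (40, [9, 11, 12, 7, 9, 11, 5, 7, 9, 10, 5, 7, 9, 10, 5, 7, 9, 7, 5], 2896), (102, [7, 9, 11, 7, 9, 10, 5, 7, 9, 10, 12, 5, 7, 9, 11, 5, 7, 9, 10, 5, 1], 2897), (102, [4, 8, 6, 4, 10, 8, 6, 4, 10, 8, 6, 4, 13, 10, 8, 6, 10, 8, 10, 13], 2120)]

/-- A row. -/
def row90 : CRow := [(90, [0], 1090), (90, [1], 2898), (0, [], 0), (0, [], 0), (90, [4, 8, 11, 8, 6, 4, 6, 11, 8, 6, 4, 6, 10, 8, 6, 4, 6, 10, 10, 8, 11], 2437), (90, [4, 8, 11, 8, 6, 4, 6, 11, 8, 6, 4, 6, 10, 8, 6, 4, 6, 10, 10, 8, 11], 2436), (71, [4, 11, 8, 6, 4, 12, 11, 8, 6, 4, 10, 8, 6, 4, 11, 8, 6, 10, 8, 12], 2433), (71, [4, 11, 8, 6, 4, 12, 11, 8, 6, 4, 10, 8, 6, 4, 11, 8, 6, 10, 8, 12], 2435), (51, [8, 6, 4, 6, 11, 8, 6, 4, 6, 10, 8, 6, 4, 10, 8, 6, 11, 8, 6, 4], 2439), (51, [8,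 6, 4, 6, 11, 8, 6, 4, 6, 10, 8, 6, 4, 10, 8, 6, 11, 8, 6, 4], 2438), (88, [13, 11, 9, 11, 7, 5, 7, 9, 11, 7, 5, 7, 9, 10, 7, 5, 7, 9, 5, 7], 2899), (89, [], 267), (65, [8, 6, 4, 6, 11, 8, 6, 4, 6, 10, 8, 6, 4, 10, 8, 6, 11, 8, 6, 4], 2434), (47, [], 2900), (51, [], 971), (51, [4, 10, 8, 6, 4, 6, 11, 11, 8, 6, 4, 6, 11, 8, 6, 4, 6, 10, 8, 10, 8], 1377)]

/-- A row. -/
def row91 : CRow := [(91, [1], 2901), (91, [0], 1067), (0, [], 0), (0, [], 0), (91, [4, 8, 11, 8, 6, 4, 6, 11, 8, 6, 4, 6, 10, 8, 6, 4, 6, 10, 10, 8, 11], 2392), (91, [4, 8, 11, 8, 6, 4, 6, 11, 8, 6, 4, 6, 10, 8, 6, 4, 6, 10, 10, 8, 11], 2391), (69, [6, 4, 8, 11, 8, 6, 4, 11, 8, 6, 4, 10, 8, 10, 10], 2394), (69, [6, 4, 8, 11, 8, 6, 4, 11, 8, 6, 4, 10, 8, 10, 10], 2395), (78, [9, 11, 13, 7, 9, 11, 11, 5, 7, 9, 11, 5, 7, 9, 11, 5, 7, 9, 5], 2902), (78, [9, 11,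 13, 7, 9, 11, 11, 5, 7, 9, 11, 5, 7, 9, 11, 5, 7, 9, 5], 2903), (81, [], 2904), (116, [8, 6, 4, 10, 10, 8, 6, 4, 6, 11, 8, 6, 4, 11, 8, 6, 4, 11, 8], 2088), (55, [8, 6, 4, 10, 8, 6, 4, 11, 13, 11, 8, 6, 4, 10, 8, 6, 4, 10, 8], 2141), (86, [8, 6, 4, 10, 8, 6, 4, 11, 13, 11, 8, 6, 4, 10, 8, 6, 4, 10, 8], 1973), (92, [8, 6, 4, 10, 10, 8, 6, 4, 6, 11, 8, 6, 4, 11, 8, 6, 4, 11, 8], 2393), (92, [4, 6, 8, 6, 4, 11, 8, 6, 4, 11, 8, 6, 4, 10, 8, 6, 10, 10, 8], 1976)]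

/-- A row. -/
def row92 : CRow := [(92, [1], 2905), (92, [0], 992), (0, [], 0), (0, [], 0), (92, [4, 8, 11, 8, 6, 4, 6, 11, 8, 6, 4, 6, 10, 8, 6, 4, 6, 10, 10, 8, 11], 2334), (92, [4, 8, 11, 8, 6, 4, 6, 11, 8, 6, 4, 6, 10, 8, 6, 4, 6, 10, 10, 8, 11], 2333), (65, [11, 8, 6, 4, 11, 8, 6, 4, 6, 11, 8, 6, 4, 10, 8, 6, 10, 8], 2339), (65, [11, 8, 6, 4, 11, 8, 6, 4, 6, 11, 8, 6, 4, 10, 8, 6, 10, 8], 2338), (87, [4, 8, 6, 4, 10, 8, 6, 4, 10, 8, 6, 4, 13, 10, 8, 6, 10, 10, 8], 1909), (87, [4, 8, 6, 4, 10, 8, 6, 4, 10, 8, 6, 4, 13, 10, 8, 6, 10, 10, 8], 1912), (58, [], 2906), (83, [8, 6, 4, 10, 10, 8, 6, 4, 6, 11, 8, 6, 4, 11, 8, 6, 4, 11, 8], 2341), (73, [4, 6, 10, 10, 8, 6, 4, 6, 4, 10, 8, 6, 4, 6, 10], 2335), (71, [4, 8, 6, 4, 10, 8, 6, 4, 10, 8, 6, 4, 13, 10, 8, 6, 10, 10, 8], 2340), (91, [8, 6, 4, 10, 10, 8, 6, 4, 6, 11,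 8, 6, 4, 11, 8, 6, 4, 11, 8], 2336), (91, [4, 6, 8, 6, 4, 11, 8, 6, 4, 11, 8, 6, 4, 10, 8, 6, 10, 10, 8], 2337)]

/-- A row. -/
def row93 : CRow := [(93, [0], 1078), (93, [1], 2907), (0, [], 0), (0, [], 0), (93, [4, 8, 11, 8, 6, 4, 6, 11, 8, 6, 4, 6, 10, 8, 6, 4, 6, 10, 10, 8, 11], 1567), (93, [10, 9, 11, 11, 7, 5, 7, 9, 11, 7, 5, 7, 9, 10, 7, 5, 7, 9, 10, 9, 5], 2908), (55, [6, 4, 6, 8, 6, 4, 6, 11, 11, 8, 6, 4, 6, 10, 8, 6, 10, 13], 2134), (55, [13, 7, 5, 7, 9, 11, 7, 5, 7, 9, 11, 7, 5, 7, 9, 10, 9, 7], 2909), (75, [4, 6, 8, 6, 4, 11, 8, 6, 4, 11, 8, 6, 4, 10, 8, 6, 10, 10, 8], 2126), (75, [9, 10, 5, 7, 9, 10, 5, 7, 9, 10, 7, 5, 7, 9, 11, 11, 5, 7, 9], 2910), (44, [4, 6, 8, 11, 8, 6, 4, 6, 4, 11, 8, 6, 4, 12, 11, 8], 2396), (94, [], 2911), (46, [12], 266), (69, [6, 11, 8, 6, 4, 6, 11, 8, 6, 10, 8, 6], 2397), (75, [],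 2912), (75, [4, 10, 8, 6, 4, 6, 11, 11, 8, 6, 4, 6, 11, 8, 6, 4, 6, 10, 8, 10, 8], 1524)]

/-- A row. -/
def row94 : CRow := [(94, [0], 891), (94, [1], 2913), (0, [], 0), (0, [], 0), (94, [4, 8, 11, 8, 6, 4, 6, 11, 8, 6, 4, 6, 10, 8, 6, 4, 6, 10, 10, 8, 11], 2058), (94, [10, 9, 11, 11, 7, 5, 7, 9, 11, 7, 5, 7, 9, 10, 7, 5, 7, 9, 10, 9, 5], 2914), (56, [6, 4, 6, 8, 6, 4, 6, 11, 11, 8, 6, 4, 6, 10, 8, 6, 10, 13], 2117), (56, [13, 7, 5, 7, 9, 11, 7, 5, 7, 9, 11, 7, 5, 7, 9, 10, 9, 7], 2915), (97, [12], 258), (97, [12], 2916), (93, [], 91), (63, [], 92), (66, [12], 200), (70, [12], 2917), (31, [4, 10, 8, 6, 4, 6, 11, 11, 8, 6, 4, 6, 11, 8, 6, 4, 6, 10, 8, 10, 8], 2270), (31, [], 2918)]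

/-- A row. -/
def row95 : CRow := [(95, [0], 1103), (95, [1], 2919), (0, [], 0), (0, [], 0), (95, [4, 8, 11, 8, 6, 4, 6, 11, 8, 6, 4, 6, 10, 8, 6, 4, 6, 10, 10, 8, 11], 1757), (95, [4, 8, 11, 8, 6, 4, 6, 11, 8, 6, 4, 6, 10, 8, 6, 4, 6, 10, 10, 8, 11], 1758), (15, [8, 11, 8, 10], 328), (15, [11, 9, 10, 9], 2920), (19, [4, 6, 8, 6, 4, 12, 11, 8, 6, 4, 11, 8, 6, 4, 10, 8, 6, 10, 10, 8], 2451), (19, [4, 6, 8, 6, 4, 12, 11, 8, 6, 4, 11, 8, 6, 4, 10, 8, 6, 10, 10, 8], 2452), (110, [13], 231), (16, [], 2921), (22, [4, 8, 6, 4, 13, 10, 8, 6, 4, 6, 11, 8, 6, 4, 11, 8, 6, 10, 8, 6], 2453), (25, [4, 8, 6, 4, 13, 10, 8, 6, 4, 6, 11, 8, 6, 4, 11, 8, 6, 10, 8, 6], 1756), (16, [8, 6, 4, 10, 8, 6, 4, 11, 13, 11, 8, 6, 4, 10, 8, 6, 4, 10, 8], 1753), (16, [4, 8, 6, 4, 13, 10, 8, 6, 4, 6, 11, 8, 6, 4, 11, 8, 6, 10, 8, 6], 2450)]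

/-- A row. -/
def row96 : CRow := [(96, [0], 883), (96, [1], 2922), (0, [], 0), (0, [], 0), (96, [4, 8, 11, 8, 6, 4, 6, 11, 8, 6, 4, 6, 10, 8, 6, 4, 6, 10, 10, 8, 11], 2262), (96, [4, 8, 11, 8, 6, 4, 6, 11, 8, 6, 4, 6, 10, 8, 6, 4, 6, 10, 10, 8, 11], 2263), (96, [8, 10, 8, 11], 226), (96, [10, 9, 11, 9], 2923), (31, [13], 194), (31, [13], 2924), (101, [12], 2925), (119, [], 84), (36, [], 250), (49, [], 2926), (97, [], 85), (97, [4, 10, 8, 6, 4, 6, 11, 11, 8, 6, 4, 6, 11, 8, 6, 4, 6, 10, 8, 10, 8], 2261)]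

/-- A row. -/
def row97 : CRow := [(97, [0], 1061), (97, [1], 2927), (0, [], 0), (0, [], 0), (97, [4, 8, 11, 8, 6, 4, 6, 11, 8, 6, 4, 6, 10, 8, 6, 4, 6, 10, 10, 8, 11], 2373), (97, [4, 8, 11, 8, 6, 4, 6, 11, 8, 6, 4, 6, 10, 8, 6, 4, 6, 10, 10, 8, 11], 2372), (41, [6, 4, 8, 6, 4, 6, 11, 8, 6, 4, 6, 10, 8, 6, 4, 6, 10, 8, 10, 12], 2374), (41, [6, 4, 8, 6, 4, 6, 11, 8, 6, 4, 6, 10, 8, 6, 4, 6, 10, 8, 10, 12], 2371), (94, [13], 257), (94, [13], 2928), (87, [8, 6, 4, 10, 10, 8, 6, 4, 10, 8, 6, 4, 12, 10, 8, 6, 4, 10, 8], 1930), (74, [8, 6, 4, 6, 11, 8, 6, 4, 6, 10, 8, 6, 4, 10, 8, 6, 11, 8, 6, 4], 1929), (81, [], 253), (72, [], 2929), (96, [4, 10, 8, 6, 4, 6, 11, 11, 8, 6, 4, 6, 11, 8, 6, 4, 6, 10, 8, 10, 8], 2375), (96, [], 2930)]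

/-- A row. -/
def row98 : CRow := [(98, [0], 1150), (98, [1], 2931), (0, [], 0), (0, [], 0), (98, [4, 8, 11, 8, 6, 4, 6, 11, 8, 6, 4, 6, 10, 8, 6, 4, 6, 10, 10, 8, 11], 1938), (98, [4, 8, 11, 8, 6, 4, 6, 11, 8, 6, 4, 6, 10, 8, 6, 4, 6, 10, 10, 8, 11], 1937), (104, [6, 4, 8, 6, 13, 10, 8, 6, 4, 6, 4, 8, 10, 8, 6, 10, 8, 11], 1939), (104, [6, 4, 8, 6, 13, 10, 8, 6, 4, 6, 4, 8, 10, 8, 6, 10, 8, 11], 1935), (88, [6, 4, 8, 6, 13, 10, 8, 6, 4, 6, 4, 8, 10, 8, 6, 10, 8, 11], 1941), (88, [6, 4, 8, 6, 13, 10, 8, 6, 4, 6, 4, 8, 10, 8, 6, 10, 8, 11], 1940), (86, [6, 8, 6, 4, 10, 8, 6, 11, 8, 6, 4, 6, 4, 10, 8, 6, 4, 10, 8, 12], 1933), (87, [4, 6, 8, 6, 4, 11, 8, 6, 4, 11, 8, 6, 4, 10, 8, 6, 10, 10, 8], 1934), (62, [4, 6, 8, 6, 4, 11, 8, 6, 4, 11, 8, 6, 4, 10, 8, 6, 13, 10, 8], 2493), (83, [], 2932), (38, [4, 10, 8, 6, 4, 6, 11,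 11, 8, 6, 4, 6, 11, 8, 6, 4, 6, 10, 8, 10, 8], 2083), (38, [], 2933)]

/-- A row. -/
def row99 : CRow := [(99, [0], 1049), (99, [1], 2934), (0, [], 0), (0, [], 0), (99, [10, 9, 11, 11, 7, 5, 7, 9, 11, 7, 5, 7, 9, 10, 7, 5, 7, 9, 10, 9, 5], 2935), (99, [4, 8, 11, 8, 6, 4, 6, 11, 8, 6, 4, 6, 10, 8, 6, 4, 6, 10, 10, 8, 11], 2131), (108, [8, 10, 8, 11], 312), (108, [10, 9, 11, 9], 2936), (15, [], 2937), (15, [], 321), (100, [13], 320), (101, [12], 313), (38, [], 310), (82, [], 2938), (62, [4, 6, 8, 6, 4, 11, 8, 6, 4, 11, 8, 6, 4, 10, 8, 6, 13, 10, 8], 2132), (62, [8, 6, 4, 10, 10, 8, 6, 4, 6, 11, 8, 6, 4, 11, 8, 6, 4, 11, 8, 13], 2140)]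

/-- A row. -/
def row100 : CRow := [(100, [0], 1140), (100, [1], 2939), (0, [], 0), (0, [], 0), (100, [4, 8, 11, 8, 6, 4, 6, 11, 8, 6, 4, 6, 10, 8, 6, 4, 6, 10, 10, 8, 11], 1520), (100, [10, 9, 11, 11, 7, 5, 7, 9, 11, 7, 5, 7, 9, 10, 7, 5, 7, 9, 10, 9, 5], 2940), (118, [11, 9, 10, 13], 2941), (118, [11, 8, 10, 13], 355), (35, [], 351), (35, [], 2942), (118, [13], 352), (99, [12], 2943), (105, [12], 346), (84, [4, 8, 6, 4, 13, 10, 8, 6, 4, 6, 11, 8, 6, 4, 11, 8, 6, 10, 8, 6], 2488), (118, [8, 6, 4, 10, 10, 8, 6, 4, 6, 11, 8, 6, 4, 11, 8, 6, 4, 11, 8], 2106), (118, [9, 10, 5, 7, 9, 10, 5, 7, 9, 10, 7, 5, 7, 9, 11, 11, 5, 7, 9], 2944)]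

/-- A row. -/
def row101 : CRow := [(101, [1], 2945), (101, [0], 1006), (0, [], 0), (0, [], 0), (101, [10, 9, 11, 11, 7, 5, 7, 9, 11, 7, 5, 7, 9, 10, 7, 5, 7, 9, 10, 9, 5], 2946), (101, [4, 8, 11, 8, 6, 4, 6, 11, 8, 6, 4, 6, 10, 8, 6, 4, 6, 10, 10, 8, 11], 2033), (119, [8, 13, 10, 8, 11], 319), (119, [8, 13, 10, 8, 11], 342), (113, [], 2947), (113, [], 244), (99, [13], 2948), (96, [13], 255), (33, [], 2949), (85, [4, 8, 6, 4, 10, 8, 6, 4, 6, 11, 8, 6, 4, 11, 8, 6, 10, 8, 6], 2343), (113, [6, 8, 6, 4, 10, 8, 6, 11, 8, 6, 4, 6, 4, 10, 8, 6, 4, 10, 8], 1866), (113, [4, 8, 6, 4, 10, 8, 6, 4, 6, 11, 8, 6, 4, 11, 8, 6, 10, 8, 6], 1867)]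

/-- A row. -/
def row102 : CRow := [(102, [0], 976), (102, [1], 2950), (0, [], 0), (0, [], 0), (102, [11, 11, 9, 7, 5, 7, 9, 10, 9, 7, 5, 7, 9, 10, 7, 5, 7, 5], 2951), (102, [4, 6, 4, 6, 11, 8, 6, 4, 6, 8, 11, 8, 6, 4, 6, 8, 10, 10], 2050), (103, [], 293), (103, [], 2952), (109, [8], 298), (109, [9], 2953), (14, [0, 4, 11, 8, 6, 4, 10, 8, 6, 4, 13, 11, 8, 6, 4, 11, 8, 6, 10, 8, 6], 2084), (103, [10, 10, 9, 11, 11], 2954), (23, [8, 12, 11, 8, 10], 331), (43, [12, 11, 9, 10, 9], 2955), (89, [12, 11, 9, 11, 7, 9, 11, 12, 5, 7, 9, 11, 5, 7, 9, 11, 5, 7, 9, 5], 2956), (89, [0, 4, 11, 8, 6, 4, 10, 8, 6, 4, 13, 11, 8, 6, 4, 11, 8, 6, 10, 8, 6], 2121)]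

/-- A row. -/
def row103 : CRow := [(103, [0], 677), (103, [0], 2213), (0, [], 0), (0, [], 0), (103, [4, 8, 11, 8, 6, 4, 6, 11, 8, 6, 4, 6, 10, 8, 6, 4, 6, 10, 10, 8, 11], 2217), (103, [4, 8, 11, 8, 6, 4, 6, 11, 8, 6, 4, 6, 10, 8, 6, 4, 6, 10, 10, 8, 11], 2214), (102, [], 58), (102, [], 2957), (80, [], 229), (80, [], 2958), (102, [10, 10, 8, 11, 11], 333), (110, [], 59), (111, [], 60), (26, [4, 8, 6, 4, 13, 10, 8, 6, 4, 6, 11, 8, 6, 4, 11, 8, 6, 10, 8, 6], 2215), (52, [8, 6, 4, 10, 8, 6, 4, 11, 13, 11, 8, 6, 4, 10, 8, 6, 4, 10, 8], 2218), (52, [4, 8, 6, 4, 13, 10, 8, 6, 4, 6, 11, 8, 6, 4, 11, 8, 6, 10, 8, 6], 2216)]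

/-- A row. -/
def row104 : CRow := [(104, [1], 2959), (104, [0], 1257), (0, [], 0), (0, [], 0), (104, [8, 6, 4, 10, 8, 6, 4, 10, 8, 6, 4, 11, 8, 6, 4, 10, 8, 6, 11, 8, 10, 10], 1609), (104, [11, 11, 9, 10, 7, 9, 11, 5, 7, 9, 10, 5, 7, 9, 11, 5, 7, 9, 11, 5, 7, 9], 2960), (98, [6, 11, 8, 6, 4, 10, 8, 6, 4, 6, 11, 8, 6, 4, 10, 8, 6, 12], 2417), (98, [6, 11, 8, 6, 4, 10, 8, 6, 4, 6, 11, 8, 6, 4, 10, 8, 6, 12], 2418), (117, [], 325), (117, [], 2961), (40, [6, 4, 8, 6, 4, 6, 10, 8, 6, 4, 13, 10, 8, 6, 10, 8, 10], 2414), (46, [4, 8, 6, 4, 6, 8, 12, 11, 8, 6, 4, 6, 11, 8, 6, 4, 11], 1611), (67, [4, 8, 6, 4, 6, 8, 12, 11, 8, 6, 4, 6, 11, 8, 6, 4, 11], 1262), (64, [6, 4, 6, 8, 6, 4, 6, 12, 11, 8, 6, 4, 6, 8, 11, 8, 6, 11], 2416), (28, [4, 8, 6, 4, 13, 10, 8, 6, 4, 10, 8, 6, 4, 6, 11, 8, 6, 11, 8], 2415), (28, [6, 4, 8, 6, 4, 6,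 10, 8, 6, 4, 13, 10, 8, 6, 10, 8, 10], 2413)]

/-- A row. -/
def row105 : CRow := [(105, [1], 2962), (105, [0], 1062), (0, [], 0), (0, [], 0), (105, [10, 9, 11, 11, 7, 5, 7, 9, 11, 7, 5, 7, 9, 10, 7, 5, 7, 9, 10, 9, 5], 2963), (105, [4, 8, 11, 8, 6, 4, 6, 11, 8, 6, 4, 6, 10, 8, 6, 4, 6, 10, 10, 8, 11], 1519), (35, [8, 10, 8, 11, 12], 350), (35, [10, 9, 11, 12, 9], 2964), (106, [12], 356), (106, [12], 2965), (36, [], 2966), (109, [8, 10, 8, 11, 12], 344), (84, [4, 6, 8, 6, 4, 6, 10, 8, 6, 4, 6, 12, 11, 8, 6, 4, 6, 11, 8, 6], 2376), (100, [13], 2967), (106, [6, 8, 6, 4, 10, 8, 6, 11, 8, 6, 4, 6, 4, 10, 8, 6, 4, 10, 8, 12], 2377), (106, [4, 8, 6, 4, 10, 8, 6, 4, 10, 8, 6, 4, 10, 10, 8, 6, 12, 10, 8], 2378)]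

/-- A row. -/
def row106 : CRow := [(106, [0], 1046), (106, [1], 2968), (0, [], 0), (0, [], 0), (106, [10, 9, 11, 11, 7, 5, 7, 9, 11, 7, 5, 7, 9, 10, 7, 5, 7, 9, 10, 9, 5], 2969), (106, [4, 8, 11, 8, 6, 4, 6, 11, 8, 6, 4, 6, 10, 8, 6, 4, 6, 10, 10, 8, 11], 2114), (84, [4, 6, 4, 6, 10, 8, 6, 4, 11, 11, 8, 6, 4, 10, 8, 6, 10, 8, 11, 12], 2363), (84, [4, 6, 4, 6, 10, 8, 6, 4, 11, 11, 8, 6, 4, 10, 8, 6, 10, 8, 11, 12], 2364), (105, [13], 357), (105, [13], 2970), (107, [4, 6, 4, 6, 10, 8, 6, 4, 11, 11, 8, 6, 4, 10, 8, 6, 10, 8, 11, 12], 2362), (82, [], 2971), (118, [12], 353), (35, [12], 2972), (105, [8, 6, 4, 10, 8, 6, 4, 11, 13, 11, 8, 6, 4, 10, 8, 6, 4, 10, 8], 2030), (105, [4, 8, 6, 4, 13, 10, 8, 6, 4, 6, 11, 8, 6, 4, 11, 8, 6, 10, 8, 6], 1898)]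

/-- A row. -/
def row107 : CRow := [(107, [0], 1882), (107, [0], 1883), (0, [], 0), (0, [], 0), (107, [4, 6, 11, 8, 6, 4, 11, 8, 6, 4, 10, 8, 6, 4, 13, 10, 8, 6, 10, 8, 11, 12], 1886), (107, [4, 6, 11, 8, 6, 4, 11, 8, 6, 4, 10, 8, 6, 4, 13, 10, 8, 6, 10, 8, 11, 12], 1885), (85, [], 299), (85, [], 2973), (23, [0, 12, 11, 8, 6, 4, 11, 8, 6, 4, 11, 11, 8, 6, 4, 11, 8, 6, 4, 11, 11], 1879), (23, [0, 12, 11, 8, 6, 4, 11, 8, 6, 4, 11, 11, 8, 6, 4, 11, 8, 6, 4, 11, 11], 1878), (85, [8, 10, 8, 6, 4, 10, 8, 6, 4, 10, 8, 6, 4, 6, 11, 8, 6, 10, 8, 11], 1877), (106, [6, 8, 10, 8, 6, 4, 11, 8, 6, 4, 13, 10, 8, 6, 4, 10, 8, 6, 4, 11], 1876), (119, [6, 8, 10, 8, 6, 4, 11, 8, 6, 4, 13, 10, 8, 6, 4, 10, 8, 6, 4, 11], 1881), (109, [6, 8, 6, 4, 10, 8, 6, 11, 8, 6, 4, 6, 4, 10, 8, 6, 4, 10, 8], 1880), (76, [6, 4, 8, 6, 11, 11, 8, 6, 4, 6,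 4, 10, 8, 6, 4, 6, 11, 8, 6, 11], 2344), (76, [8, 10, 8, 6, 4, 10, 8, 6, 4, 10, 8, 6, 4, 6, 11, 8, 6, 10, 8, 11], 1884)]

/-- A row. -/
def row108 : CRow := [(108, [0], 1052), (108, [1], 2974), (0, [], 0), (0, [], 0), (108, [10, 9, 11, 11, 7, 5, 7, 9, 11, 7, 5, 7, 9, 10, 7, 5, 7, 9, 10, 9, 5], 2975), (108, [4, 8, 11, 8, 6, 4, 6, 11, 8, 6, 4, 6, 10, 8, 6, 4, 6, 10, 10, 8, 11], 2138), (99, [8, 10, 8, 11], 311), (99, [10, 9, 11, 9], 2976), (20, [12], 335), (20, [12], 2977), (119, [], 2978), (118, [12], 2979), (34, [12], 2980), (114, [], 2981), (61, [6, 8, 11, 8, 6, 4, 6, 10, 8, 6, 4, 6, 10, 8, 6, 4, 6, 13], 2365), (61, [6, 4, 8, 6, 4, 6, 8, 10, 8, 6, 4, 6, 10, 8, 6, 4, 6, 11, 8, 13], 2366)]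

/-- A row. -/
def row109 : CRow := [(109, [0], 1127), (109, [1], 2982), (0, [], 0), (0, [], 0), (109, [10, 9, 7, 5, 7, 9, 11, 9, 11, 9, 7, 5, 7, 9, 10, 7, 5, 7, 9, 5], 2983), (109, [4, 8, 6, 4, 6, 11, 8, 6, 4, 6, 8, 10, 8, 10, 8, 6, 4, 6, 8, 11], 2054), (33, [], 297), (33, [], 2984), (102, [8], 294), (102, [9], 2985), (105, [13, 10, 9, 11, 9], 2986), (38, [13, 10, 9, 11, 9], 2987), (107, [4, 8, 6, 4, 10, 8, 6, 4, 6, 11, 8, 6, 4, 11, 8, 6, 10, 8, 6], 2342), (119, [8, 13, 10, 8, 11], 341), (77, [6, 4, 8, 6, 11, 8, 6, 4, 6, 4, 12, 10, 8, 6, 4, 11, 8, 11], 2015), (77, [10, 5, 7, 9, 11, 12, 5, 7, 9, 11, 5, 7, 9, 11, 7, 5, 7, 9, 10, 1], 2988)]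

/-- A row. -/
def row110 : CRow := [(110, [1], 2989), (110, [0], 975), (0, [], 0), (0, [], 0), (110, [4, 8, 11, 8, 6, 4, 6, 11, 8, 6, 4, 6, 10, 8, 6, 4, 6, 10, 10, 8, 11], 2057), (110, [10, 9, 11, 11, 7, 5, 7, 9, 11, 7, 5, 7, 9, 10, 7, 5, 7, 9, 10, 9, 5], 2990), (14, [0, 4, 11, 8, 6, 4, 10, 8, 6, 4, 13, 11, 8, 6, 4, 11, 8, 6, 10, 8, 6], 2118), (14, [11, 9, 11, 13, 5, 7, 9, 10, 5, 7, 9, 10, 5, 7, 9, 11, 5, 7, 9, 7, 1], 2991), (114, [], 315), (114, [], 2992), (103, [], 2993), (95, [12], 2994), (20, [12], 327), (28, [12], 2995), (64, [], 2056), (64, [9, 11, 9, 11, 7, 5, 7, 9, 10, 7, 5, 7, 9, 10, 10, 7, 5, 7, 9, 11, 5], 2996)]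

/-- A row. -/
def row111 : CRow := [(111, [0], 978), (111, [1], 2997), (0, [], 0), (0, [], 0), (111, [4, 8, 11, 8, 6, 4, 6, 11, 8, 6, 4, 6, 10, 8, 6, 4, 6, 10, 10, 8, 11], 1698), (111, [4, 8, 11, 8, 6, 4, 6, 11, 8, 6, 4, 6, 10, 8, 6, 4, 6, 10, 10, 8, 11], 1697), (23, [12, 11, 9, 10, 9], 2998), (23, [12, 11, 9, 10, 9], 2999), (112, [13], 236), (112, [13], 3000), (24, [12], 3001), (21, [0, 4, 11, 11, 8, 6, 4, 11, 8, 6, 4, 11, 8, 6, 4, 11, 8, 6, 10, 8, 6], 2323), (26, [4, 8, 6, 4, 13, 10, 8, 6, 4, 6, 11, 8, 6, 4, 11, 8, 6, 10, 8, 6], 2322), (103, [], 3002), (50, [8, 6, 4, 6, 11, 8, 6, 4, 6, 10, 8, 6, 4, 10, 8, 6, 11, 8, 6, 4], 1696), (50, [4, 6, 8, 6, 4, 11, 8, 6, 10, 8, 6, 4, 6, 11, 8, 6, 4, 6, 10, 8], 1702)]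

/-- A row. -/
def row112 : CRow := [(112, [0], 860), (112, [1], 3003), (0, [], 0), (0, [], 0), (112, [10, 9, 11, 11, 7, 5, 7, 9, 11, 7, 5, 7, 9, 10, 7, 5, 7, 9, 10, 9, 5], 3004), (112, [4, 8, 11, 8, 6, 4, 6, 11, 8, 6, 4, 6, 10, 8, 6, 4, 6, 10, 10, 8, 11], 2053), (37, [8], 230), (37, [9], 3005), (111, [12], 237), (111, [12], 3006), (113, [13], 3007), (80, [], 3008), (115, [12], 232), (80, [12], 3009), (116, [], 61), (116, [4, 10, 8, 6, 4, 6, 11, 11, 8, 6, 4, 6, 11, 8, 6, 4, 6, 10, 8, 10, 8], 2085)]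

/-- A row. -/
def row113 : CRow := [(113, [1], 3010), (113, [0], 730), (0, [], 0), (0, [], 0), (113, [4, 8, 11, 8, 6, 4, 6, 11, 8, 6, 4, 6, 10, 8, 6, 4, 6, 10, 10, 8, 11], 2244), (113, [4, 8, 11, 8, 6, 4, 6, 11, 8, 6, 4, 6, 10, 8, 6, 4, 6, 10, 10, 8, 11], 2242), (115, [9], 3011), (115, [8], 235), (101, [], 3012), (101, [], 243), (115, [], 188), (112, [12], 238), (32, [], 3013), (37, [13], 3014), (101, [6, 8, 6, 4, 10, 8, 6, 11, 8, 6, 4, 6, 4, 10, 8, 6, 4, 10, 8], 2245), (101, [4, 8, 6, 4, 10, 8, 6, 4, 6, 11, 8, 6, 4, 11, 8, 6, 10, 8, 6], 2243)]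

/-- A row. -/
def row114 : CRow := [(114, [1], 3015), (114, [0], 785), (0, [], 0), (0, [], 0), (114, [4, 8, 11, 8, 6, 4, 6, 11, 8, 6, 4, 6, 10, 8, 6, 4, 6, 10, 10, 8, 11], 2260), (114, [4, 8, 11, 8, 6, 4, 6, 11, 8, 6, 4, 6, 10, 8, 6, 4, 6, 10, 10, 8, 11], 2259), (82, [8, 10, 8, 11], 308), (82, [10, 9, 11, 9], 3016), (110, [], 249), (110, [], 3017), (49, [], 3018), (84, [4, 6, 8, 6, 4, 6, 10, 8, 6, 4, 6, 12, 11, 8, 6, 4, 6, 11, 8, 6], 2258), (108, [], 82), (34, [12], 316), (56, [], 83), (56, [4, 10, 8, 6, 4, 6, 11, 11, 8, 6, 4, 6, 11, 8, 6, 4, 6, 10, 8, 10, 8], 1388)]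

/-- A row. -/
def row115 : CRow := [(115, [1], 3019), (115, [0], 685), (0, [], 0), (0, [], 0), (115, [4, 8, 11, 8, 6, 4, 6, 11, 8, 6, 4, 6, 10, 8, 6, 4, 6, 10, 10, 8, 11], 2224), (115, [4, 8, 11, 8, 6, 4, 6, 11, 8, 6, 4, 6, 10, 8, 6, 4, 6, 10, 10, 8, 11], 2220), (113, [9], 3020), (113, [8], 233), (26, [4, 8, 6, 4, 13, 10, 8, 6, 4, 6, 11, 8, 6, 4, 11, 8, 6, 10, 8, 6], 2219), (26, [4, 8, 6, 4, 13, 10, 8, 6, 4, 6, 11, 8, 6, 4, 11, 8, 6, 10, 8, 6], 2221), (37, [12], 241), (113, [], 3021), (80, [], 3022), (112, [13], 3023), (74, [8, 6, 4, 10, 8, 6, 4, 11, 13, 11, 8, 6, 4, 10, 8, 6, 4, 10, 8], 2223), (74, [4, 8, 6, 4, 13, 10, 8, 6, 4, 6, 11, 8, 6, 4, 11, 8, 6, 10, 8, 6], 2222)]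

/-- A row. -/
def row116 : CRow := [(116, [0], 984), (116, [1], 3024), (0, [], 0), (0, [], 0), (116, [10, 9, 11, 11, 7, 5, 7, 9, 11, 7, 5, 7, 9, 10, 7, 5, 7, 9, 10, 9, 5], 3025), (116, [4, 8, 11, 8, 6, 4, 6, 11, 8, 6, 4, 6, 10, 8, 6, 4, 6, 10, 10, 8, 11], 2112), (68, [4, 6, 10, 8, 6, 4, 6, 4, 12, 10, 8, 6, 4, 6, 10], 2325), (68, [4, 6, 10, 8, 6, 4, 6, 4, 12, 10, 8, 6, 4, 6, 10], 2326), (50, [6, 8, 6, 4, 10, 8, 6, 11, 8, 6, 4, 6, 4, 10, 8, 6, 4, 10, 8, 12], 1948), (50, [7, 9, 11, 7, 9, 10, 5, 7, 9, 10, 7, 5, 7, 9, 11, 12, 5, 7, 9, 5], 3026), (91, [9, 10, 5, 7, 9, 10, 5, 7, 9, 10, 7, 5, 7, 9, 11, 11, 5, 7, 9], 3027), (62, [], 110), (58, [12], 239), (74, [6, 8, 6, 4, 10, 8, 6, 11, 8, 6, 4, 6, 4, 10, 8, 6, 4, 10, 8], 2324), (112, [9, 11, 9, 11, 7, 5, 7, 9, 10, 7, 5, 7, 9, 10, 10, 7, 5, 7, 9, 11, 5], 3028), (112, [], 3029)]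

/-- A row. -/
def row117 : CRow := [(117, [1], 3030), (117, [0], 1516), (0, [], 0), (0, [], 0), (117, [11, 11, 9, 10, 7, 9, 11, 5, 7, 9, 10, 5, 7, 9, 11, 5, 7, 9, 11, 5, 7, 9], 3031), (117, [8, 6, 4, 10, 8, 6, 4, 10, 8, 6, 4, 11, 8, 6, 4, 10, 8, 6, 11, 8, 10, 10], 1517), (66, [], 262), (66, [], 3032), (104, [], 96), (104, [], 3033), (74, [6, 4, 8, 6, 4, 6, 10, 8, 6, 4, 13, 10, 8, 6, 10, 8, 10], 1618), (73, [], 97), (61, [], 3034), (56, [6, 4, 6, 8, 6, 4, 6, 12, 11, 8, 6, 4, 6, 8, 11, 8, 6, 11], 2128), (34, [4, 8, 6, 4, 13, 10, 8, 6, 4, 10, 8, 6, 4, 6, 11, 8, 6, 11, 8], 2275), (34, [6, 4, 8, 6, 4, 6, 10, 8, 6, 4, 13, 10, 8, 6, 10, 8, 10], 2274)]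

/-- A row. -/
def row118 : CRow := [(118, [1], 3035), (118, [0], 1142), (0, [], 0), (0, [], 0), (118, [10, 9, 11, 11, 7, 5, 7, 9, 11, 7, 5, 7, 9, 10, 7, 5, 7, 9, 10, 9, 5], 3036), (118, [4, 8, 11, 8, 6, 4, 6, 11, 8, 6, 4, 6, 10, 8, 6, 4, 6, 10, 10, 8, 11], 2051), (100, [12, 11, 9, 10], 3037), (100, [12, 11, 8, 10], 354), (84, [4, 8, 6, 4, 13, 10, 8, 6, 4, 6, 11, 8, 6, 4, 11, 8, 6, 10, 8, 6], 2489), (84, [4, 8, 6, 4, 13, 10, 8, 6, 4, 6, 11, 8, 6, 4, 11, 8, 6, 10, 8, 6], 2490), (108, [13], 349), (100, [12], 3038), (35, [], 3039), (106, [13], 3040), (100, [8, 6, 4, 10, 10, 8, 6, 4, 6, 11, 8, 6, 4, 11, 8, 6, 4, 11, 8], 2133), (100, [9, 10, 5, 7, 9, 10, 5, 7, 9, 10, 7, 5, 7, 9, 11, 11, 5, 7, 9], 3041)]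

/-- A row. -/
def row119 : CRow := [(119, [1], 3042), (119, [0], 1059), (0, [], 0), (0, [], 0), (119, [10, 9, 11, 11, 7, 5, 7, 9, 11, 7, 5, 7, 9, 10, 7, 5, 7, 9, 10, 9, 5], 3043), (119, [4, 8, 11, 8, 6, 4, 6, 11, 8, 6, 4, 6, 10, 8, 6, 4, 6, 10, 10, 8, 11], 2122), (101, [10, 9, 11, 12, 9], 3044), (101, [10, 9, 11, 12, 9], 3045), (43, [13], 206), (43, [13], 343), (96, [], 3046), (108, [], 252), (109, [10, 9, 11, 12, 9], 3047), (107, [4, 6, 4, 6, 10, 8, 6, 4, 11, 11, 8, 6, 4, 10, 8, 6, 10, 8, 11, 12], 2370), (79, [8, 6, 4, 10, 10, 8, 6, 4, 10, 8, 6, 4, 12, 10, 8, 6, 4, 10, 8], 2087), (79, [5, 7, 9, 10, 12, 7, 5, 7, 9, 11, 7, 5, 7, 9, 11, 7, 5, 7, 9, 7], 3048)]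

/-- The table. -/
def tab : CTab where
  rt := [[], [14], [14, 6], [14, 6, 14], [14, 6, 8, 14], [14, 10], [14, 10, 10], [14, 11], [14, 11, 11], [14, 10, 13], [14, 11, 13], [14, 6, 11, 11], [14, 6, 10, 13], [14, 6, 11, 13], [14, 6, 11, 13, 14], [14, 6, 11, 8, 12, 11], [14, 6, 11, 8, 12], [14, 6, 8], [14, 6, 11], [14, 6, 11, 11, 14], [14, 6, 11, 8, 10, 13], [14, 6, 11, 8, 14, 6], [14, 6, 11, 8, 14], [14, 6, 11, 8, 13, 10], [14, 6, 11, 8, 13], [14, 6, 11, 8, 13, 14], [14, 6, 11, 14, 11], [14, 6, 11, 14], [14, 6, 11, 8, 10], [14, 6, 11, 8], [14, 6, 10], [14, 6, 10, 10], [14, 6, 8, 11], [14, 6, 8, 11, 8], [14, 6, 8, 11, 8, 10], [14, 6, 8, 11, 8, 11], [14, 6, 10, 8, 13], [14, 6, 8, 11, 11], [14, 6, 10, 8, 10, 13], [14, 6, 14, 10], [14, 6, 8, 14, 10, 8], [14, 6, 10, 14, 11, 11], [14, 6, 10, 8, 10, 8], [14, 6, 11, 8, 10, 10],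 [14, 6, 8, 10, 14, 6, 11], [14, 6, 8, 10, 14, 6], [14, 6, 10, 14, 10, 10], [14, 6, 10, 14, 10], [14, 6, 14, 11], [14, 6, 10, 8], [14, 6, 14, 10, 10], [14, 6, 14, 11, 13], [14, 6, 14, 10, 13], [14, 6, 14, 11, 11], [14, 6, 8, 14, 11], [14, 6, 8, 14, 11, 8], [14, 6, 10, 8, 11, 14], [14, 6, 8, 10, 14, 10], [14, 6, 8, 10, 14], [14, 6, 8, 14, 11, 11], [14, 6, 8, 10, 14, 10, 13], [14, 6, 10, 13, 14, 6], [14, 6, 8, 10, 10, 14, 11], [14, 6, 10, 10, 14, 11], [14, 6, 14, 11, 8, 10], [14, 6, 14, 11, 8], [14, 6, 10, 14], [14, 6, 10, 13, 14, 11], [14, 6, 10, 14, 11, 12], [14, 6, 8, 10, 14, 6, 8], [14, 6, 10, 13, 14], [14, 6, 10, 8, 14, 10], [14, 6, 10, 8, 13, 14], [14, 6, 10, 14, 6, 11], [14, 6, 14, 10, 8], [14, 6, 10, 14, 11], [14, 6, 8, 14, 10], [14, 6, 8, 14, 10, 10], [14, 6, 8, 14, 11, 13], [14, 6, 8, 14, 10, 13], [14, 6, 8, 10],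 [14, 6, 10, 8, 14], [14, 6, 10, 8, 10], [14, 6, 10, 8, 10, 14], [14, 6, 8, 11, 14, 10], [14, 6, 8, 11, 14], [14, 6, 8, 14, 11, 8, 12], [14, 6, 8, 10, 14, 10, 12], [14, 6, 10, 8, 14, 6], [14, 6, 10, 13, 14, 10], [14, 6, 10, 14, 10, 12], [14, 6, 10, 8, 14, 11], [14, 6, 8, 10, 14, 11], [14, 6, 10, 10, 14, 10], [14, 6, 10, 10, 14], [14, 6, 11, 8, 12, 10], [14, 6, 10, 8, 12], [14, 6, 10, 8, 12, 14], [14, 6, 10, 8, 10, 13, 14], [14, 6, 10, 8, 10, 12], [14, 6, 8, 11, 8, 11, 8], [14, 6, 8, 11, 8, 13], [14, 6, 8, 10, 8, 6], [14, 6, 8, 10, 8], [14, 6, 10, 14, 6, 8], [14, 6, 10, 8, 13, 11], [14, 6, 10, 8, 10, 10], [14, 6, 8, 11, 14, 6], [14, 6, 10, 8, 11, 12], [14, 6, 8, 11, 8, 6], [14, 6, 8, 10, 8, 11], [14, 6, 8, 10, 8, 12], [14, 6, 8, 10, 10], [14, 6, 8, 11, 13], [14, 6, 10, 8, 11], [14, 6, 8, 10, 13], [14, 6, 8, 10, 10, 14],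 [14, 6, 10, 14, 6], [14, 6, 8, 11, 8, 11, 13], [14, 6, 10, 8, 12, 11]]
  rows := [row0, row1, row2, row3, row4, row5, row6, row7, row8, row9, row10, row11, row12, row13, row14, row15, row16, row17, row18, row19, row20, row21, row22, row23, row24, row25, row26, row27, row28, row29, row30, row31, row32, row33, row34, row35, row36, row37, row38, row39, row40, row41, row42, row43, row44, row45, row46, row47, row48, row49, row50, row51, row52, row53, row54, row55, row56, row57, row58, row59, row60, row61, row62, row63, row64, row65, row66, row67, row68, row69, row70, row71, row72, row73, row74, row75, row76, row77, row78, row79, row80, row81, row82, row83, row84, row85, row86, row87, row88, row89, row90, row91, row92, row93, row94, row95, row96, row97, row98, row99, row100, row101, row102, row103, row104, row105, row106, row107,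 row108, row109, row110, row111, row112, row113, row114, row115, row116, row117, row118, row119]

end Cfsg.Agent.Lib.ThDce.CSch
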