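import Cfsg.Agent.Lib.ThDce.Words

/-!
The equations `rt j * l = label * rt (j l)` for the cosets of `H₀ = ⟨a, c, d, e, s, t⟩` in
`⟨a, c, d, e, s, t, u⟩`, each proved by rewriting with earlier ones and with relators.
-/

set_option autoImplicit false

namespace Cfsg.Agent.Lib.ThDce

open Cfsg.Agent.Lib.CosetEnum Cfsg.Agent.Lib.ExactCover

/-- Equality of lists of numbers. -/
def leq : List ℕ → List ℕ → Bool
  | [], [] => true
  | a :: u, b :: v => Nat.beq a b && leq u v
  | _, _ => false

theorem leq_eq : ∀ {u v : List ℕ}, leq u v = true → u = v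
  | [], [], _ => rfl
  | a :: u, b :: v, h => by
    simp only [leq, Bool.and_eq_true, Nat.beq_eq] at h
    rw [h.1, leq_eq h.2]
  | [], _ :: _, h => by simp [leq] at h
  | _ :: _, [], h => by simp [leq] at h

/-- A rewriting step. -/
inductive CStep where
  | use (f : ℕ) (rev : Bool)
  | cancel (p : ℕ)
  | ins (p g : ℕ)
  | rel (p m : ℕ) (r : ℕ × Bool × ℕ)
  | insRel (p : ℕ) (r : ℕ × Bool × ℕ)

/-- An equation `x = lab * y` with its proof. -/
structure CFact where
  x : List ℕ
  lab : List ℕ
  y : List ℕ
  steps : List CStep

/-- The fact with the given number. -/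
def cFactAt (ch : List (List CFact)) (i : ℕ) : CFact :=
  (ch.getD (i / 64) []).getD (i % 64) ⟨[], [], [], []⟩

/-- Run one step on a state (label so far, word); `n` bounds the facts to be used. -/
noncomputable def cStep (ch : List (List CFact)) (n : ℕ) (K w : List ℕ) :
    CStep → Option (List ℕ × List ℕ)
  | .use f rev =>
    let F := cFactAt ch f
    bif Nat.blt f n then
      bif rev then
        bif leq (w.take F.y.length) F.y then some (K ++ invWord F.lab, F.x ++ w.drop F.y.length) else none
      else
        bif leq (w.take F.x.length) F.x then some (K ++ F.lab, F.y ++ w.drop F.x.length) else none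
    else none
  | .cancel p =>
    match w.drop p with
    | g :: h :: rest => bif Nat.beq h (ExactCover.flip g) then some (K, w.take p ++ rest) else none
    | _ => none
  | .ins p g => some (K, w.take p ++ [g, ExactCover.flip g] ++ w.drop p)
  | .rel p m r =>
    let R := rot r
    bif leq ((w.drop p).take m) (R.take m) then
      some (K, w.take p ++ invWord (R.drop m) ++ (w.drop p).drop m) else none
  | .insRel p r => some (K, w.take p ++ rot r ++ w.drop p)

/-- Run the steps. -/
noncomputable def cRunSteps (ch : List (List CFact)) (n : ℕ) :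
    List CStep → List ℕ → List ℕ → Option (List ℕ × List ℕ)
  | [], K, w => some (K, w)
  | s :: ss, K, w =>
    match cStep ch n K w s with
    | none => none
    | some q => cRunSteps ch n ss q.1 q.2

/-- Check one equation. -/
noncomputable def cCheck (ch : List (List CFact)) (i : ℕ) : Bool :=
  let F := cFactAt ch i
  okP F.lab &&
    ((leq F.x F.lab && leq F.y []) ||
      match cRunSteps ch i F.steps [] F.x with
      | none => false
      | some q => leq q.2 F.y && pEq q.1 F.lab)

/-- The meaning of an equation. -/
def CRel (F : CFact) : Prop := el F.x = el F.lab * el F.y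

variable {ch : List (List CFact)} {n : ℕ}

theorem cStep_sound (hn : ∀ f < n, CRel (cFactAt ch f)) {K w : List ℕ} {s : CStep} {K' w' : List ℕ}
    (h : cStep ch n K w s = some (K', w')) : el K * el w = el K' * el w' := by
  cases s with
  | use f rev =>
    simp only [cStep] at h
    cases hf : Nat.blt f n with
    | false => simp [hf] at h
    | true =>
      rw [Nat.blt_eq] at hf
      have hF := hn f hf
      simp only [CRel] at hF
      cases rev with
      | false =>
        cases hl : leq (w.take (cFactAt ch f).x.length) (cFactAt ch f).x with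
        | false => simp [hl] at h
        | true =>
          simp only [hl, cond_true, cond_false, show Nat.blt f n = true by rwa [Nat.blt_eq],
            Option.some.injEq, Prod.mk.injEq] at h
          obtain ⟨rfl, rfl⟩ := h
          conv_lhs => rw [← List.take_append_drop (cFactAt ch f).x.length w, leq_eq hl, el_append, hF]
          simp only [el_append, mul_assoc]
      | true =>
        cases hl : leq (w.take (cFactAt ch f).y.length) (cFactAt ch f).y with
        | false => simp [hl] at h
        | true =>
          simp only [hl, cond_true, show Nat.blt f n = true by rwa [Nat.blt_eq], Option.some.injEq,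
            Prod.mk.injEq] at h
          obtain ⟨rfl, rfl⟩ := h
          conv_lhs => rw [← List.take_append_drop (cFactAt ch f).y.length w, leq_eq hl, el_append]
          rw [el_append, el_append, el_invWord, hF]
          simp only [mul_assoc, inv_mul_cancel_left]
  | cancel p =>
    simp only [cStep] at h
    generalize hd : w.drop p = d at h
    match d, h with
    | [], h => simp at h
    | [_], h => simp at h
    | g :: g' :: rest, h =>
      cases hb : Nat.beq g' (ExactCover.flip g) with
      | false => simp [hb] at h
      | true =>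
        simp only [hb, cond_true, Option.some.injEq, Prod.mk.injEq] at h
        obtain ⟨rfl, rfl⟩ := h
        rw [Nat.beq_eq] at hb
        conv_lhs => rw [← List.take_append_drop p w, hd, hb,
          show g :: ExactCover.flip g :: rest = [g, ExactCover.flip g] ++ rest from rfl]
        rw [el_append, el_append, el_append, el_pair, one_mul]
  | ins p g =>
    simp only [cStep, Option.some.injEq, Prod.mk.injEq] at h
    obtain ⟨rfl, rfl⟩ := h
    conv_lhs => rw [← List.take_append_drop p w]
    rw [el_append, el_append, el_append, el_pair, mul_one]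
  | rel p m r =>
    simp only [cStep] at h
    cases hl : leq ((w.drop p).take m) ((rot r).take m) with
    | false => simp [hl] at h
    | true =>
      simp only [hl, cond_true, Option.some.injEq, Prod.mk.injEq] at h
      obtain ⟨rfl, rfl⟩ := h
      conv_lhs => rw [← List.take_append_drop p w, ← List.take_append_drop m (w.drop p), leq_eq hl]
      have hR := el_rot r
      rw [← List.take_append_drop m (rot r), el_append] at hR
      simp only [el_append, el_invWord, eq_inv_of_mul_eq_one_left hR, mul_assoc]
  | insRel p r =>
    simp only [cStep, Option.some.injEq, Prod.mk.injEq] at h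
    obtain ⟨rfl, rfl⟩ := h
    conv_lhs => rw [← List.take_append_drop p w]
    rw [el_append, el_append, el_append, el_rot, mul_one]

theorem cRunSteps_sound (hn : ∀ f < n, CRel (cFactAt ch f)) : ∀ (ss : List CStep) (K w K' w' : List ℕ),
    cRunSteps ch n ss K w = some (K', w') → el K * el w = el K' * el w' := by
  intro ss
  induction ss with
  | nil =>
    intro K w K' w' h
    simp only [cRunSteps, Option.some.injEq, Prod.mk.injEq] at h
    rw [h.1, h.2]
  | cons s ss ih =>
    intro K w K' w' h
    simp only [cRunSteps] at h
    cases hs : cStep ch n K w s with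
    | none => simp [hs] at h
    | some q =>
      obtain ⟨q1, q2⟩ := q
      simp only [hs] at h
      exact (cStep_sound hn hs).trans (ih _ _ _ _ h)

theorem cCheck_sound {N : ℕ} (hc : ∀ i < N, cCheck ch i = true) : ∀ i < N, CRel (cFactAt ch i) := by
  intro i
  induction i using Nat.strong_induction_on with
  | _ i ih =>
    intro hi
    have h := hc i hi
    simp only [cCheck, Bool.and_eq_true, Bool.or_eq_true] at h
    rcases h.2 with ⟨h1, h2⟩ | h2
    · rw [CRel, leq_eq h1, leq_eq h2, el_nil, mul_one]
    · cases hr : cRunSteps ch i (cFactAt ch i).steps [] (cFactAt ch i).x with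
      | none => simp [hr] at h2
      | some q =>
        obtain ⟨K, w⟩ := q
        simp only [hr, Bool.and_eq_true] at h2
        have := cRunSteps_sound (fun f hf => ih f hf (hf.trans hi)) _ _ _ _ _ hr
        rw [el_nil, one_mul] at this
        rw [CRel, this, leq_eq h2.1, pEq_el h2.2]

theorem scan_append (K : ℕ) (t : PTree) : ∀ (u v : List ℕ) (i : ℕ),
    scan K t (u ++ v) i = scan K t v (scan K t u i)
  | [], v, i => rfl
  | g :: u, v, i => by
    change force _ (scan K t (u ++ v)) = scan K t v (force _ (scan K t u))
    simp only [force_eq, scan_append K t u v]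

/-- A row of the table: for each letter, target, label and the number of its equation. -/
abbrev CRow := List (ℕ × List ℕ × ℕ)

/-- A coset table with labels. -/
structure CTab where
  rt : List (List ℕ)
  rows : List CRow

namespace CTab

variable (T : CTab)

/-- The representative of a coset. -/
def rep (j : ℕ) : List ℕ := T.rt.getD j []

/-- The entry of a coset and a letter. -/
def entry (j g : ℕ) : ℕ × List ℕ × ℕ := (T.rows.getD j []).getD g (0, [], 0)

/-- Letters of `⟨a, c, d, e, s, t, u⟩`. -/
def okLetter (g : ℕ) : Bool := Nat.blt g 16 && !Nat.beq g 2 && !Nat.beq g 3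

/-- All letters are letters of `⟨a, c, d, e, s, t, u⟩`. -/
def okC (l : List ℕ) : Bool := l.all okLetter

/-- The coset reached by a word and the product of the labels met. -/
noncomputable def run : List ℕ → ℕ → ℕ × List ℕ
  | [], j => (j, [])
  | g :: w, j => force (T.entry j g).1 fun j' =>
      let r := run w j'
      (r.1, (T.entry j g).2.1 ++ r.2)

/-- Check the table against the equations at one coset. -/
noncomputable def checkAt (ch : List (List CFact)) (N j : ℕ) : Bool :=
  (List.range 16).all fun g => !okLetter g ||
    (let e := T.entry j g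
     let F := cFactAt ch e.2.2
     Nat.blt e.2.2 N && Nat.blt e.1 120 && okP e.2.1 && Nat.beq (scan 14 ThP.table e.2.1 0) 0 &&
       leq F.x (T.rep j ++ [g]) && leq F.lab e.2.1 && leq F.y (T.rep e.1) &&
       Nat.beq (T.entry e.1 (ExactCover.flip g)).1 j)

/-- The table is proved. -/
structure OK : Prop where
  rep0 : T.rep 0 = []
  repOK : ∀ j < 120, okC (T.rep j) = true
  lt : ∀ j < 120, ∀ g, okLetter g = true → (T.entry j g).1 < 120
  lab : ∀ j < 120, ∀ g, okLetter g = true →
    okP (T.entry j g).2.1 = true ∧ scan 14 ThP.table (T.entry j g).2.1 0 = 0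
  inv : ∀ j < 120, ∀ g, okLetter g = true → (T.entry (T.entry j g).1 (ExactCover.flip g)).1 = j
  eq : ∀ j < 120, ∀ g, okLetter g = true →
    el (T.rep j) * el [g] = el (T.entry j g).2.1 * el (T.rep (T.entry j g).1)

theorem ok_of_checks {ch : List (List CFact)} {N : ℕ} (h0 : leq (T.rep 0) [] = true)
    (h1 : allBelow 120 (fun j => okC (T.rep j)) = true) (hc : ∀ i < N, cCheck ch i = true)
    (ht : ∀ j < 120, T.checkAt ch N j = true) : T.OK := by
  have key : ∀ j < 120, ∀ g, okLetter g = true →
      (T.entry j g).2.2 < N ∧ (T.entry j g).1 < 120 ∧ okP (T.entry j g).2.1 = true ∧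
      scan 14 ThP.table (T.entry j g).2.1 0 = 0 ∧
      (cFactAt ch (T.entry j g).2.2).x = T.rep j ++ [g] ∧
      (cFactAt ch (T.entry j g).2.2).lab = (T.entry j g).2.1 ∧
      (cFactAt ch (T.entry j g).2.2).y = T.rep (T.entry j g).1 ∧
      (T.entry (T.entry j g).1 (ExactCover.flip g)).1 = j := by
    intro j hj g hg
    have hg16 : g < 16 := by simp [okLetter] at hg; omega
    have := ht j hj
    simp only [checkAt, List.all_eq_true, List.mem_range] at this
    have := this g hg16
    simp only [hg, Bool.not_true, Bool.false_or, Bool.and_eq_true, Nat.blt_eq, Nat.beq_eq] at this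
    obtain ⟨⟨⟨⟨⟨⟨⟨a, b⟩, c⟩, d⟩, e⟩, f⟩, k⟩, l⟩ := this
    exact ⟨a, b, c, d, leq_eq e, leq_eq f, leq_eq k, l⟩
  refine ⟨leq_eq h0, fun j hj => allBelow_iff.1 h1 j hj, fun j hj g hg => (key j hj g hg).2.1,
    fun j hj g hg => ⟨(key j hj g hg).2.2.1, (key j hj g hg).2.2.2.1⟩,
    fun j hj g hg => (key j hj g hg).2.2.2.2.2.2.2, fun j hj g hg => ?_⟩
  obtain ⟨a, -, -, -, e, f, k, -⟩ := key j hj g hg
  have := cCheck_sound hc _ a
  rw [CRel, e, f, k, el_append] at this
  exact this

variable {T}

theorem run_sound (hT : T.OK) : ∀ (w : List ℕ) (j : ℕ), okC w = true → j < 120 →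
    (T.run w j).1 < 120 ∧ okP (T.run w j).2 = true ∧ scan 14 ThP.table (T.run w j).2 0 = 0 ∧
      el (T.rep j) * el w = el (T.run w j).2 * el (T.rep (T.run w j).1) := by
  intro w
  induction w with
  | nil => intro j _ hj; exact ⟨hj, rfl, rfl, by simp [run, el_nil]⟩
  | cons g w ih =>
    intro j hw hj
    simp only [okC, List.all_cons, Bool.and_eq_true] at hw
    obtain ⟨h1, h2, h3, h4⟩ := ih _ hw.2 (hT.lt j hj g hw.1)
    obtain ⟨l1, l2⟩ := hT.lab j hj g hw.1
    simp only [run, force_eq]
    refine ⟨h1, okP_append l1 h2, ?_, ?_⟩
    · rw [scan_append, l2, h3]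
    · rw [el_cons g w, ← mul_assoc, hT.eq j hj g hw.1, mul_assoc, h4, el_append, mul_assoc]

end CTab

end Cfsg.Agent.Lib.ThDce
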